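import Cfsg.Agent.Lib.KnownB.OreSp.Poly

/-!
Polynomials coprime to their conjugate reversal.
-/

set_option autoImplicit false

namespace CfsgLib.KnownB.OreSU

open Matrix Polynomial
open CfsgLib.KnownB.OreSp (aeval_reflect aeval_semiconj)

variable {F : Type*} [Field F] [StarRing F]

/-- `Q` is a conjugate reversal of `P`. -/
def SRev (P Q : F[X]) : Prop :=
  ∃ N, P.natDegree ≤ N ∧ (P.map (starRingEnd F)).reflect N = Q

theorem SRev.mul {P Q P' Q' : F[X]} (h : SRev P Q) (h' : SRev P' Q') : SRev (P * P') (Q * Q') := by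
  obtain ⟨N, hN, rfl⟩ := h
  obtain ⟨N', hN', rfl⟩ := h'
  refine ⟨N + N', natDegree_mul_le.trans (by omega), ?_⟩
  rw [Polynomial.map_mul, reflect_mul _ _ (natDegree_map_le.trans hN) (natDegree_map_le.trans hN')]

/-- A polynomial coprime to its conjugate reversal. -/
def SApart (P : F[X]) : Prop := ∃ Q, SRev P Q ∧ IsCoprime P Q

theorem map_star_map_star (P : F[X]) :
    (P.map (starRingEnd F)).map (starRingEnd F) = P := by
  ext i; simp [coeff_map]

theorem SApart.conj {P : F[X]} (h : SApart P) : SApart (P.map (starRingEnd F)) := by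
  obtain ⟨Q, ⟨N, hN, rfl⟩, hc⟩ := h
  refine ⟨_, ⟨N, natDegree_map_le.trans hN, rfl⟩, ?_⟩
  have h2 := hc.map (mapRingHom (starRingEnd F))
  simp only [coe_mapRingHom] at h2
  rw [← reflect_map] at h2
  exact h2

variable {l m : Type*} [Fintype l] [DecidableEq l]

theorem aeval_conjTranspose (A : Matrix l l F) (P : F[X]) :
    aeval Aᴴ (P.map (starRingEnd F)) = (aeval A P)ᴴ := by
  induction P using Polynomial.induction_on' with
  | add p q hp hq => simp [hp, hq]
  | monomial n r => simp [Algebra.algebraMap_eq_smul_one, Matrix.conjTranspose_pow, starRingEnd_apply]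

/-- A matrix killed by an apart polynomial preserves no hermitian form. -/
theorem SApart.eq_zero {P : F[X]} (hP : SApart P) {A T : Matrix l l F} (hA : IsUnit A.det)
    (hz : aeval A P = 0) (hT : A * T * Aᴴ = T) : T = 0 := by
  obtain ⟨Q, ⟨N, hN, rfl⟩, a, b, hab⟩ := hP
  have hs : T * Aᴴ = A⁻¹ * T := by
    conv_rhs => rw [← hT, Matrix.mul_assoc A, Matrix.nonsing_inv_mul_cancel_left _ _ hA]
  have h1 : aeval A⁻¹ (P.map (starRingEnd F)) * T = 0 := by
    rw [← aeval_semiconj hs, aeval_conjTranspose, hz, conjTranspose_zero, mul_zero]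
  have h0 := aeval_reflect A⁻¹ A (Matrix.mul_nonsing_inv _ hA) N (P.map (starRingEnd F))
    (natDegree_map_le.trans hN)
  have hu : IsUnit (A⁻¹ ^ N) :=
    ((Matrix.isUnit_iff_isUnit_det _).2 (Matrix.isUnit_nonsing_inv_det _ hA)).pow N
  have hc : Commute (aeval A ((P.map (starRingEnd F)).reflect N)) (A⁻¹ ^ N) :=
    ((show Commute A⁻¹ _ from aeval_semiconj
      (show A⁻¹ * A = A * A⁻¹ by rw [Matrix.nonsing_inv_mul _ hA, Matrix.mul_nonsing_inv _ hA])
      _).pow_left N).symm
  have h2 : aeval A ((P.map (starRingEnd F)).reflect N) * T = 0 := by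
    apply hu.mul_left_cancel
    rw [mul_zero, ← mul_assoc, ← hc.eq, h0, h1]
  calc T = aeval A (a * P + b * (P.map (starRingEnd F)).reflect N) * T := by
        rw [hab, map_one, one_mul]
    _ = 0 := by rw [map_add, map_mul, map_mul, hz, mul_zero, zero_add, mul_assoc, h2, mul_zero]

theorem SApart.eq_zero' {P : F[X]} (hP : SApart P) {A T : Matrix l l F} (hA : IsUnit A.det)
    (hz : aeval A P = 0) (hT : Aᴴ * T * A = T) : T = 0 :=
  hP.conj.eq_zero (A := Aᴴ) (by rw [det_conjTranspose]; exact hA.star)
    (by rw [aeval_conjTranspose, hz, conjTranspose_zero]) (by rwa [conjTranspose_conjTranspose])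

omit [Fintype l] [DecidableEq l] in
theorem SApart.eval_ne_zero {P : F[X]} (hP : SApart P) {d : F} (hd : d * star d = 1) :
    P.eval d ≠ 0 := by
  intro h
  obtain ⟨Q, ⟨N, hN, rfl⟩, a, b, hab⟩ := hP
  have h0 := aeval_reflect (star d) d hd N (P.map (starRingEnd F)) (natDegree_map_le.trans hN)
  have h1 : (P.map (starRingEnd F)).eval (star d) = 0 := by
    rw [show (star d : F) = starRingEnd F d from rfl, eval_map_apply, h, map_zero]
  rw [← Polynomial.coe_aeval_eq_eval] at h h1
  rw [h1] at h0
  have hne : star d ^ N ≠ 0 := pow_ne_zero _ (right_ne_zero_of_mul_eq_one hd)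
  have h2 := (mul_eq_zero.1 h0).resolve_right hne
  have := congrArg (aeval d) hab
  rw [map_add, map_mul, map_mul, h, h2, mul_zero, mul_zero, add_zero, map_one] at this
  exact zero_ne_one this

variable [Fintype m] [DecidableEq m]

/-- No eigenvalue on the norm one elements. -/
theorem SApart.eq_zero_diag {P : F[X]} (hP : SApart P) {A : Matrix l l F} (hz : aeval A P = 0)
    {d : m → F} (hd : ∀ j, d j * star (d j) = 1) {x : Matrix l m F}
    (hx : A * x = x * diagonal d) : x = 0 := by
  ext i j
  let v : l → F := fun i => x i j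
  have hv : A *ᵥ v = d j • v := funext fun i => by
    have := congrFun (congrFun hx i) j
    rw [mul_diagonal, mul_apply] at this
    simpa [v, mulVec, dotProduct, mul_comm] using this
  have key : ∀ R : F[X], aeval A R *ᵥ v = R.eval (d j) • v := by
    intro R
    induction R using Polynomial.induction_on' with
    | add p q hp hq => simp [add_mulVec, hp, hq, add_smul]
    | monomial n r =>
      have hp : ∀ n, A ^ n *ᵥ v = d j ^ n • v := fun n => by
        induction n with
        | zero => simp
        | succ n ih => rw [pow_succ, ← mulVec_mulVec, hv, mulVec_smul, ih, smul_smul, pow_succ, mul_comm]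
      simp [Algebra.algebraMap_eq_smul_one, smul_mulVec, hp, smul_smul, eval_monomial]
  have := key P
  rw [hz, zero_mulVec, eq_comm] at this
  exact congrFun ((smul_eq_zero.1 this).resolve_left (hP.eval_ne_zero (hd j))) i

theorem srev_X_sub_C (c : F) : SRev (X - C c) (1 - C (star c) * X) := by
  refine ⟨1, (natDegree_X_sub_C c).le, ?_⟩
  ext i
  rw [Polynomial.map_sub, map_X, map_C, coeff_reflect]
  rcases i with _ | _ | i <;> simp [revAt_eq_self_of_lt, revAt_le, coeff_X, coeff_C, coeff_one, starRingEnd_apply]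

theorem coprime_X_sub_C (c d : F) (h : c * star d ≠ 1) :
    IsCoprime (X - C c) (1 - C (star d) * X) := by
  have hu : 1 - c * star d ≠ 0 := sub_ne_zero.2 (Ne.symm h)
  refine ⟨C ((1 - c * star d)⁻¹ * star d), C (1 - c * star d)⁻¹, ?_⟩
  have e : (C (1 - c * star d)⁻¹ : F[X]) * (1 - C c * C (star d)) = 1 := by
    rw [← C_mul, ← C_1, ← C_sub, ← C_mul, inv_mul_cancel₀ hu]
  rw [C_mul]
  linear_combination e

/-- Products of linear factors. -/
theorem apart_of_roots (l : List F) (h : ∀ c ∈ l, ∀ d ∈ l, c * star d ≠ 1) :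
    SApart (l.map fun c => X - C c).prod := by
  refine ⟨(l.map fun c => 1 - C (star c) * X).prod, ?_, ?_⟩
  · clear h
    induction l with
    | nil => exact ⟨0, by simp, by simp⟩
    | cons c l ih => simpa using (srev_X_sub_C c).mul ih
  · suffices H : ∀ l₁ : List F, (∀ c ∈ l₁, ∀ d ∈ l, c * star d ≠ 1) →
        IsCoprime (l₁.map fun c => X - C c).prod (l.map fun c => 1 - C (star c) * X).prod from H l h
    intro l₁ h₁
    induction l₁ with
    | nil => simpa using isCoprime_one_left
    | cons c l₁ ih =>
      rw [List.map_cons, List.prod_cons]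
      refine IsCoprime.mul_left ?_ (ih fun x hx => h₁ x (List.mem_cons_of_mem _ hx))
      have hc := h₁ c List.mem_cons_self
      clear h₁ ih h
      induction l with
      | nil => simpa using isCoprime_one_right
      | cons d l ih =>
        rw [List.map_cons, List.prod_cons]
        exact IsCoprime.mul_right (coprime_X_sub_C c d (hc d List.mem_cons_self))
          (ih fun x hx => hc x (List.mem_cons_of_mem _ hx))

end CfsgLib.KnownB.OreSU
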