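import Cfsg.Agent.Lib.KnownB.OreSU.Apart
import Cfsg.Agent.Lib.KnownB.Thompson.Cover

/-!
The unitary group of a split form with an anisotropic middle, and commutators from a corner.
-/

set_option autoImplicit false
set_option linter.unusedSectionVars false

namespace CfsgLib.KnownB.OreSU

open Matrix Polynomial CfsgLib.Thompson

variable {F : Type*} [Field F] [StarRing F]
variable {ι ρ : Type*} [Fintype ι] [DecidableEq ι] [Fintype ρ] [DecidableEq ρ]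

/-- The index set: `ι` twice around `ρ`. -/
abbrev Idx (ι ρ : Type*) := ι ⊕ (ρ ⊕ ι)

/-- A matrix from nine blocks. -/
def blk (A : Matrix ι ι F) (B : Matrix ι ρ F) (C : Matrix ι ι F) (D : Matrix ρ ι F)
    (E : Matrix ρ ρ F) (G : Matrix ρ ι F) (H : Matrix ι ι F) (K : Matrix ι ρ F)
    (L : Matrix ι ι F) : Matrix (Idx ι ρ) (Idx ι ρ) F :=
  fromBlocks A (fromCols B C) (fromRows D H) (fromBlocks E G K L)

variable {A A' : Matrix ι ι F} {B B' : Matrix ι ρ F} {C C' : Matrix ι ι F} {D D' : Matrix ρ ι F}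
  {E E' : Matrix ρ ρ F} {G G' : Matrix ρ ι F} {H H' : Matrix ι ι F} {K K' : Matrix ι ρ F}
  {L L' : Matrix ι ι F}

theorem blk_mul : blk A B C D E G H K L * blk A' B' C' D' E' G' H' K' L' =
    blk (A * A' + B * D' + C * H') (A * B' + B * E' + C * K') (A * C' + B * G' + C * L')
      (D * A' + E * D' + G * H') (D * B' + E * E' + G * K') (D * C' + E * G' + G * L')
      (H * A' + K * D' + L * H') (H * B' + K * E' + L * K') (H * C' + K * G' + L * L') := by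
  ext (i | i | i) (j | j | j) <;>
    simp [blk, Matrix.mul_apply, Fintype.sum_sum_type, add_assoc]

theorem blk_conjTranspose :
    (blk A B C D E G H K L)ᴴ = blk Aᴴ Dᴴ Hᴴ Bᴴ Eᴴ Kᴴ Cᴴ Gᴴ Lᴴ := by
  ext (i | i | i) (j | j | j) <;> simp [blk]

theorem blk_inj : blk A B C D E G H K L = blk A' B' C' D' E' G' H' K' L' ↔
    A = A' ∧ B = B' ∧ C = C' ∧ D = D' ∧ E = E' ∧ G = G' ∧ H = H' ∧ K = K' ∧ L = L' := by
  refine ⟨fun h => ?_, fun h => by obtain ⟨rfl, rfl, rfl, rfl, rfl, rfl, rfl, rfl, rfl⟩ := h; rfl⟩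
  simp only [blk, fromBlocks_inj, fromCols_inj.eq_iff, fromRows_inj.eq_iff] at h
  tauto

theorem exists_blk (X : Matrix (Idx ι ρ) (Idx ι ρ) F) :
    ∃ A B C D E G H K L, X = blk A B C D E G H K L := by
  refine ⟨X.toBlocks₁₁, X.toBlocks₁₂.toCols₁, X.toBlocks₁₂.toCols₂, X.toBlocks₂₁.toRows₁,
    X.toBlocks₂₂.toBlocks₁₁, X.toBlocks₂₂.toBlocks₁₂, X.toBlocks₂₁.toRows₂,
    X.toBlocks₂₂.toBlocks₂₁, X.toBlocks₂₂.toBlocks₂₂, ?_⟩
  rw [blk, fromCols_toCols, fromRows_toRows, fromBlocks_toBlocks, fromBlocks_toBlocks]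

theorem blk_one : (1 : Matrix (Idx ι ρ) (Idx ι ρ) F) = blk 1 0 0 0 1 0 0 0 1 := by
  ext (i | i | i) (j | j | j) <;> simp [blk, one_apply]

theorem det_blk_upper : (blk A B C 0 E G 0 0 L).det = A.det * (E.det * L.det) := by
  rw [blk, fromRows_zero, det_fromBlocks_zero₂₁, det_fromBlocks_zero₂₁]

/-- The form. -/
def Jm : Matrix (Idx ι ρ) (Idx ι ρ) F := blk 0 0 1 0 1 0 1 0 0

theorem Jm_mul_Jm : (Jm : Matrix (Idx ι ρ) (Idx ι ρ) F) * Jm = 1 := by
  rw [Jm, blk_mul, blk_one]; simp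

theorem Jm_conjTranspose : (Jm : Matrix (Idx ι ρ) (Idx ι ρ) F)ᴴ = Jm := by
  rw [Jm, blk_conjTranspose]; simp

variable (F ι ρ) in
/-- The isometries of the form. -/
def UJ : Subgroup (GL (Idx ι ρ) F) where
  carrier := {g | g.1ᴴ * Jm * g.1 = Jm}
  one_mem' := by simp
  mul_mem' {a b} ha hb := by
    show (a.1 * b.1)ᴴ * Jm * (a.1 * b.1) = Jm
    calc (a.1 * b.1)ᴴ * Jm * (a.1 * b.1) = b.1ᴴ * (a.1ᴴ * Jm * a.1) * b.1 := by
          simp only [conjTranspose_mul, Matrix.mul_assoc]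
      _ = Jm := by rw [ha]; exact hb
  inv_mem' {a} ha := by
    show (a⁻¹).1ᴴ * Jm * (a⁻¹).1 = Jm
    conv_lhs => rw [← show a.1ᴴ * Jm * a.1 = Jm from ha]
    simp only [Matrix.mul_assoc, a.mul_inv, Matrix.mul_one]
    rw [← Matrix.mul_assoc, ← conjTranspose_mul, a.mul_inv, conjTranspose_one, Matrix.one_mul]

/-- An element from a matrix. -/
def mkU (X : Matrix (Idx ι ρ) (Idx ι ρ) F) (h : Xᴴ * Jm * X = Jm) : UJ F ι ρ :=
  have h' : Jm * Xᴴ * Jm * X = 1 := by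
    rw [Matrix.mul_assoc Jm Xᴴ, Matrix.mul_assoc Jm, h, Jm_mul_Jm]
  ⟨⟨X, Jm * Xᴴ * Jm, mul_eq_one_comm.1 h', h'⟩, h⟩

@[simp] theorem mkU_val (X : Matrix (Idx ι ρ) (Idx ι ρ) F) (h : Xᴴ * Jm * X = Jm) :
    (mkU X h).1.1 = X := rfl

theorem uj_ext {g g' : UJ F ι ρ} (h : g.1.1 = g'.1.1) : g = g' := Subtype.ext (Units.ext h)

@[simp] theorem uj_mul_val (g g' : UJ F ι ρ) : (g * g').1.1 = g.1.1 * g'.1.1 := rfl

variable (F ι ρ) in
/-- The determinant. -/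
noncomputable def dU : UJ F ι ρ →* Fˣ := Matrix.GeneralLinearGroup.det.comp (UJ F ι ρ).subtype

theorem dU_eq_one_iff {g : UJ F ι ρ} : dU F ι ρ g = 1 ↔ g.1.1.det = 1 := by
  rw [← Units.val_inj]; rfl

/-- Commutators of elements of determinant one. -/
def IsComm1 (g : UJ F ι ρ) : Prop :=
  ∃ a b : UJ F ι ρ, dU F ι ρ a = 1 ∧ dU F ι ρ b = 1 ∧ g = a * b * a⁻¹ * b⁻¹

theorem IsComm1.conj {g : UJ F ι ρ} (h : IsComm1 g) (c : UJ F ι ρ) : IsComm1 (c * g * c⁻¹) := by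
  obtain ⟨a, b, ha, hb, rfl⟩ := h
  exact ⟨c * a * c⁻¹, c * b * c⁻¹, by simp [ha], by simp [hb], by group⟩

theorem IsComm1.of_conj {g : UJ F ι ρ} (c : UJ F ι ρ) (h : IsComm1 (c * g * c⁻¹)) : IsComm1 g := by
  simpa [mul_assoc] using h.conj c⁻¹

/-- The Levi element. -/
noncomputable def lev (L : Matrix ι ι F) (h : Matrix ρ ρ F) (hL : IsUnit L.det) (hh : hᴴ * h = 1) :
    UJ F ι ρ :=
  mkU (blk L 0 0 0 h 0 0 0 (Lᴴ)⁻¹) (by
    have hL' : IsUnit (Lᴴ).det := by rw [det_conjTranspose]; exact hL.star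
    rw [Jm, blk_conjTranspose, blk_mul, blk_mul]
    simp [hh, conjTranspose_nonsing_inv, Matrix.mul_nonsing_inv _ hL', Matrix.nonsing_inv_mul _ hL])

@[simp] theorem lev_val (L : Matrix ι ι F) (h : Matrix ρ ρ F) (hL : IsUnit L.det) (hh : hᴴ * h = 1) :
    (lev L h hL hh).1.1 = blk L 0 0 0 h 0 0 0 (Lᴴ)⁻¹ := rfl

theorem det_lev (L : Matrix ι ι F) (h : Matrix ρ ρ F) (hL : IsUnit L.det) (hh : hᴴ * h = 1) :
    (lev L h hL hh).1.1.det = L.det / star L.det * h.det := by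
  rw [lev_val, det_blk_upper, det_nonsing_inv, det_conjTranspose, Ring.inverse_eq_inv]
  ring

/-- The upper unipotent element. -/
def upE (a : Matrix ι ρ F) (b : Matrix ι ι F) (h : b + bᴴ + a * aᴴ = 0) : UJ F ι ρ :=
  mkU (blk 1 a b 0 1 (-aᴴ) 0 0 1) (by
    have e : b + a * aᴴ + bᴴ = 0 := by rw [← h]; abel
    rw [Jm, blk_conjTranspose, blk_mul, blk_mul]
    simp [e])

@[simp] theorem upE_val (a : Matrix ι ρ F) (b : Matrix ι ι F) (h : b + bᴴ + a * aᴴ = 0) :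
    (upE a b h).1.1 = blk 1 a b 0 1 (-aᴴ) 0 0 1 := rfl

theorem dU_upE (a : Matrix ι ρ F) (b : Matrix ι ι F) (h : b + bᴴ + a * aᴴ = 0) :
    dU F ι ρ (upE a b h) = 1 := by
  rw [dU_eq_one_iff, upE_val, det_blk_upper]; simp

variable (F ι ρ) in
/-- The upper unipotent subgroup. -/
def Up : Subgroup (UJ F ι ρ) where
  carrier := {g | ∃ a b h, g = upE a b h}
  one_mem' := ⟨0, 0, by simp, uj_ext (by simp [blk_one])⟩
  mul_mem' := by
    rintro _ _ ⟨a, b, h, rfl⟩ ⟨a', b', h', rfl⟩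
    refine ⟨a + a', b + b' - a * a'ᴴ, ?_, uj_ext ?_⟩
    · simp only [conjTranspose_add, conjTranspose_sub, conjTranspose_mul, conjTranspose_conjTranspose,
        Matrix.add_mul, Matrix.mul_add]
      linear_combination (norm := abel) h + h'
    · simp only [uj_mul_val, upE_val, blk_mul]
      congr 1 <;> simp <;> abel
  inv_mem' := by
    rintro _ ⟨a, b, h, rfl⟩
    refine ⟨-a, bᴴ, ?_, inv_eq_of_mul_eq_one_right (uj_ext ?_)⟩
    · simp only [conjTranspose_neg, conjTranspose_conjTranspose, Matrix.neg_mul, Matrix.mul_neg, neg_neg]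
      linear_combination (norm := abel) h
    · simp only [uj_mul_val, upE_val, blk_mul, blk_one, OneMemClass.coe_one, Units.val_one]
      congr 1 <;> simp
      linear_combination (norm := abel) h

theorem dU_of_mem_Up {u : UJ F ι ρ} (hu : u ∈ Up F ι ρ) : dU F ι ρ u = 1 := by
  obtain ⟨a, b, h, rfl⟩ := hu
  exact dU_upE a b h

theorem lev_mul_upE_mem (L : Matrix ι ι F) (h : Matrix ρ ρ F) (hL : IsUnit L.det)
    (hh : hᴴ * h = 1) {u : UJ F ι ρ} (hu : u ∈ Up F ι ρ) :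
    lev L h hL hh * u * (lev L h hL hh)⁻¹ ∈ Up F ι ρ := by
  obtain ⟨a, b, e, rfl⟩ := hu
  have hL' : IsUnit (Lᴴ).det := by rw [det_conjTranspose]; exact hL.star
  have hh' : h * hᴴ = 1 := mul_eq_one_comm.1 hh
  refine ⟨L * a * hᴴ, L * b * Lᴴ, ?_, ?_⟩
  · have : L * a * hᴴ * (L * a * hᴴ)ᴴ = L * (a * aᴴ) * Lᴴ := by
      simp only [conjTranspose_mul, conjTranspose_conjTranspose, Matrix.mul_assoc]
      rw [← Matrix.mul_assoc hᴴ, hh, Matrix.one_mul]
    rw [this, conjTranspose_mul, conjTranspose_mul, conjTranspose_conjTranspose,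
      ← Matrix.mul_assoc L bᴴ, ← Matrix.add_mul, ← Matrix.mul_add, ← Matrix.add_mul, ← Matrix.mul_add, e]
    simp
  · rw [mul_inv_eq_iff_eq_mul]
    refine uj_ext ?_
    simp only [uj_mul_val, upE_val, lev_val, blk_mul]
    congr 1 <;>
      simp [Matrix.mul_assoc, hh, Matrix.mul_nonsing_inv _ hL', conjTranspose_mul]

/-- A Levi element without fixed vectors in the upper unipotent subgroup. -/
theorem fpf_up (L : Matrix ι ι F) (h : Matrix ρ ρ F) (hL : IsUnit L.det) (hh : hᴴ * h = 1)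
    (h1 : ∀ a : Matrix ι ρ F, L * a = a * h → a = 0)
    (h2 : ∀ T : Matrix ι ι F, L * T * Lᴴ = T → T = 0) : Fpf (Up F ι ρ) (lev L h hL hh) := by
  refine ⟨fun r hr => lev_mul_upE_mem L h hL hh hr, ?_⟩
  rintro _ ⟨a, b, e, rfl⟩ hc
  have hL' : IsUnit (Lᴴ).det := by rw [det_conjTranspose]; exact hL.star
  have hc' := congrArg (fun g : UJ F ι ρ => g.1.1) hc
  simp only [uj_mul_val, upE_val, lev_val, blk_mul] at hc'
  obtain ⟨-, ea, eb, -⟩ := blk_inj.1 hc'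
  simp at ea eb
  have ha := h1 a ea
  subst ha
  have hb : L * b * Lᴴ = b := by
    rw [show L * b = b * (Lᴴ)⁻¹ by simpa using eb, Matrix.nonsing_inv_mul_cancel_right _ _ hL']
  have := h2 b hb
  subst this
  exact uj_ext (by simp [blk_one])

/-- The flip. -/
def wJ : UJ F ι ρ := mkU Jm (by rw [Jm_conjTranspose, Jm_mul_Jm, Matrix.one_mul])

theorem wJ_inv : (wJ : UJ F ι ρ)⁻¹ = wJ :=
  inv_eq_of_mul_eq_one_right (uj_ext (by simp [wJ, Jm_mul_Jm]))

variable (F ι ρ) in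
/-- The lower unipotent subgroup. -/
def Low : Subgroup (UJ F ι ρ) := (Up F ι ρ).comap (MulAut.conj (wJ : UJ F ι ρ)).toMonoidHom

theorem mem_Low {u : UJ F ι ρ} : u ∈ Low F ι ρ ↔ wJ * u * wJ⁻¹ ∈ Up F ι ρ := Iff.rfl

theorem dU_of_mem_Low {u : UJ F ι ρ} (hu : u ∈ Low F ι ρ) : dU F ι ρ u = 1 := by
  have := dU_of_mem_Up (mem_Low.1 hu)
  simpa [mul_right_comm] using this

theorem flip_lev (L : Matrix ι ι F) (h : Matrix ρ ρ F) (hL : IsUnit L.det) (hh : hᴴ * h = 1)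
    (hL' : IsUnit ((Lᴴ)⁻¹).det) :
    wJ * lev L h hL hh * wJ⁻¹ = lev (Lᴴ)⁻¹ h hL' hh := by
  refine uj_ext ?_
  rw [wJ_inv]
  simp [wJ, Jm, blk_mul, conjTranspose_nonsing_inv, Matrix.nonsing_inv_nonsing_inv _ hL]

variable [Finite F]

/-- Both unipotent subgroups absorb. -/
theorem fpf_of_apart {Φ : F[X]} (hΦ : SApart Φ) (L : Matrix ι ι F) (hL : IsUnit L.det)
    (hz : aeval L Φ = 0) (d : ρ → F) (hd : ∀ i, d i * star (d i) = 1)
    (hh : (diagonal d)ᴴ * diagonal d = 1) :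
    Fpf (Up F ι ρ) (lev L (diagonal d) hL hh) ∧ Fpf (Low F ι ρ) (lev L (diagonal d) hL hh) := by
  have hu := fpf_up L (diagonal d) hL hh (fun a e => hΦ.eq_zero_diag hz hd e)
    (fun T e => hΦ.eq_zero hL hz e)
  refine ⟨hu, ⟨fun r hr => ?_, fun r hr e => ?_⟩⟩
  all_goals
    have hLs : IsUnit (Lᴴ).det := by rw [det_conjTranspose]; exact hL.star
    have hL' := Matrix.isUnit_nonsing_inv_det _ hLs
  · rw [mem_Low] at hr ⊢
    have := lev_mul_upE_mem _ _ hL' hh hr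
    rw [← flip_lev L _ hL hh hL'] at this
    simpa [mul_assoc] using this
  · have hf : Fpf (Up F ι ρ) (lev (Lᴴ)⁻¹ (diagonal d) hL' hh) := by
      refine fpf_up _ _ hL' hh (fun a ha => ?_) (fun T hT => hΦ.eq_zero' hL hz ?_)
      · have hdd : ∀ i, star (d i) * star (star (d i)) = 1 := fun i => by
          rw [star_star, mul_comm]; exact hd i
        refine hΦ.conj.eq_zero_diag (A := Lᴴ) (by rw [aeval_conjTranspose, hz, conjTranspose_zero])
          hdd ?_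
        calc Lᴴ * a = Lᴴ * (a * diagonal d) * diagonal (fun i => star (d i)) := by
              rw [Matrix.mul_assoc, Matrix.mul_assoc a, diagonal_mul_diagonal]
              simp [hd]
          _ = a * diagonal fun i => star (d i) := by
              rw [← ha, Matrix.mul_nonsing_inv_cancel_left _ _ hLs]
      · rw [conjTranspose_nonsing_inv, conjTranspose_conjTranspose] at hT
        conv_lhs => rw [← hT]
        simp only [Matrix.mul_assoc, Matrix.mul_nonsing_inv_cancel_left _ _ hLs,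
          Matrix.nonsing_inv_mul _ hL, Matrix.mul_one]
    have := hf.fix _ (mem_Low.1 hr) (by
      rw [← flip_lev L _ hL hh hL']
      calc wJ * lev L (diagonal d) hL hh * wJ⁻¹ * (wJ * r * wJ⁻¹)
          = wJ * (lev L (diagonal d) hL hh * r) * wJ⁻¹ := by group
        _ = _ := by rw [e]; group)
    simpa using this

/-- The Gauss decomposition at an invertible corner. -/
theorem exists_gauss (g : UJ F ι ρ) (hg : g.1.1 = blk A B C D E G H K L) (hA : IsUnit A.det) :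
    ∃ (hh : (E - D * A⁻¹ * B)ᴴ * (E - D * A⁻¹ * B) = 1),
      ∃ l₀ ∈ Low F ι ρ, ∃ u₀ ∈ Up F ι ρ, g = l₀ * lev A (E - D * A⁻¹ * B) hA hh * u₀ := by
  have hA' : IsUnit (Aᴴ).det := by rw [det_conjTranspose]; exact hA.star
  have hrel : (g.1.1)ᴴ * Jm * g.1.1 = Jm := g.2
  rw [hg, Jm, blk_conjTranspose, blk_mul, blk_mul] at hrel
  obtain ⟨r11, -⟩ := blk_inj.1 hrel
  simp at r11
  -- the lower factor
  have hcond : H * A⁻¹ + (H * A⁻¹)ᴴ + (-(D * A⁻¹)ᴴ) * (-(D * A⁻¹)ᴴ)ᴴ = 0 := by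
    have h := congrArg (fun Z => (Aᴴ)⁻¹ * Z * A⁻¹) r11
    simp only [Matrix.mul_zero, Matrix.zero_mul, Matrix.mul_add, Matrix.add_mul, Matrix.mul_assoc,
      Matrix.nonsing_inv_mul_cancel_left _ _ hA', Matrix.mul_nonsing_inv _ hA, Matrix.mul_one] at h
    simp only [Matrix.neg_mul, conjTranspose_neg, Matrix.mul_neg, neg_neg, conjTranspose_mul,
      conjTranspose_conjTranspose, conjTranspose_nonsing_inv, Matrix.mul_assoc]
    linear_combination (norm := abel) h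
  set l₀ := wJ * upE _ _ hcond * wJ⁻¹ with hl₀
  have hl₀mem : l₀ ∈ Low F ι ρ := by
    rw [mem_Low, hl₀, wJ_inv]
    have e2 : (wJ : UJ F ι ρ) * wJ = 1 := by nth_rw 2 [← wJ_inv]; exact mul_inv_cancel _
    refine ⟨_, _, hcond, ?_⟩
    calc wJ * (wJ * upE _ _ hcond * wJ) * wJ = (wJ * wJ) * upE _ _ hcond * (wJ * wJ) := by
          simp only [mul_assoc]
      _ = _ := by rw [e2, one_mul, mul_one]
  have hl₀val : l₀.1.1 = blk 1 0 0 (D * A⁻¹) 1 0 (H * A⁻¹) (-(D * A⁻¹)ᴴ) 1 := by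
    rw [hl₀, wJ_inv]
    simp [wJ, Jm, blk_mul]
  obtain ⟨A2, B2, C2, D2, E2, G2, H2, K2, L2, hg2⟩ := exists_blk (l₀⁻¹ * g).1.1
  have hgg : g = l₀ * (l₀⁻¹ * g) := (mul_inv_cancel_left _ _).symm
  have e2 := congrArg (fun x : UJ F ι ρ => x.1.1) hgg
  simp only [uj_mul_val] at e2 hg2
  rw [hg2, hg, hl₀val, blk_mul] at e2
  obtain ⟨eA, eB, eC, eD, eE, eG, eH, eK, eL⟩ := blk_inj.1 e2
  simp at eA eB eC eD eE eG eH
  subst eA eB eC
  have hD2 : D2 = 0 := by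
    rw [Matrix.nonsing_inv_mul_cancel_right _ _ hA] at eD
    simpa using eD
  subst hD2
  have hH2 : H2 = 0 := by
    rw [Matrix.nonsing_inv_mul_cancel_right _ _ hA] at eH
    simpa using eH
  subst hH2
  have hrel2 : ((l₀⁻¹ * g).1.1)ᴴ * Jm * (l₀⁻¹ * g).1.1 = Jm := (l₀⁻¹ * g).2
  rw [uj_mul_val, hg2, Jm, blk_conjTranspose, blk_mul, blk_mul] at hrel2
  obtain ⟨-, r12, r13, -, r22, r23, -, -, r33⟩ := blk_inj.1 hrel2
  simp at r12 r13 r22 r23 r33
  have hK2 : K2 = 0 := by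
    have := congrArg ((Aᴴ)⁻¹ * ·) r12
    simpa [Matrix.nonsing_inv_mul_cancel_left _ _ hA'] using this
  subst hK2
  have hL2 : L2 = (Aᴴ)⁻¹ := (Matrix.inv_eq_right_inv r13).symm
  subst hL2
  simp at r22
  have hE2 : E2 = E - D * A⁻¹ * B := by rw [eE]; abel
  have hh2 : E2 * E2ᴴ = 1 := mul_eq_one_comm.1 r22
  simp only [conjTranspose_zero, Matrix.zero_mul, zero_add] at r23
  have hG2 : G2 = -(E2 * (Bᴴ * (Aᴴ)⁻¹)) := by
    have := congrArg (E2 * ·) r23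
    simp only [Matrix.mul_add, Matrix.mul_zero, ← Matrix.mul_assoc E2, hh2, Matrix.one_mul] at this
    rw [← add_eq_zero_iff_eq_neg, ← Matrix.mul_assoc, ← this]
  have hcu : A⁻¹ * C + (A⁻¹ * C)ᴴ + A⁻¹ * B * (A⁻¹ * B)ᴴ = 0 := by
    subst hG2
    simp only [conjTranspose_neg, conjTranspose_mul, conjTranspose_nonsing_inv,
      conjTranspose_conjTranspose, Matrix.neg_mul, Matrix.mul_neg, neg_neg, Matrix.mul_assoc] at r33 ⊢
    rw [← Matrix.mul_assoc E2ᴴ, r22, Matrix.one_mul] at r33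
    linear_combination (norm := abel) r33
  set u₀ := upE _ _ hcu with hu₀
  have hfac : l₀⁻¹ * g = lev A E2 hA r22 * u₀ := by
    refine uj_ext ?_
    rw [uj_mul_val, uj_mul_val, hg2, lev_val, hu₀, upE_val, blk_mul]
    congr 1 <;> simp [Matrix.mul_nonsing_inv_cancel_left _ _ hA, hG2, conjTranspose_mul,
      conjTranspose_nonsing_inv]
  subst hE2
  refine ⟨r22, l₀, hl₀mem, u₀, ⟨_, _, hcu, rfl⟩, ?_⟩
  rw [mul_assoc, ← hfac, mul_inv_cancel_left]

/-- Commutators from the corner. -/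
theorem isComm1_of_corner (g : UJ F ι ρ) (hg : g.1.1 = blk A B C D E G H K L) {Φ : F[X]}
    (hΦ : SApart Φ) {X P : Matrix ι ι F} (hX : IsUnit X.det) (hP : P.det = 1)
    (hXP : A * X * P = P * X) (hz : aeval X Φ = 0) {d : ρ → F} (hd : ∀ i, d i * star (d i) = 1)
    {a₀ : Matrix ρ ρ F} (ha₀ : a₀ᴴ * a₀ = 1) (ha₁ : a₀.det = 1)
    (hmid : (E - D * A⁻¹ * B) * diagonal d * a₀ = a₀ * diagonal d)
    (hdet : X.det / star X.det * ∏ i, d i = 1) : IsComm1 g := by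
  have hA : IsUnit A.det := by
    have h := congrArg Matrix.det hXP
    rw [det_mul, det_mul, det_mul, hP, mul_one, one_mul] at h
    rw [show A.det = 1 from mul_right_cancel₀ hX.ne_zero (by rw [h, one_mul])]
    exact isUnit_one
  have hdd : (diagonal d)ᴴ * diagonal d = 1 := by
    rw [diagonal_conjTranspose, diagonal_mul_diagonal]
    simp [mul_comm, hd]
  obtain ⟨r22, l₀, hl₀mem, u₀, hu₀, hgfac⟩ := exists_gauss g hg hA
  -- the Levi factor is a commutator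
  have hPu : IsUnit P.det := by rw [hP]; exact isUnit_one
  let B₀ := lev X (diagonal d) hX hdd
  let A₀ := lev P a₀ hPu ha₀
  have hlev : lev A (E - D * A⁻¹ * B) hA r22 * B₀ * A₀ = A₀ * B₀ := by
    refine uj_ext ?_
    simp only [B₀, A₀, uj_mul_val, lev_val, blk_mul]
    congr 1 <;> simp [hXP, hmid]
    rw [← Matrix.mul_inv_rev, ← Matrix.mul_inv_rev, ← Matrix.mul_inv_rev, ← conjTranspose_mul,
      ← conjTranspose_mul, ← conjTranspose_mul, hXP]
  obtain ⟨hfu, hfl⟩ := fpf_of_apart hΦ X hX hz d hd hdd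
  have hl' : A₀⁻¹ * l₀ * A₀ ∈ Low F ι ρ := by
    have hLs : IsUnit (Pᴴ).det := by rw [det_conjTranspose]; exact hPu.star
    have hL' := Matrix.isUnit_nonsing_inv_det _ hLs
    rw [mem_Low]
    have key : ∀ r ∈ Up F ι ρ, (lev (Pᴴ)⁻¹ a₀ hL' ha₀)⁻¹ * r * lev (Pᴴ)⁻¹ a₀ hL' ha₀ ∈ Up F ι ρ := by
      intro r hr
      let f : Up F ι ρ → Up F ι ρ := fun v => ⟨_, lev_mul_upE_mem _ _ hL' ha₀ v.2⟩
      have hinj : Function.Injective f := fun a b e =>
        Subtype.ext (mul_left_cancel (mul_right_cancel (congrArg Subtype.val e)))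
      obtain ⟨v, hv⟩ := (Finite.injective_iff_surjective.1 hinj) ⟨r, hr⟩
      have hv' : _ * v.1 * _⁻¹ = r := congrArg Subtype.val hv
      rw [← hv']
      simp [mul_assoc]
    have := key _ (mem_Low.1 hl₀mem)
    rw [← flip_lev P a₀ hPu ha₀ hL'] at this
    simpa [A₀, mul_assoc] using this
  obtain ⟨v, hv, hv'⟩ := hfl.exists_left hl'
  obtain ⟨w, hw, hw'⟩ := hfu.inv.exists_right (r := u₀) hu₀
  have hdB : dU F ι ρ B₀ = 1 := by
    rw [dU_eq_one_iff, det_lev, det_diagonal, hdet]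
  have hdA : dU F ι ρ A₀ = 1 := by
    rw [dU_eq_one_iff, det_lev, hP, ha₁]; simp
  refine IsComm1.of_conj w⁻¹ ⟨w⁻¹ * A₀ * v, B₀,
    by simp [hdA, dU_of_mem_Low hv, dU_of_mem_Up hw], hdB, ?_⟩
  have hlev' : lev A (E - D * A⁻¹ * B) hA r22 = A₀ * B₀ * A₀⁻¹ * B₀⁻¹ := by rw [← hlev]; group
  rw [inv_inv, hgfac, hlev', mul_assoc l₀]
  calc w⁻¹ * (l₀ * (A₀ * B₀ * A₀⁻¹ * B₀⁻¹ * u₀)) * w
      = w⁻¹ * A₀ * (A₀⁻¹ * l₀ * A₀ * B₀) * A₀⁻¹ * (B₀⁻¹ * u₀) * w := by group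
    _ = _ := by simp only [B₀] at *; rw [← hv', ← hw']; group

end CfsgLib.KnownB.OreSU
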