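import Cfsg.Agent.Lib.KnownB.OreSU.Apart
import Cfsg.Agent.Lib.KnownB.Thompson.Forms
import Cfsg.Agent.Lib.Classical.UnitaryTransv
import Cfsg.Agent.Lib.Classical.SU2

/-!
Corners as twisted commutators over fields with at least sixteen elements.
-/

set_option autoImplicit false
set_option linter.unusedSectionVars false

namespace CfsgLib.KnownB.OreSU

open Matrix Polynomial Module CfsgLib.Classical CfsgLib.Classical.Unitary CfsgLib.KnownB.Sourour CfsgLib.Thompson

variable {F : Type*} [Field F] [StarRing F] {q : ℕ}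

/-- The data a corner needs. -/
def GoodAt {ι : Type*} [Fintype ι] [DecidableEq ι] (M : Matrix ι ι F) (ε : F) : Prop :=
  ∃ (Φ : F[X]) (X P : Matrix ι ι F), SApart Φ ∧ IsUnit X.det ∧ P.det = 1 ∧ M * X * P = P * X ∧
    aeval X Φ = 0 ∧ X.det / star X.det = ε

theorem aeval_form {V : Type*} [AddCommGroup V] [Module F V] {T : End F V} {m : ℕ} {a : F}
    (ha : Adm a) (hT : HasForm T m (pairMu a)) (c : F) :
    aeval (c • T) ((List.replicate m c ++ [c * a, c * a⁻¹]).map fun x => X - C x).prod = 0 := by
  have : FiniteDimensional F V := Module.finite_of_finrank_pos (by rw [hT.dim]; omega)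
  have he : ∀ e : F, aeval (c • T) (X - C (c * e)) = c • (T - e • 1) := fun e => by
    simp only [map_sub, aeval_X, aeval_C, Algebra.algebraMap_eq_smul_one, smul_sub, smul_smul]
  have h1 := he 1
  rw [mul_one] at h1
  simp only [List.map_append, List.prod_append, List.map_replicate, List.prod_replicate,
    List.map_cons, List.map_nil, List.prod_cons, List.prod_nil, mul_one, map_mul (aeval (c • T)), map_pow]
  rw [he, he, h1, one_smul]
  refine (hT.basis ha.inj ha.ne_one).ext fun x => ?_
  rw [show hT.basis ha.inj ha.ne_one x = hT.family x from Basis.mk_apply _ _ x, LinearMap.zero_apply]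
  simp only [_root_.smul_pow, smul_mul_assoc, mul_smul_comm, smul_smul, LinearMap.smul_apply]
  refine smul_eq_zero.2 (Or.inr ?_)
  rcases x with i | i
  · have hc : Commute ((T - 1) ^ m) ((T - a • 1) * (T - a⁻¹ • 1)) := by
      have : ∀ e : F, Commute (T - 1) (T - e • 1) := fun e =>
        ((Commute.refl T).sub_right ((Commute.one_right T).smul_right e)).sub_left
          (Commute.one_left _)
      exact ((this a).mul_right (this a⁻¹)).pow_left m
    rw [hc.eq, Module.End.mul_apply]
    change ((T - a • 1) * (T - a⁻¹ • 1)) (((T - 1) ^ m : End F V) (((T - 1) ^ (i : ℕ) : End F V) hT.v)) = 0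
    rw [← Module.End.mul_apply ((T - 1) ^ m), ← pow_add, add_comm, pow_add]
    simp only [Module.End.mul_apply, hT.top, map_zero]
  · have hz : ∀ (e : F) (j : Fin 2), (T - e • 1) (hT.w j) = (pairMu a j - e) • hT.w j := fun e j => by
      simp [hT.eig, sub_smul]
    change ((T - 1) ^ m : End F V) ((T - a • 1) ((T - a⁻¹ • 1) (hT.w i))) = 0
    rw [hz, map_smul, hz, smul_smul, map_smul]
    fin_cases i <;> simp [pairMu]

theorem exists_good_big [Fintype F] (h : UFrob (starRingEnd F) q) (hF : Fintype.card F = q ^ 2)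
    (hq : 4 ≤ q) {ι : Type*} [Fintype ι] [DecidableEq ι] (M : Matrix ι ι F) (hdet : M.det = 1)
    (hM : M = 1 ∨ ¬ ∃ l : F, M = l • 1) : GoodAt M 1 := by
  classical
  have hF' : Nat.card F = q ^ 2 := by rw [Nat.card_eq_fintype_card, hF]
  have hst : ∀ x : F, star x = x ^ q := h.pow
  obtain ⟨c, hcs, hc0, hc1⟩ : ∃ c : F, star c = c ∧ c ≠ 0 ∧ c * c ≠ 1 := by
    by_contra hcon
    push Not at hcon
    have hsub : (Finset.univ.filter fun x : F => star x = x) ⊆ {0, 1, -1} := fun x hx => by
      have hx' := (Finset.mem_filter.1 hx).2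
      by_cases h0 : x = 0
      · simp [h0]
      rcases mul_self_eq_one_iff.1 (hcon x hx' h0) with e | e <;> simp [e]
    have hcard : (Finset.univ.filter fun x : F => star x = x).card = q := by
      rw [← fixed_card_eq hF' h.pow, Nat.card_eq_fintype_card]
      refine (Fintype.card_of_subtype _ fun x => ?_).symm
      simp [starRingEnd_apply]
    have := (Finset.card_le_card hsub).trans Finset.card_le_three
    omega
  obtain ⟨a, haN, ha4⟩ : ∃ a : F, a * star a = 1 ∧ a ^ 4 ≠ 1 := by
    by_contra hcon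
    push Not at hcon
    have hsub : (Finset.univ.filter fun x : F => x ^ (q + 1) = 1) ⊆ (Polynomial.nthRoots 4 (1 : F)).toFinset := by
      intro x hx
      have hx' := (Finset.mem_filter.1 hx).2
      rw [Multiset.mem_toFinset, Polynomial.mem_nthRoots (by norm_num)]
      exact hcon x (by rw [hst, ← pow_succ', hx'])
    have hcard : (Finset.univ.filter fun x : F => x ^ (q + 1) = 1).card = q + 1 := by
      rw [← Fintype.card_subtype, ← Nat.card_eq_fintype_card]
      exact CfsgLib.Classical.card_pow_succ_eq_one hF'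
    have := ((Finset.card_le_card hsub).trans (Multiset.toFinset_card_le _)).trans
      (Polynomial.card_nthRoots 4 (1 : F))
    omega
  have ha0 : a ≠ 0 := left_ne_zero_of_mul_eq_one haN
  have hsa : star a = a⁻¹ := eq_inv_of_mul_eq_one_right haN
  have ha2 : a * a ≠ 1 := fun e => ha4 (by linear_combination (a * a + 1) * e)
  have ha2' : a * a ≠ -1 := fun e => ha4 (by linear_combination (a * a - 1) * e)
  have hAdm : Adm a := ⟨ha0, fun e => ha2 (by rw [e, one_mul]), fun e => ha2 (by
    nth_rw 1 [← e]; exact inv_mul_cancel₀ ha0)⟩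
  by_cases hk : Fintype.card ι ≤ 1
  · have hM1 : M = 1 := by
      rcases Nat.eq_zero_or_pos (Fintype.card ι) with h0 | h0
      · have := Fintype.card_eq_zero_iff.1 h0
        exact Subsingleton.elim _ _
      · obtain ⟨i, hi⟩ := Fintype.card_eq_one_iff.1 (show Fintype.card ι = 1 by omega)
        have : Unique ι := { default := i, uniq := hi }
        rw [det_unique] at hdet
        ext x y
        rw [hi x, hi y, one_apply_eq]
        rw [show (default : ι) = i from hi _] at hdet
        exact hdet
    refine ⟨(([c]).map fun x => X - C x).prod, c • 1, 1, apart_of_roots _ ?_, ?_, det_one, ?_, ?_, ?_⟩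
    · simp [hcs, hc1]
    · rw [det_smul, det_one, mul_one]; exact (isUnit_iff_ne_zero.2 hc0).pow _
    · rw [hM1]; simp
    · simp [Algebra.algebraMap_eq_smul_one]
    · rw [det_smul, det_one, mul_one, star_pow, hcs, div_self (pow_ne_zero _ hc0)]
  obtain ⟨m, hm⟩ : ∃ m, Fintype.card ι = m + 2 := ⟨Fintype.card ι - 2, by omega⟩
  have h4 : 4 ≤ ENat.card F := by
    rw [ENat.card_eq_coe_fintype_card, hF]
    exact_mod_cast le_trans hq (Nat.le_self_pow two_ne_zero q)
  have hdimV : finrank F (ι → F) = m + 2 := by simp [hm]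
  have hdet' : LinearMap.det (Matrix.toLin' M) = 1 := by rw [LinearMap.det_toLin', hdet]
  have hA : Matrix.toLin' M = 1 ∨ ¬ ∃ l : F, Matrix.toLin' M = l • (1 : End F (ι → F)) := by
    rcases hM with rfl | hM
    · exact Or.inl (by rw [Matrix.toLin'_one]; rfl)
    · exact Or.inr fun ⟨l, hl⟩ => hM ⟨l, Matrix.toLin'.injective (by
        rw [hl, map_smul, Matrix.toLin'_one]; rfl)⟩
  obtain ⟨L₀, U, hLU, ⟨hL₀⟩, ⟨hU⟩⟩ := two_forms h4 hAdm hdimV _ hdet' hA
  obtain ⟨Ui, h1, h2⟩ := exists_inv_of_det (hAdm.det_form hU)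
  let hUi := hU.inv Ui h1 h2 ![1, 0] hAdm.mul_swap
  obtain ⟨E, hE, hEU⟩ := form_conj hAdm hUi hL₀
  let Ψ := LinearMap.toMatrixAlgEquiv' (R := F) (n := ι)
  have hMΨ : M = Ψ (L₀ * U) := by
    rw [← hLU]; exact (LinearMap.toMatrix'_toLin' M).symm
  have hUid : LinearMap.det Ui = 1 := hAdm.det_form hUi
  have hΨdet : ∀ T : End F (ι → F), (Ψ T).det = LinearMap.det T := fun T => LinearMap.det_toMatrix' T
  refine ⟨((List.replicate m c ++ [c * a, c * a⁻¹]).map fun x => X - C x).prod, Ψ (c • Ui), Ψ E,
    apart_of_roots _ ?_, ?_, by rw [hΨdet, hE], ?_, ?_, ?_⟩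
  · intro x hx y hy
    have key : ∀ u, u = 1 ∨ u = a ∨ u = a⁻¹ → ∀ v, v = 1 ∨ v = a ∨ v = a⁻¹ →
        c * u * star (c * v) ≠ 1 := by
      intro u hu v hv e
      rw [star_mul', hcs] at e
      have hcc : (c * c) * (u * star v) = 1 := by linear_combination e
      have hreal : star (u * star v) = u * star v := by
        have h' : star (c * c) * star (u * star v) = 1 := by rw [← star_mul', hcc, star_one]
        rw [star_mul', hcs] at h'
        exact mul_left_cancel₀ (mul_ne_zero hc0 hc0) (h'.trans hcc.symm)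
      have hval : u * star v = 1 ∨ u * star v = a ∨ u * star v = a⁻¹ ∨ u * star v = a * a ∨
          u * star v = a⁻¹ * a⁻¹ := by
        rcases hu with rfl | rfl | rfl <;> rcases hv with rfl | rfl | rfl <;>
          simp [hsa, star_inv₀, ha0]
      rcases hval with e' | e' | e' | e' | e' <;> rw [e'] at hreal hcc
      · exact hc1 (by linear_combination hcc)
      · rw [hsa] at hreal
        exact hAdm.inv_ne hreal
      · rw [star_inv₀, hsa, inv_inv] at hreal
        exact hAdm.inv_ne hreal.symm
      · rw [star_mul', hsa] at hreal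
        refine ha4 ?_
        field_simp at hreal
        linear_combination -hreal
      · rw [star_mul', star_inv₀, hsa, inv_inv] at hreal
        refine ha4 ?_
        field_simp at hreal
        linear_combination hreal
    have hform : ∀ z ∈ List.replicate m c ++ [c * a, c * a⁻¹],
        ∃ u, (u = 1 ∨ u = a ∨ u = a⁻¹) ∧ z = c * u := by
      intro z hz
      simp only [List.mem_append, List.mem_replicate, List.mem_cons, List.not_mem_nil, or_false] at hz
      rcases hz with ⟨-, e⟩ | e | e
      exacts [⟨1, Or.inl rfl, by rw [e, mul_one]⟩, ⟨a, Or.inr (Or.inl rfl), e⟩,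
        ⟨a⁻¹, Or.inr (Or.inr rfl), e⟩]
    obtain ⟨u, hu, rfl⟩ := hform x hx
    obtain ⟨v, hv, rfl⟩ := hform y hy
    exact key u hu v hv
  · rw [hΨdet, LinearMap.det_smul, hUid, mul_one]; exact (isUnit_iff_ne_zero.2 hc0).pow _
  · rw [hMΨ, ← map_mul, ← map_mul, ← map_mul]
    congr 1
    rw [mul_smul_comm, mul_smul_comm, smul_mul_assoc, mul_assoc L₀, h1, mul_one, hEU]
  · rw [show Ψ (c • Ui) = Ψ.toAlgHom (c • Ui) from rfl, aeval_algHom_apply, aeval_form hAdm hUi c, map_zero]
  · rw [hΨdet, LinearMap.det_smul, hUid, mul_one, star_pow, hcs, div_self (pow_ne_zero _ hc0)]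

end CfsgLib.KnownB.OreSU
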