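import Mathlib

/-!
Every cyclic matrix of determinant one over the fields with four and nine elements is the
commutator of a matrix killed by a trinomial `X ^ k + b X + a` and a matrix of determinant one.
-/

set_option autoImplicit false
set_option linter.unusedSectionVars false
set_option linter.unusedSimpArgs false

namespace CfsgLib.KnownB.OreSU

open Matrix Polynomial

namespace Companion

variable {F : Type*} [Field F]

/-! ### parameters -/

/-- `N` non-zero terms with sum `c`, the first ones not `-c`, such that `c` times their product is `V` -/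
def Sol (N : ℕ) (V : F) : Prop :=
  ∃ d : ℕ → F, (∀ i < N, d i ≠ 0) ∧
    (∀ i, i + 1 < N → d i + ∑ j ∈ Finset.range N, d j ≠ 0) ∧
    (∑ j ∈ Finset.range N, d j) * ∏ j ∈ Finset.range N, d j = V

/-- as `Sol`, keeping the square of the sum away from `1` -/
def SolS (N : ℕ) (V : F) : Prop :=
  ∃ d : ℕ → F, (∀ i < N, d i ≠ 0) ∧
    (∀ i, i + 1 < N → d i + ∑ j ∈ Finset.range N, d j ≠ 0) ∧
    (∑ j ∈ Finset.range N, d j) * (∏ j ∈ Finset.range N, d j) = V ∧
    (∑ j ∈ Finset.range N, d j) ^ 2 ≠ 1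

theorem SolS.sol {N : ℕ} {V : F} (h : SolS N V) : Sol N V := by
  obtain ⟨d, h1, h2, h3, -⟩ := h; exact ⟨d, h1, h2, h3⟩

/-- two more terms `1, -1` in front -/
def pad (d : ℕ → F) : ℕ → F
  | 0 => 1
  | 1 => -1
  | j + 2 => d j

theorem sum_pad (d : ℕ → F) (N : ℕ) :
    ∑ j ∈ Finset.range (N + 2), pad d j = ∑ j ∈ Finset.range N, d j := by
  rw [Finset.sum_range_succ', Finset.sum_range_succ']
  simp [pad]

theorem prod_pad (d : ℕ → F) (N : ℕ) :
    ∏ j ∈ Finset.range (N + 2), pad d j = -∏ j ∈ Finset.range N, d j := by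
  rw [Finset.prod_range_succ', Finset.prod_range_succ']
  simp [pad]

theorem pad_ne {d : ℕ → F} {N : ℕ} (h : ∀ i < N, d i ≠ 0) : ∀ i < N + 2, pad d i ≠ 0 := by
  intro i hi
  rcases i with _ | _ | j
  · exact one_ne_zero
  · exact neg_ne_zero.2 one_ne_zero
  · exact h j (by omega)

theorem SolS.pad' {N : ℕ} {V : F} (h : SolS N (-V)) : SolS (N + 2) V := by
  obtain ⟨d, h1, h2, h3, h4⟩ := h
  set c := ∑ j ∈ Finset.range N, d j
  refine ⟨pad d, pad_ne h1, ?_, ?_, ?_⟩
  · rw [sum_pad]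
    intro i hi
    rcases i with _ | _ | j
    · intro e; simp only [pad] at e; exact h4 (by linear_combination (c - 1) * e)
    · intro e; simp only [pad] at e; exact h4 (by linear_combination (c + 1) * e)
    · exact h2 j (by omega)
  · rw [sum_pad, prod_pad]; linear_combination -h3
  · rw [sum_pad]; exact h4

/-- zero sum -/
def SolZ (F : Type*) [Field F] (N : ℕ) : Prop :=
  ∃ d : ℕ → F, (∀ i < N, d i ≠ 0) ∧ ∑ j ∈ Finset.range N, d j = 0

theorem SolZ.pad' {N : ℕ} (h : SolZ F N) : SolZ F (N + 2) := by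
  obtain ⟨d, h1, h2⟩ := h
  exact ⟨pad d, pad_ne h1, by rw [sum_pad, h2]⟩

theorem SolZ.sol {N : ℕ} (h : SolZ F N) : Sol N (0 : F) := by
  obtain ⟨d, h1, h2⟩ := h
  refine ⟨d, h1, fun i hi => ?_, by rw [h2, zero_mul]⟩
  rw [h2, add_zero]; exact h1 i (by omega)

theorem solS_all {n₀ : ℕ} (h0 : ∀ V : F, V ≠ 0 → SolS n₀ V) (h1 : ∀ V : F, V ≠ 0 → SolS (n₀ + 1) V) :
    ∀ (j : ℕ) (V : F), V ≠ 0 → SolS (n₀ + j) V
  | 0, V, hV => h0 V hV
  | 1, V, hV => h1 V hV
  | j + 2, V, hV => (solS_all h0 h1 j (-V) (neg_ne_zero.2 hV)).pad'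

theorem solZ_all (h2 : SolZ F 2) (h3 : SolZ F 3) : ∀ j, SolZ F (2 + j)
  | 0 => h2
  | 1 => h3
  | j + 2 => (solZ_all h2 h3 j).pad'

/-- coordinates of the powers of a root of `X ^ 2 - X - 1` -/
def pw (p : ℕ) : ℕ → ZMod p × ZMod p
  | 0 => (1, 0)
  | n + 1 => ((pw p n).2, (pw p n).1 + (pw p n).2)

/-- a row of a table of solutions: exponents and exponent of the sum -/
def Row (p o h N v : ℕ) (r : List ℕ × ℕ) : Bool :=
  decide (r.1.length = N) &&
    decide (((List.range N).map fun i => pw p (r.1.getD i 0)).sum = pw p r.2) &&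
    decide ((r.1.sum + r.2) % o = v) && decide ((2 * r.2) % o ≠ 0) &&
    (List.range N).all fun i => decide (i + 1 = N) || decide (r.1.getD i 0 % o ≠ (r.2 + h) % o)

/-- the whole table -/
def Tab (p o h N : ℕ) (t : List (List ℕ × ℕ)) : Bool :=
  decide (t.length = o) && (List.range o).all fun v => Row p o h N v (t.getD v ([], 0))

theorem cast_pw {p : ℕ} [CharP F p] {w : F} (hw : w ^ 2 = w + 1) :
    ∀ n, ZMod.castHom (dvd_refl p) F (pw p n).1 + ZMod.castHom (dvd_refl p) F (pw p n).2 * w = w ^ n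
  | 0 => by simp [pw]
  | n + 1 => by
    rw [pow_succ, ← cast_pw hw n, pw, map_add]
    linear_combination -(ZMod.castHom (dvd_refl p) F (pw p n).2) * hw

theorem solS_of_tab {p o h N : ℕ} [CharP F p] {w : F} (hw : w ^ 2 = w + 1)
    (hprim : IsPrimitiveRoot w o) (ho : 0 < o) (hall : ∀ x : F, x ≠ 0 → x ^ o = 1) (hneg : w ^ h = -1)
    {t : List (List ℕ × ℕ)} (ht : Tab p o h N t = true) (V : F) (hV : V ≠ 0) : SolS N V := by
  have : NeZero o := ⟨ho.ne'⟩
  obtain ⟨v, hv, rfl⟩ := hprim.eq_pow_of_pow_eq_one (hall V hV)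
  simp only [Tab, Row, Bool.and_eq_true, List.all_eq_true, List.mem_range, decide_eq_true_eq,
    Bool.or_eq_true] at ht
  obtain ⟨-, ht⟩ := ht
  obtain ⟨⟨⟨⟨hl, hs⟩, hp⟩, hg⟩, hd⟩ := ht v hv
  set es := (t.getD v ([], 0)).1
  set g := (t.getD v ([], 0)).2
  have hw0 : w ≠ 0 := hprim.ne_zero ho.ne'
  have hmod : ∀ i j : ℕ, w ^ i = w ^ j → i % o = j % o := fun i j e => by
    rw [← pow_mod_orderOf w i, ← pow_mod_orderOf w j, ← hprim.eq_orderOf] at e
    exact hprim.pow_inj (Nat.mod_lt _ ho) (Nat.mod_lt _ ho) e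
  let φ : ZMod p × ZMod p →+ F :=
    { toFun := fun x => ZMod.castHom (dvd_refl p) F x.1 + ZMod.castHom (dvd_refl p) F x.2 * w
      map_zero' := by simp
      map_add' := fun x y => by simp only [Prod.fst_add, Prod.snd_add, map_add]; ring }
  have hsum : ∑ j ∈ Finset.range N, w ^ es.getD j 0 = w ^ g := by
    have e := congrArg φ hs
    rw [map_list_sum, List.map_map] at e
    rw [Finset.sum, Finset.range_val, Multiset.range, Multiset.map_coe, Multiset.sum_coe]
    calc _ = (List.map (φ ∘ fun i => pw p (es.getD i 0)) (List.range N)).sum := by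
          congr 1
          exact List.map_congr_left fun i _ => (cast_pw hw _).symm
      _ = _ := e.trans (cast_pw hw g)
  refine ⟨fun j => w ^ es.getD j 0, fun i _ => pow_ne_zero _ hw0, fun i hi e => ?_, ?_, ?_⟩
  · rw [hsum, add_eq_zero_iff_eq_neg, neg_eq_neg_one_mul, ← hneg, ← pow_add, add_comm h g] at e
    rcases hd i (by omega) with h' | h'
    · omega
    · exact h' (hmod _ _ e)
  · rw [hsum, Finset.prod_pow_eq_pow_sum, ← pow_add]
    have e : ∑ j ∈ Finset.range N, es.getD j 0 = es.sum := by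
      rw [← hl, ← Fin.sum_univ_getElem, Finset.sum_range]
      exact Finset.sum_congr rfl fun i _ => List.getD_eq_getElem _ _ i.2
    rw [e, ← pow_mod_orderOf, ← hprim.eq_orderOf, add_comm g, hp]
  · rw [hsum, ← pow_mul, mul_comm]
    intro e
    exact hg (by have := hmod _ _ (e.trans (pow_zero w).symm); simpa using this)

theorem four_data [Fintype F] (h4 : Fintype.card F = 4) :
    CharP F 2 ∧ (∀ x : F, x ≠ 0 → x ^ 3 = 1) ∧ ∃ w : F, w ^ 2 = w + 1 ∧ IsPrimitiveRoot w 3 := by
  classical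
  have hp : Fact (Nat.Prime 2) := ⟨Nat.prime_two⟩
  have hc : CharP F 2 := charP_of_card_eq_prime_pow (f := 2) (by rw [h4]; norm_num)
  have hall : ∀ x : F, x ≠ 0 → x ^ 3 = 1 := fun x hx => by
    have := FiniteField.pow_card_sub_one_eq_one x hx; rwa [h4] at this
  obtain ⟨w, hw1⟩ : ∃ w : F, w ∉ ({0, 1} : Finset F) := by
    by_contra hh
    push Not at hh
    have := Finset.card_le_card (fun x (_ : x ∈ Finset.univ) => hh x)
    rw [Finset.card_univ, h4] at this
    exact absurd (this.trans Finset.card_le_two) (by norm_num)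
  simp only [Finset.mem_insert, Finset.mem_singleton, not_or] at hw1
  have h3 := hall w hw1.1
  have h2 : (2 : F) = 0 := CharTwo.two_eq_zero
  refine ⟨hc, hall, w, ?_, ?_⟩
  · have : (w - 1) * (w ^ 2 + w + 1) = 0 := by linear_combination h3
    rcases mul_eq_zero.1 this with e | e
    · exact absurd (sub_eq_zero.1 e) hw1.2
    · linear_combination e - (w + 1) * h2
  · have : Fact (Nat.Prime 3) := ⟨Nat.prime_three⟩
    exact IsPrimitiveRoot.iff_orderOf.2 (orderOf_eq_prime h3 hw1.2)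

theorem nine_data [Fintype F] (h9 : Fintype.card F = 9) :
    CharP F 3 ∧ (∀ x : F, x ≠ 0 → x ^ 8 = 1) ∧
      ∃ w : F, w ^ 2 = w + 1 ∧ IsPrimitiveRoot w 8 ∧ w ^ 4 = -1 := by
  classical
  have hp : Fact (Nat.Prime 3) := ⟨Nat.prime_three⟩
  have hc : CharP F 3 := charP_of_card_eq_prime_pow (f := 2) (by rw [h9]; norm_num)
  have hall : ∀ x : F, x ≠ 0 → x ^ 8 = 1 := fun x hx => by
    have := FiniteField.pow_card_sub_one_eq_one x hx; rwa [h9] at this
  obtain ⟨g, hg⟩ := IsCyclic.exists_ofOrder_eq_natCard (α := Fˣ)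
  rw [Nat.card_units, Nat.card_eq_fintype_card, h9] at hg
  have h3 : (3 : F) = 0 := by exact_mod_cast CharP.cast_eq_zero F 3
  have hg8 : ((g : F) ^ 4) ^ 2 = 1 := by rw [← pow_mul]; exact hall _ g.ne_zero
  have hg4 : (g : F) ^ 4 ≠ 1 := by
    intro e
    have : g ^ 4 = 1 := Units.ext (by rw [Units.val_pow_eq_pow_val, e, Units.val_one])
    have := orderOf_dvd_of_pow_eq_one this
    rw [hg] at this
    norm_num at this
  have hg4' : (g : F) ^ 4 = -1 := (sq_eq_one_iff.1 hg8).resolve_left hg4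
  set w : F := (g : F) ^ 2 + 2
  have hw : w ^ 2 = w + 1 := by linear_combination hg4' + ((g : F) ^ 2) * h3
  have hw4 : w ^ 4 = -1 := by linear_combination (w ^ 2 + w + 2) * hw + (w + 1) * h3
  refine ⟨hc, hall, w, hw, IsPrimitiveRoot.iff_orderOf.2 ?_, hw4⟩
  have : Fact (Nat.Prime 2) := ⟨Nat.prime_two⟩
  have hne : ¬ w ^ (2 ^ 2) = 1 := by
    intro e
    rw [show (2 : ℕ) ^ 2 = 4 by norm_num, hw4] at e
    exact one_ne_zero (show (1 : F) = 0 by linear_combination e + h3)
  exact orderOf_eq_prime_pow (n := 2) hne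
    (by rw [show (2 : ℕ) ^ (2 + 1) = 4 * 2 by norm_num, pow_mul, hw4]; norm_num)

/-- the parameters exist -/
theorem sol_exists [Fintype F] (hF : Fintype.card F = 4 ∨ Fintype.card F = 9) {N : ℕ} (hN : 2 ≤ N)
    (V : F) (hV : N = 2 → Fintype.card F = 4 → V = 0 ∨ V = 1) : Sol N V := by
  obtain ⟨j, rfl⟩ : ∃ j, N = 2 + j := ⟨N - 2, by omega⟩
  rcases hF with h4 | h9
  · obtain ⟨hc, hall, w, hw, hprim⟩ := four_data h4
    have h2 : (2 : F) = 0 := CharTwo.two_eq_zero
    rcases eq_or_ne V 0 with rfl | hV0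
    · refine (solZ_all ⟨fun _ => 1, fun _ _ => one_ne_zero, ?_⟩ ?_ j).sol
      · simp [CharTwo.two_eq_zero]
      · refine ⟨fun i => w ^ i, fun i _ => pow_ne_zero _ (hprim.ne_zero (by norm_num)), ?_⟩
        simp [Finset.sum_range_succ]
        linear_combination hw + (w + 1) * h2
    · have hneg : w ^ 0 = -1 := by rw [pow_zero]; linear_combination h2
      rcases j with _ | j
      · obtain rfl : V = 1 := (hV rfl h4).resolve_left hV0
        refine ⟨fun i => w ^ i, fun i _ => pow_ne_zero _ (hprim.ne_zero (by norm_num)), fun i hi => ?_, ?_⟩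
        · obtain rfl : i = 0 := by omega
          intro e
          refine hprim.ne_zero (by norm_num) ?_
          simp [Finset.sum_range_succ] at e
          linear_combination e - h2
        · have h31 := hprim.pow_eq_one
          simp [Finset.sum_range_succ, Finset.prod_range_succ]
          linear_combination h31 - w * hw
      · rw [show 2 + (j + 1) = 3 + j by ring]
        refine (solS_all (n₀ := 3) (fun V hV => ?_) (fun V hV => ?_) j V hV0).sol
        · exact solS_of_tab (p := 2) hw hprim (by norm_num) hall hneg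
            (t := [([1, 1, 2], 2), ([0, 0, 2], 2), ([0, 0, 1], 1)]) (by decide +kernel) V hV
        · exact solS_of_tab (p := 2) hw hprim (by norm_num) hall hneg
            (t := [([0, 0, 0, 1], 2), ([0, 2, 2, 2], 1), ([0, 1, 1, 1], 2)]) (by decide +kernel) V hV
  · obtain ⟨hc, hall, w, hw, hprim, hneg⟩ := nine_data h9
    have h3 : (3 : F) = 0 := by exact_mod_cast CharP.cast_eq_zero F 3
    rcases eq_or_ne V 0 with rfl | hV0
    · refine (solZ_all ⟨pad (fun _ => 0), pad_ne (N := 0) (by simp), ?_⟩ ?_ j).sol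
      · simp [sum_pad (fun _ => (0 : F)) 0]
      · exact ⟨fun _ => 1, fun _ _ => one_ne_zero, by simp [h3]⟩
    · refine (solS_all (n₀ := 2) (fun V hV => ?_) (fun V hV => ?_) j V hV0).sol
      · exact solS_of_tab (p := 3) hw hprim (by norm_num) hall hneg
          (t := [([0, 5], 3), ([0, 2], 7), ([3, 5], 2), ([0, 1], 2), ([1, 4], 7), ([4, 6], 3),
            ([1, 2], 3), ([2, 4], 1)]) (by decide +kernel) V hV
      · exact solS_of_tab (p := 3) hw hprim (by norm_num) hall hneg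
          (t := [([0, 0, 1], 7), ([0, 0, 6], 3), ([0, 3, 4], 3), ([0, 0, 2], 1), ([0, 2, 7], 3),
            ([0, 1, 1], 3), ([0, 1, 4], 1), ([0, 3, 3], 1)]) (by decide +kernel) V hV

/-! ### spanning the target polynomials -/

theorem span_polys {H : ℕ → F[X]} : ∀ (m : ℕ), (∀ t < m, (H t).eval 1 ≠ 0) →
    (∀ t < m, (H t).eval 0 = 0) → (∀ t < m, (H t).natDegree ≤ t + 1) →
    ∀ D : F[X], D.natDegree ≤ m + 1 → D.eval 0 = 0 → D.eval 1 = 0 →
      ∃ q : ℕ → F, D = ∑ t ∈ Finset.range m, C (q t) * (X - 1) ^ (m - t) * H t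
  | 0, _, _, _, D, hd, h0, h1 => by
    refine ⟨0, ?_⟩
    rw [Finset.range_zero, Finset.sum_empty, eq_X_add_C_of_natDegree_le_one hd]
    rw [eq_X_add_C_of_natDegree_le_one hd] at h0 h1
    simp at h0 h1
    simp only [h0, add_zero] at h1
    simp [h0, h1]
  | m + 1, he, hx, hdeg, D, hd, h0, h1 => by
    classical
    obtain ⟨E, rfl⟩ := dvd_iff_isRoot.2 (show D.IsRoot 1 from h1)
    rw [map_one] at *
    have hE0 : E.eval 0 = 0 := by simpa using h0
    have hEd : E.natDegree ≤ m + 1 := by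
      rcases eq_or_ne E 0 with rfl | hE
      · simp
      rw [natDegree_mul (X_sub_C_ne_zero (1 : F) |> fun h => by simpa using h) hE,
        show (X - 1 : F[X]).natDegree = 1 by simpa using natDegree_X_sub_C (1 : F)] at hd
      omega
    set s := E.eval 1 / (H m).eval 1
    obtain ⟨q, hq⟩ := span_polys m (fun t ht => he t (by omega)) (fun t ht => hx t (by omega))
      (fun t ht => hdeg t (by omega)) (E - C s * H m)
      ((natDegree_sub_le _ _).trans (max_le hEd ((natDegree_C_mul_le _ _).trans (hdeg m (by omega)))))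
      (by simp [hE0, hx m (by omega)])
      (by simp [s, div_mul_cancel₀ _ (he m (by omega))])
    refine ⟨Function.update q m s, ?_⟩
    rw [Finset.sum_range_succ, Function.update_self]
    have e : ∑ t ∈ Finset.range m, C (Function.update q m s t) * (X - 1) ^ (m + 1 - t) * H t =
        (X - 1) * (E - C s * H m) := by
      rw [hq, Finset.mul_sum]
      refine Finset.sum_congr rfl fun t ht => ?_
      rw [Finset.mem_range] at ht
      rw [Function.update_of_ne (by omega), show m + 1 - t = m - t + 1 by omega, pow_succ]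
      ring
    rw [e, Nat.add_sub_cancel_left]
    ring

/-! ### the pair of matrices -/

variable (m : ℕ)

/-- standard vectors, zero out of range -/
def vec (i : ℕ) : Fin (m + 2) → F := if h : i < m + 2 then Pi.single ⟨i, h⟩ 1 else 0

theorem mulVec_vec {A : Matrix (Fin (m + 2)) (Fin (m + 2)) F} {i : ℕ} (h : i < m + 2) :
    A *ᵥ vec m i = fun r => A r ⟨i, h⟩ := by
  rw [vec, dif_pos h, Matrix.mulVec_single_one]
  rfl

theorem vec_out {i : ℕ} (h : m + 2 ≤ i) : (vec m i : Fin (m + 2) → F) = 0 := dif_neg (by omega)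

theorem vec_apply (i : ℕ) (r : Fin (m + 2)) : (vec m i : Fin (m + 2) → F) r = if (r : ℕ) = i then 1 else 0 := by
  unfold vec
  split_ifs with h1 h2 h2
  · simp [Pi.single_apply, Fin.ext_iff, h2]
  · simp [Pi.single_apply, Fin.ext_iff, h2]
  · omega
  · rfl

/-- the matrix killed by the trinomial -/
def Lc (a b : F) : Matrix (Fin (m + 2)) (Fin (m + 2)) F :=
  Matrix.of fun r s => (if (s : ℕ) = 0 then (-a) • vec m (m + 1)
    else if (s : ℕ) = 1 then vec m 0 - b • vec m (m + 1) else vec m ((s : ℕ) - 1)) r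

/-- the unitriangular matrix -/
def Pc (n q : ℕ → F) : Matrix (Fin (m + 2)) (Fin (m + 2)) F :=
  Matrix.of fun r s => ((vec m (s : ℕ) : Fin (m + 2) → F) + n ((s : ℕ) + 1) • vec m ((s : ℕ) + 1) +
    q ((s : ℕ) + 1) • vec m (m + 1) : Fin (m + 2) → F) r

variable {m} {a b : F}

theorem Lc_zero : Lc m a b *ᵥ vec m 0 = (-a) • vec m (m + 1) := by
  rw [mulVec_vec m (by omega)]; funext r; simp [Lc]

theorem Lc_one : Lc m a b *ᵥ vec m 1 = vec m 0 - b • vec m (m + 1) := by
  rw [mulVec_vec m (by omega)]; funext r; simp [Lc]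

theorem Lc_succ {i : ℕ} (h : i + 2 < m + 2) : Lc m a b *ᵥ vec m (i + 2) = vec m (i + 1) := by
  rw [mulVec_vec m h]; funext r; simp [Lc]

theorem Pc_vec {n q : ℕ → F} {i : ℕ} (h : i < m + 2) :
    Pc m n q *ᵥ vec m i = vec m i + n (i + 1) • vec m (i + 1) + q (i + 1) • vec m (m + 1) := by
  rw [mulVec_vec m h]; rfl

theorem Lc_pow (hm : 1 ≤ m) : ∀ j ≤ m, (Lc m a b ^ j) *ᵥ vec m (m + 1) = vec m (m + 1 - j)
  | 0, _ => by simp
  | j + 1, h => by
    rw [pow_succ', ← Matrix.mulVec_mulVec, Lc_pow hm j (by omega),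
      show m + 1 - j = (m - (j + 1)) + 2 by omega, Lc_succ (by omega)]
    congr 1; omega

theorem aeval_Lc (hm : 1 ≤ m) : aeval (Lc m a b) (X ^ (m + 2) + C b * X + C a) = 0 := by
  set L := Lc m a b
  set f := aeval L (X ^ (m + 2) + C b * X + C a)
  have hcomm : ∀ j, f * L ^ j = L ^ j * f := fun j => by
    have : Commute f (L ^ j) := by
      have h1 : L ^ j = aeval L ((X : F[X]) ^ j) := by simp
      rw [h1]; exact (Commute.all _ _).map (aeval L)
    exact this
  have h1 : (L ^ (m + 1)) *ᵥ vec m (m + 1) = vec m 0 - b • vec m (m + 1) := by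
    rw [pow_succ', ← Matrix.mulVec_mulVec, Lc_pow hm m le_rfl, show m + 1 - m = 1 by omega, Lc_one]
  have h0 : f *ᵥ vec m (m + 1) = 0 := by
    simp only [f, map_add, map_mul, aeval_X, aeval_C, map_pow, Algebra.algebraMap_eq_smul_one,
      smul_mul_assoc, one_mul, Matrix.add_mulVec, Matrix.smul_mulVec, Matrix.one_mulVec]
    rw [show L ^ (m + 2) = L * L ^ (m + 1) from pow_succ' L (m + 1), ← Matrix.mulVec_mulVec, h1, Matrix.mulVec_sub,
      Lc_zero, Matrix.mulVec_smul]
    module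
  have hall : ∀ i < m + 2, f *ᵥ vec m i = 0 := by
    intro i hi
    rcases i with _ | j
    · have : (vec m 0 : Fin (m + 2) → F) = (L ^ (m + 1)) *ᵥ vec m (m + 1) + b • vec m (m + 1) := by
        rw [h1]; module
      rw [this, Matrix.mulVec_add, Matrix.mulVec_smul, Matrix.mulVec_mulVec, hcomm,
        ← Matrix.mulVec_mulVec, h0]
      simp
    · have : (vec m (j + 1) : Fin (m + 2) → F) = (L ^ (m - j)) *ᵥ vec m (m + 1) := by
        rw [Lc_pow hm _ (by omega)]; congr 1; omega
      rw [this, Matrix.mulVec_mulVec, hcomm, ← Matrix.mulVec_mulVec, h0, Matrix.mulVec_zero]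
  refine Matrix.ext_of_mulVec_single fun i => ?_
  have := hall i i.2
  rw [vec, dif_pos i.2] at this
  rw [this, Matrix.zero_mulVec]

theorem isUnit_det_of_aeval {k : Type*} [Fintype k] [DecidableEq k] {L : Matrix k k F} {j : ℕ}
    (ha : a ≠ 0) (h : aeval L (X ^ (j + 1) + C b * X + C a) = 0) : IsUnit L.det := by
  refine Matrix.isUnit_det_of_right_inverse (B := (-a⁻¹) • (L ^ j + b • (1 : Matrix k k F))) ?_
  simp only [map_add, map_mul, aeval_X, aeval_C, map_pow, Algebra.algebraMap_eq_smul_one,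
    smul_mul_assoc, one_mul] at h
  rw [mul_smul_comm, mul_add, ← pow_succ', mul_smul_comm, mul_one,
    eq_neg_of_add_eq_zero_left h, ← neg_smul, smul_smul, neg_mul_neg, inv_mul_cancel₀ ha, one_smul]

theorem det_Pc {n q : ℕ → F} (hq : q (m + 2) = 0) : (Pc m n q).det = 1 := by
  rw [Matrix.det_of_isLowerTriangular]
  · refine Finset.prod_eq_one fun i _ => ?_
    simp only [Pc, Matrix.of_apply, Pi.add_apply, Pi.smul_apply, vec_apply, smul_eq_mul]
    by_cases e : (i : ℕ) = m + 1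
    · simp [e, hq]
    · simp [e]
  · intro r s hrs
    have hlt : (r : ℕ) < s := hrs
    simp only [Pc, Matrix.of_apply, Pi.add_apply, Pi.smul_apply, vec_apply, smul_eq_mul]
    have := s.2
    simp [show (r : ℕ) ≠ s by omega, show (r : ℕ) ≠ (s : ℕ) + 1 by omega, show (r : ℕ) ≠ m + 1 by omega]

theorem Lc_span (hm : 1 ≤ m) {i : ℕ} (hi : i < m + 2) :
    ∃ u : Fin (m + 2) → F, (Matrix.of fun r (j : Fin (m + 2)) =>
      ((Lc m a b ^ (j : ℕ)) *ᵥ vec m (m + 1)) r) *ᵥ u = vec m i := by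
  set K := Matrix.of fun r (j : Fin (m + 2)) => ((Lc m a b ^ (j : ℕ)) *ᵥ vec m (m + 1)) r
  have hK : ∀ j : Fin (m + 2), K *ᵥ Pi.single j 1 = (Lc m a b ^ (j : ℕ)) *ᵥ vec m (m + 1) := fun j => by
    rw [Matrix.mulVec_single_one]; rfl
  rcases i with _ | j
  · refine ⟨Pi.single ⟨m + 1, by omega⟩ 1 + b • Pi.single ⟨0, by omega⟩ 1, ?_⟩
    rw [Matrix.mulVec_add, Matrix.mulVec_smul, hK, hK]
    show (Lc m a b ^ (m + 1)) *ᵥ _ + b • ((Lc m a b ^ 0) *ᵥ _) = _
    rw [pow_succ', ← Matrix.mulVec_mulVec, Lc_pow hm m le_rfl, show m + 1 - m = 1 by omega, Lc_one]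
    simp
  · refine ⟨Pi.single ⟨m - j, by omega⟩ 1, ?_⟩
    rw [hK, Lc_pow hm _ (by simp)]
    congr 1; simp; omega

theorem det_Lc (hm : 1 ≤ m) : (Lc m a b).det = (-1) ^ (m + 2) * a := by
  set L := Lc m a b
  set f : F[X] := X ^ (m + 2) + C b * X + C a
  set K := Matrix.of fun r (j : Fin (m + 2)) => ((L ^ (j : ℕ)) *ᵥ vec m (m + 1)) r
  have hsurj : Function.Surjective K.mulVec := by
    intro w
    choose u hu using fun i : Fin (m + 2) => Lc_span (a := a) (b := b) hm i.2
    refine ⟨∑ i, w i • u i, ?_⟩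
    show K *ᵥ _ = w
    simp only [Matrix.mulVec_sum, Matrix.mulVec_smul]
    rw [show (∑ i, w i • (K *ᵥ u i)) = ∑ i, w i • (vec m (i : ℕ) : Fin (m + 2) → F) from
      Finset.sum_congr rfl fun i _ => by rw [hu i]]
    funext r
    simp [vec_apply, Finset.sum_apply, Fin.val_inj]
  have hinj : Function.Injective K.mulVec := Matrix.mulVec_injective_iff_isUnit.2
    (Matrix.mulVec_surjective_iff_isUnit.1 hsurj)
  have hr : ((L.charpoly - f).natDegree < m + 2) := by
    have hm1 : (C b * X + C a : F[X]).natDegree ≤ 1 := natDegree_linear_le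
    have hf : f.natDegree = m + 2 := by
      rw [show f = X ^ (m + 2) + (C b * X + C a) by ring, natDegree_add_eq_left_of_natDegree_lt] <;>
        rw [natDegree_X_pow]
      omega
    have hfm : f.Monic := by
      rw [show f = X ^ (m + 2) + (C b * X + C a) by ring]
      refine (monic_X_pow _).add_of_left (degree_lt_degree ?_)
      rw [natDegree_X_pow]; omega
    rcases eq_or_ne (L.charpoly - f) 0 with e | e
    · simp [e]
    have hlt := natDegree_lt_natDegree e (degree_sub_lt_left (p := L.charpoly) (q := f)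
      (by rw [degree_eq_natDegree L.charpoly_monic.ne_zero, degree_eq_natDegree hfm.ne_zero, hf,
        Matrix.charpoly_natDegree_eq_dim, Fintype.card_fin])
      L.charpoly_monic.ne_zero (by rw [L.charpoly_monic.leadingCoeff, hfm.leadingCoeff]))
    rwa [Matrix.charpoly_natDegree_eq_dim, Fintype.card_fin] at hlt
  have hz : aeval L (L.charpoly - f) = 0 := by
    rw [map_sub, Matrix.aeval_self_charpoly, aeval_Lc hm, sub_zero]
  have h0 : (fun j : Fin (m + 2) => (L.charpoly - f).coeff j) = 0 := hinj (by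
    show K *ᵥ _ = K *ᵥ 0
    rw [Matrix.mulVec_zero]
    refine Eq.trans ?_ (show aeval L (L.charpoly - f) *ᵥ (vec m (m + 1) : Fin (m + 2) → F) = 0 by
      rw [hz, Matrix.zero_mulVec])
    rw [aeval_eq_sum_range' hr, Finset.sum_range, Matrix.sum_mulVec]
    funext s
    simp [K, Matrix.mulVec, dotProduct, Matrix.smul_apply, Finset.mul_sum, mul_comm, mul_left_comm]
    simp only [mul_assoc])
  have h1 := congrFun h0 ⟨0, by omega⟩
  simp only [Pi.zero_apply, coeff_sub, sub_eq_zero] at h1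
  rw [Matrix.det_eq_sign_charpoly_coeff, Fintype.card_fin, h1]
  simp [f]

/-! ### the relations -/

/-- the linear factor of the elimination -/
noncomputable def uu (n : ℕ → F) (i : ℕ) : F[X] := C (n (i + 1)) * X - C (n i)

/-- the products of the factors -/
noncomputable def ww (n : ℕ → F) (j : ℕ) : F[X] := ∏ i ∈ Finset.range j, -uu n i

/-- the remainder of the elimination -/
noncomputable def ff (a c : F) (n q : ℕ → F) (j : ℕ) : F[X] :=
  ∑ i ∈ Finset.range j, (X - 1) ^ (j - 1 - i) * ww n i *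
    (C (c / a * q (i + 1)) * X - C (q i / a) * (X - 1))

theorem ff_succ (a c : F) (n q : ℕ → F) (j : ℕ) :
    ff a c n q (j + 1) = (X - 1) * ff a c n q j +
      ww n j * (C (c / a * q (j + 1)) * X - C (q j / a) * (X - 1)) := by
  rw [ff, Finset.sum_range_succ, ff, Finset.mul_sum]
  congr 1
  · refine Finset.sum_congr rfl fun i hi => ?_
    rw [Finset.mem_range] at hi
    rw [show j + 1 - 1 - i = j - 1 - i + 1 by omega, pow_succ]
    ring
  · simp

theorem ff_eq {a : F} {n q : ℕ → F} (h0 : q 0 = 0) (hm : q (m + 1) = 0) (c : F) :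
    ff a c n q (m + 1) = ∑ t ∈ Finset.range m, C (q (t + 1)) * (X - 1) ^ (m - t) *
      (C a⁻¹ * ww n t * (C c * X + uu n t)) := by
  simp only [ff]
  generalize hN : (X - 1 : F[X]) = N
  simp only [mul_sub, Finset.sum_sub_distrib]
  rw [Finset.sum_range_succ (M := F[X]), Finset.sum_range_succ' (M := F[X])]
  simp only [h0, hm, mul_zero, zero_div, map_zero, zero_mul, add_zero, ← Finset.sum_sub_distrib]
  refine Finset.sum_congr rfl fun t ht => ?_
  rw [Finset.mem_range] at ht
  rw [show m + 1 - 1 - t = m - t by omega, show m + 1 - 1 - (t + 1) = m - t - 1 by omega,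
    show ww n (t + 1) = ww n t * -uu n t from Finset.prod_range_succ _ _]
  obtain ⟨r, hr⟩ := Nat.exists_eq_add_of_lt ht
  rw [show m - t - 1 = r by omega, show m - t = r + 1 by omega]
  simp only [div_eq_mul_inv, map_mul, pow_succ]
  ring

/-- Krylov matrix -/
def kry {k : ℕ} (A : Matrix (Fin k) (Fin k) F) (v : Fin k → F) : Matrix (Fin k) (Fin k) F :=
  Matrix.of fun r i => ((A ^ (i : ℕ)) *ᵥ v) r

/-- companion matrix -/
def comp (k : ℕ) (χ : F[X]) : Matrix (Fin k) (Fin k) F :=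
  Matrix.of fun r i => if (i : ℕ) + 1 = k then -χ.coeff r else if (r : ℕ) = i + 1 then 1 else 0

theorem kry_single {k : ℕ} (A : Matrix (Fin k) (Fin k) F) (v : Fin k → F) (j : Fin k) :
    kry A v *ᵥ Pi.single j 1 = (A ^ (j : ℕ)) *ᵥ v := by
  rw [Matrix.mulVec_single_one]; rfl

theorem kry_comp {k : ℕ} {A : Matrix (Fin k) (Fin k) F} {v : Fin k → F} {χ : F[X]}
    (hχ : χ.Monic) (hdeg : χ.natDegree = k) (h0 : aeval A χ *ᵥ v = 0) :
    A * kry A v = kry A v * comp k χ := by
  refine Matrix.ext_of_mulVec_single fun j => ?_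
  rw [← Matrix.mulVec_mulVec, ← Matrix.mulVec_mulVec, kry_single, Matrix.mulVec_mulVec, ← pow_succ',
    Matrix.mulVec_single_one]
  by_cases hj : (j : ℕ) + 1 = k
  · have hc : (comp k χ).col j = fun r : Fin k => -χ.coeff r := funext fun r => by simp [comp, hj]
    rw [hc]
    have e : (kry A v *ᵥ fun r : Fin k => -χ.coeff r) =
        -∑ r : Fin k, χ.coeff r • ((A ^ (r : ℕ)) *ᵥ v) := by
      funext s
      simp [kry, Matrix.mulVec, dotProduct, mul_comm]
    rw [e, hj, eq_neg_iff_add_eq_zero]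
    rw [aeval_eq_sum_range, hdeg, Finset.sum_range_succ, Matrix.add_mulVec] at h0
    rw [show χ.coeff k = 1 by rw [← hdeg]; exact hχ, one_smul, Finset.sum_range,
      Matrix.sum_mulVec] at h0
    simpa only [Matrix.smul_mulVec, add_comm] using h0
  · have hj' : (j : ℕ) + 1 < k := by omega
    have hc : (comp k χ).col j = Pi.single ⟨(j : ℕ) + 1, hj'⟩ 1 := funext fun r => by
      simp [comp, hj, Pi.single_apply, Fin.ext_iff]
    rw [hc, kry_single]

theorem isUnit_kry_of_li {k : ℕ} {A : Matrix (Fin k) (Fin k) F} {v : Fin k → F}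
    (h : LinearIndependent F fun i : Fin k => (A ^ (i : ℕ)) *ᵥ v) : IsUnit (kry A v).det := by
  rw [← Matrix.isUnit_iff_isUnit_det, ← Matrix.linearIndependent_cols_iff_isUnit]
  exact h

/-- moving a commutator presentation along a similarity -/
theorem transfer {k : ℕ} {a b : F} {M C' L P S : Matrix (Fin k) (Fin k) F} (hS : IsUnit S.det)
    (hM : M * S = S * C') (hL : IsUnit L.det) (hP : P.det = 1) (e : C' * L * P = P * L)
    (hz : aeval L (X ^ k + C b * X + C a) = 0) (hdL : L.det = (-1) ^ k * a) :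
    ∃ L P : Matrix (Fin k) (Fin k) F,
      IsUnit L.det ∧ L.det = (-1) ^ k * a ∧ P.det = 1 ∧ M * L * P = P * L ∧ aeval L (X ^ k + C b * X + C a) = 0 := by
  have hSi := Matrix.isUnit_nonsing_inv_det _ hS
  have hM' : M = S * C' * S⁻¹ := by rw [← hM, Matrix.mul_nonsing_inv_cancel_right _ _ hS]
  let u : (Matrix (Fin k) (Fin k) F)ˣ := ((Matrix.isUnit_iff_isUnit_det _).2 hS).unit
  refine ⟨S * L * S⁻¹, S * P * S⁻¹, ?_, ?_, ?_, ?_, ?_⟩
  · rw [Matrix.det_mul, Matrix.det_mul]; exact (hS.mul hL).mul hSi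
  · rw [Matrix.det_mul, Matrix.det_mul, mul_right_comm, ← Matrix.det_mul, Matrix.mul_nonsing_inv _ hS,
      Matrix.det_one, one_mul, hdL]
  · rw [Matrix.det_mul, Matrix.det_mul, hP, mul_one, ← Matrix.det_mul, Matrix.mul_nonsing_inv _ hS,
      Matrix.det_one]
  · have key : ∀ Y Z : Matrix (Fin k) (Fin k) F, S * Y * S⁻¹ * (S * Z * S⁻¹) = S * (Y * Z) * S⁻¹ :=
      fun Y Z => by simp only [Matrix.mul_assoc, Matrix.nonsing_inv_mul_cancel_left _ _ hS]
    rw [hM', key, key, key, e]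
  · have hc : ∀ p : F[X], aeval (S * L * S⁻¹) p * S = S * aeval L p := by
      intro p
      induction p using Polynomial.induction_on' with
      | add p q hp hq => simp [hp, hq, add_mul, mul_add]
      | monomial i r =>
        have : SemiconjBy S L (S * L * S⁻¹) := by
          show S * L = S * L * S⁻¹ * S
          rw [Matrix.nonsing_inv_mul_cancel_right _ _ hS]
        have h' : (S * L * S⁻¹) ^ i * S = S * L ^ i := ((this.pow_right i).eq).symm
        simp [Algebra.algebraMap_eq_smul_one, h']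
    have := hc (X ^ k + C b * X + C a)
    rw [hz, mul_zero] at this
    exact ((Matrix.isUnit_iff_isUnit_det _).2 hS).mul_left_eq_zero.1 this

/-- the general construction -/
theorem build {m : ℕ} (hm : 1 ≤ m) {a b : F} (ha : a ≠ 0) (χ : F[X]) (hχ : χ.Monic)
    (hdeg : χ.natDegree = m + 2) (h0 : χ.coeff 0 = (-1) ^ (m + 2))
    (hs : Sol (m + 1) ((-1) ^ (m + 1) * a * χ.eval 1)) :
    ∃ L P S : Matrix (Fin (m + 2)) (Fin (m + 2)) F, IsUnit S.det ∧ IsUnit L.det ∧ L.det = (-1) ^ (m + 2) * a ∧ P.det = 1 ∧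
      (S * comp (m + 2) χ * S⁻¹) * L * P = P * L ∧ aeval L (X ^ (m + 2) + C b * X + C a) = 0 := by
  classical
  obtain ⟨d, hd, hdc, hV⟩ := hs
  set n : ℕ → F := fun i => ∑ j ∈ Finset.range i, d j
  set c := n (m + 1)
  have hn0 : n 0 = 0 := Finset.sum_range_zero _
  have hdn : ∀ i, n (i + 1) = n i + d i := fun i => Finset.sum_range_succ _ _
  have hu1 : ∀ i, (uu n i).eval 1 = d i := fun i => by simp [uu, hdn]
  have hw1 : ∀ j, (ww n j).eval 1 = ∏ i ∈ Finset.range j, -d i := fun j => by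
    simp [ww, eval_prod, hu1]
  have hw0 : ∀ j, (ww n (j + 1)).eval 0 = 0 := fun j => by
    rw [ww, eval_prod]
    exact Finset.prod_eq_zero (Finset.mem_range.2 j.succ_pos) (by simp [uu, hn0])
  have hud : ∀ i, (uu n i).natDegree ≤ 1 := fun i =>
    (natDegree_sub_le _ _).trans (max_le ((natDegree_C_mul_le _ _).trans natDegree_X_le) (by simp))
  have hwd : ∀ j, (ww n j).natDegree ≤ j := fun j => by
    refine (natDegree_prod_le _ _).trans ((Finset.sum_le_sum fun i _ => ?_).trans (le_of_eq (by simp : ∑ _i ∈ Finset.range j, 1 = j)))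
    rw [natDegree_neg]; exact hud i
  -- the free parameters
  have hX : ((X : F[X]) - 1).Monic := by simpa using monic_X_sub_C (1 : F)
  have hX' : (((X : F[X]) - 1) ^ (m + 2)).natDegree = m + 2 := by
    rw [natDegree_pow, show ((X : F[X]) - 1).natDegree = 1 by simpa using natDegree_X_sub_C (1 : F), mul_one]
  obtain ⟨q', hq'⟩ := span_polys (H := fun t => C a⁻¹ * ww n t * (C c * X + uu n t)) m
    (fun t ht => by
      simp only [eval_mul, eval_C, eval_add, eval_X, hw1, hu1, mul_one]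
      refine mul_ne_zero (mul_ne_zero (inv_ne_zero ha) (Finset.prod_ne_zero_iff.2 fun i hi => ?_)) ?_
      · exact neg_ne_zero.2 (hd i (by rw [Finset.mem_range] at hi; omega))
      · rw [add_comm]; exact hdc t (by omega))
    (fun t _ => by
      rcases t with _ | t
      · simp [uu, hn0]
      · simp [hw0])
    (fun t _ => by
      refine (natDegree_mul_le).trans (Nat.add_le_add ((natDegree_C_mul_le _ _).trans (hwd t)) ?_)
      exact (natDegree_add_le _ _).trans (max_le ((natDegree_C_mul_le _ _).trans natDegree_X_le) (hud t)))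
    ((X - 1) ^ (m + 2) + C (c / a) * ww n (m + 1) - χ)
    (by
      rw [add_sub_right_comm]
      refine (natDegree_add_le _ _).trans (max_le ?_ ((natDegree_C_mul_le _ _).trans (hwd _)))
      rcases eq_or_ne (((X : F[X]) - 1) ^ (m + 2) - χ) 0 with e | e
      · simp [e]
      have hlt := natDegree_lt_natDegree e (degree_sub_lt_left (p := ((X : F[X]) - 1) ^ (m + 2)) (q := χ)
        (by rw [degree_eq_natDegree (hX.pow _).ne_zero, degree_eq_natDegree hχ.ne_zero, hX', hdeg])
        (hX.pow _).ne_zero (by rw [(hX.pow _).leadingCoeff, hχ.leadingCoeff]))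
      omega)
    (by simp [hw0, ← coeff_zero_eq_eval_zero, h0])
    (by
      simp only [eval_sub, eval_add, eval_mul, eval_pow, eval_X, eval_one, eval_C, sub_self, hw1]
      rw [zero_pow (by omega), zero_add, sub_eq_zero]
      rw [Finset.prod_neg, Finset.card_range]
      change c * ∏ i ∈ Finset.range (m + 1), d i = _ at hV
      field_simp
      have hsq : ((-1 : F) ^ (m + 1)) * (-1) ^ (m + 1) = 1 := by rw [← mul_pow]; simp
      linear_combination (-1 : F) ^ (m + 1) * hV + a * χ.eval 1 * hsq)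
  set q : ℕ → F := fun i => if 1 ≤ i ∧ i ≤ m then q' (i - 1) else 0
  have hq0 : q 0 = 0 := by simp [q]
  have hqo : ∀ i, m < i → q i = 0 := fun i hi => by simp [q]; omega
  have hχeq : χ = (X - 1) ^ (m + 2) + C (c / a) * ww n (m + 1) - ff a c n q (m + 1) := by
    rw [ff_eq hq0 (hqo _ (by omega)), eq_sub_iff_add_eq']
    rw [sub_eq_iff_eq_add] at hq'
    rw [hq']
    congr 1
    refine Finset.sum_congr rfl fun t ht => ?_
    rw [Finset.mem_range] at ht
    simp [q, show t + 1 ≤ m by omega]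
  -- the matrices
  set L := Lc m a b
  set P := Pc m n q
  have hLz : aeval L (X ^ (m + 2) + C b * X + C a) = 0 := aeval_Lc hm
  have hL : IsUnit L.det := isUnit_det_of_aeval ha hLz
  have hP : P.det = 1 := det_Pc (hqo _ (by omega))
  have hPu : IsUnit P.det := by rw [hP]; exact isUnit_one
  set B := L⁻¹ * P * L * P⁻¹
  have hLB : L * B * P = P * L := by
    simp only [B, Matrix.mul_assoc, Matrix.nonsing_inv_mul _ hPu, Matrix.mul_one,
      Matrix.mul_nonsing_inv_cancel_left _ _ hL]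
  have hLinj : Function.Injective L.mulVec := Matrix.mulVec_injective_iff_isUnit.2 ((Matrix.isUnit_iff_isUnit_det _).2 hL)
  have hz : ∀ (i : ℕ) (_ : i < m + 2) (z : Fin (m + 2) → F), L *ᵥ z = P *ᵥ (L *ᵥ vec m i) →
      B *ᵥ (P *ᵥ vec m i) = z := fun i _ z e => by
    refine hLinj ?_
    rw [Matrix.mulVec_mulVec, Matrix.mulVec_mulVec, Matrix.mul_assoc L, ← Matrix.mul_assoc L, hLB,
      e, Matrix.mulVec_mulVec]
  set e : ℕ → Fin (m + 2) → F := vec m
  have hPlast : P *ᵥ e (m + 1) = e (m + 1) := by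
    simp [P, e, Pc_vec, vec_out, hqo]
  -- relations
  have rel : ∀ i ≤ m, B *ᵥ (e i + n (i + 1) • e (i + 1) + q (i + 1) • e (m + 1)) =
      e i + n i • e (i + 1) - (q i / a) • e 0 := by
    intro i hi
    rw [← Pc_vec (by omega : i < m + 2)]
    refine hz i (by omega) _ ?_
    rcases i with _ | _ | j
    · simp [e, L, P, hn0, hq0, Lc_zero, Matrix.mulVec_smul, Matrix.mulVec_neg, hPlast]
    · simp only [e, zero_add, Lc_one]
      simp only [e, L, P, Matrix.mulVec_sub, Matrix.mulVec_add, Matrix.mulVec_smul, Lc_zero, Lc_one]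
      rw [Lc_succ (by omega), Pc_vec (by omega), show Pc m n q *ᵥ vec m (m + 1) = vec m (m + 1) from hPlast]
      match_scalars <;> (field_simp; try ring)
    · simp only [e, L, P, Matrix.mulVec_sub, Matrix.mulVec_add, Matrix.mulVec_smul, Lc_zero]
      rw [Lc_succ (i := j) (by omega), Lc_succ (i := j + 1) (by omega), Pc_vec (by omega)]
      match_scalars <;> field_simp
  have rell : B *ᵥ e (m + 1) = e (m + 1) - (c / a) • e 0 := by
    conv_lhs => rw [← hPlast]
    refine hz (m + 1) (by omega) _ ?_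
    obtain ⟨j, rfl⟩ := Nat.exists_eq_add_of_le' hm
    simp only [e, L, P, Matrix.mulVec_sub, Matrix.mulVec_smul, Lc_zero]
    rw [Lc_succ (i := j) (by omega), Pc_vec (by omega), hqo (j + 1 + 1) (by omega)]
    match_scalars <;> (field_simp; try simp [c])
  -- polynomials in B
  let Φ : F[X] → (Fin (m + 2) → F) → (Fin (m + 2) → F) := fun p v => aeval B p *ᵥ v
  have Φmul : ∀ p r v, Φ (p * r) v = Φ p (Φ r v) := fun p r v => by
    simp [Φ, map_mul, Matrix.mulVec_mulVec]
  have ΦX : ∀ v, Φ X v = B *ᵥ v := fun v => by simp [Φ]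
  have Φlin : ∀ p v w, Φ p (v + w) = Φ p v + Φ p w := fun p v w => Matrix.mulVec_add _ _ _
  have Φsm : ∀ p (s : F) v, Φ p (s • v) = s • Φ p v := fun p s v => Matrix.mulVec_smul _ _ _
  have Φadd : ∀ p r v, Φ (p + r) v = Φ p v + Φ r v := fun p r v => by simp [Φ, Matrix.add_mulVec]
  have Φsub : ∀ p r v, Φ (p - r) v = Φ p v - Φ r v := fun p r v => by simp [Φ, Matrix.sub_mulVec]
  have ΦC : ∀ (s : F) v, Φ (C s) v = s • v := fun s v => by
    simp [Φ, Algebra.algebraMap_eq_smul_one, Matrix.smul_mulVec]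
  have Φ1 : ∀ v, Φ 1 v = v := fun v => by simp [Φ]
  have step : ∀ i ≤ m, Φ (X - 1) (e i) + Φ (uu n i) (e (i + 1)) =
      -(q (i + 1) • Φ X (e (m + 1))) - (q i / a) • e 0 := by
    intro i hi
    have h := rel i hi
    simp only [Matrix.mulVec_add, Matrix.mulVec_smul] at h
    simp only [uu, Φsub, Φmul, ΦC, ΦX, Φ1]
    linear_combination (norm := module) h
  have stepl : Φ (X - 1) (e (m + 1)) = -((c / a) • e 0) := by
    rw [Φsub, ΦX, Φ1, rell]; module
  have inv : ∀ j ≤ m + 1, Φ (X - 1) (Φ ((X - 1) ^ j) (e 0) - Φ (ww n j) (e j)) =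
      Φ (ff a c n q j) (e 0) := by
    intro j
    induction j with
    | zero => intro _; simp [Φ, ww, ff]
    | succ j ih =>
      intro hj
      have h1 := ih (by omega)
      have h2 := step j (by omega)
      rw [ff_succ, Φadd, Φmul, ← h1, pow_succ', Φmul, show ww n (j + 1) = ww n j * -uu n j from Finset.prod_range_succ _ _]
      have e1 : Φ (-uu n j) (e (j + 1)) = Φ (X - 1) (e j) + q (j + 1) • Φ X (e (m + 1)) + (q j / a) • e 0 := by
        rw [show Φ (-uu n j) (e (j + 1)) = -Φ (uu n j) (e (j + 1)) by simp [Φ, Matrix.neg_mulVec]]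
        linear_combination (norm := module) (-1 : ℤ) • h2
      have cX : ∀ v, Φ (X - 1) (Φ X v) = Φ X (Φ (X - 1) v) := fun v => by rw [← Φmul, ← Φmul, mul_comm]
      have cW : ∀ v, Φ (X - 1) (Φ (ww n j) v) = Φ (ww n j) (Φ (X - 1) v) := fun v => by rw [← Φmul, ← Φmul, mul_comm]
      have nN : ∀ p v w, Φ p (v - w) = Φ p v - Φ p w := fun p v w => Matrix.mulVec_sub _ _ _
      have nn : ∀ p v, Φ p (-v) = -Φ p v := fun p v => Matrix.mulVec_neg _ _
      simp only [nN, Φmul, e1, Φlin, Φsm, cW, cX, stepl, nn, Φsub, ΦC, smul_neg, smul_smul]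
      module
  have hann : aeval B χ *ᵥ e 0 = 0 := by
    show Φ χ (e 0) = 0
    have h1 := inv (m + 1) le_rfl
    rw [hχeq, Φsub, Φadd, Φmul (C (c / a)), ΦC, ← h1, pow_succ' (X - 1 : F[X]) (m + 1), Φmul]
    rw [show Φ (X - 1) (Φ ((X - 1) ^ (m + 1)) (e 0) - Φ (ww n (m + 1)) (e (m + 1))) =
      Φ (X - 1) (Φ ((X - 1) ^ (m + 1)) (e 0)) - Φ (ww n (m + 1)) (Φ (X - 1) (e (m + 1))) by
        simp only [← Φmul, mul_comm (ww n (m + 1))]; simp only [Φmul]; exact Matrix.mulVec_sub _ _ _]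
    rw [stepl, show Φ (ww n (m + 1)) (-((c / a) • e 0)) = -((c / a) • Φ (ww n (m + 1)) (e 0)) by
      simp [Φ, Matrix.mulVec_neg, Matrix.mulVec_smul]]
    module
  -- cyclicity
  let U : Submodule F (Fin (m + 2) → F) :=
    { carrier := {v | ∃ p : F[X], Φ p (e 0) = v}
      add_mem' := by rintro _ _ ⟨p, rfl⟩ ⟨r, rfl⟩; exact ⟨p + r, Φadd p r _⟩
      zero_mem' := ⟨0, by simp [Φ]⟩
      smul_mem' := by rintro s _ ⟨p, rfl⟩; exact ⟨C s * p, by rw [Φmul, ΦC]⟩ }
  have hUe : e 0 ∈ U := ⟨1, Φ1 _⟩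
  have hUΦ : ∀ p {v}, v ∈ U → Φ p v ∈ U := by
    rintro p _ ⟨r, rfl⟩; exact ⟨p * r, Φmul p r _⟩
  have hU0 : ∀ p (s : F), Φ p (s • e 0) ∈ U := fun p s => hUΦ p (U.smul_mem s hUe)
  -- every relation seen after a power of `X - 1`
  have nrel : ∀ (t : ℕ), ∀ i ≤ m, Φ ((X - 1) ^ (t + 1)) (e i) + Φ (uu n i) (Φ ((X - 1) ^ t) (e (i + 1))) +
      q (i + 1) • Φ X (Φ ((X - 1) ^ t) (e (m + 1))) ∈ U := by
    intro t i hi
    have h := congrArg (Φ ((X - 1) ^ t)) (step i hi)
    rw [Φlin, ← Φmul, ← Φmul, ← pow_succ, mul_comm _ (uu n i), Φmul] at h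
    rw [h, show Φ ((X - 1) ^ t) (-(q (i + 1) • Φ X (e (m + 1))) - (q i / a) • e 0) =
      -(q (i + 1) • Φ X (Φ ((X - 1) ^ t) (e (m + 1)))) - Φ ((X - 1) ^ t) ((q i / a) • e 0) by
        rw [← Φmul X, mul_comm X, Φmul]
        simp [Φ, Matrix.mulVec_sub, Matrix.mulVec_neg, Matrix.mulVec_smul]]
    rw [sub_add_eq_add_sub, neg_add_cancel, zero_sub]
    exact U.neg_mem (hU0 _ _)
  have hhigh : ∀ (t i : ℕ), i ≤ m + 1 → m + 2 ≤ i + t → Φ ((X - 1) ^ t) (e i) ∈ U := by
    intro t
    induction t with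
    | zero => intro i h1 h2; omega
    | succ t ih =>
      intro i h1 h2
      rcases Nat.lt_or_ge m i with hi | hi
      · obtain rfl : i = m + 1 := by omega
        rw [pow_succ, Φmul, stepl, ← neg_smul]
        exact hU0 _ _
      · have := nrel t i hi
        have h3 : Φ (uu n i) (Φ ((X - 1) ^ t) (e (i + 1))) + q (i + 1) • Φ X (Φ ((X - 1) ^ t) (e (m + 1))) ∈ U :=
          U.add_mem (hUΦ _ (ih (i + 1) (by omega) (by omega)))
            (U.smul_mem _ (hUΦ _ (ih (m + 1) le_rfl (by omega))))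
        rw [add_assoc] at this
        exact (U.add_mem_iff_left h3).1 this
  have hdown : ∀ t, (∀ i, i ≤ m + 1 → Φ ((X - 1) ^ (t + 1)) (e i) ∈ U) →
      ∀ i, i ≤ m + 1 → Φ ((X - 1) ^ t) (e i) ∈ U := by
    intro t ht
    have h : ∀ i ≤ m, d i • Φ ((X - 1) ^ t) (e (i + 1)) + q (i + 1) • Φ ((X - 1) ^ t) (e (m + 1)) ∈ U := by
      intro i hi
      have h1 := nrel t i hi
      have hx : ∀ v, Φ X v = Φ (X - 1) v + v := fun v => by rw [Φsub, ΦX, Φ1]; module
      have hu : ∀ v, Φ (uu n i) v = n (i + 1) • Φ (X - 1) v + d i • v := fun v => by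
        simp only [uu, Φsub, Φmul, ΦC, hdn, Φ1, ΦX]; module
      rw [hu, hx] at h1
      simp only [← Φmul, ← pow_succ'] at h1
      have h2 := U.sub_mem h1 (U.add_mem (ht i (by omega))
        (U.add_mem (U.smul_mem (n (i + 1)) (ht (i + 1) (by omega))) (U.smul_mem (q (i + 1)) (ht (m + 1) le_rfl))))
      convert h2 using 1
      module
    have hlast : Φ ((X - 1) ^ t) (e (m + 1)) ∈ U := by
      have := h m le_rfl
      rw [hqo (m + 1) (by omega), zero_smul, add_zero] at this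
      exact (U.smul_mem_iff (hd m (by omega))).1 this
    intro i hi
    rcases i with _ | j
    · exact hUΦ _ hUe
    · exact (U.smul_mem_iff (hd j (by omega))).1
        ((U.add_mem_iff_left (U.smul_mem _ hlast)).1 (h j (by omega)))
  have hall : ∀ t i, i ≤ m + 1 → Φ ((X - 1) ^ (m + 2 - t)) (e i) ∈ U := by
    intro t
    induction t with
    | zero => intro i hi; exact hhigh _ i hi (by omega)
    | succ t ih =>
      rcases Nat.lt_or_ge t (m + 2) with ht | ht
      · refine hdown _ ?_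
        rwa [show m + 2 - (t + 1) + 1 = m + 2 - t by omega]
      · rwa [show m + 2 - (t + 1) = m + 2 - t by omega]
  have htop : ∀ v, v ∈ U := by
    intro v
    rw [pi_eq_sum_univ' v]
    refine U.sum_mem fun i _ => U.smul_mem _ ?_
    have := hall (m + 2) i (by have := i.2; omega)
    rw [Nat.sub_self, pow_zero, Φ1] at this
    simpa [e, vec, i.2] using this
  have hK : IsUnit (kry B (e 0)).det := by
    rw [← Matrix.isUnit_iff_isUnit_det, ← Matrix.mulVec_surjective_iff_isUnit]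
    intro v
    obtain ⟨p, rfl⟩ := htop v
    have hp : Φ p (e 0) = Φ (p %ₘ χ) (e 0) := by
      conv_lhs => rw [← modByMonic_add_div p χ, Φadd, mul_comm, Φmul]
      show _ + aeval B (p /ₘ χ) *ᵥ (aeval B χ *ᵥ e 0) = _
      rw [hann, Matrix.mulVec_zero, add_zero]
    have hlt : (p %ₘ χ).natDegree < m + 2 := by
      rw [← hdeg]; exact natDegree_modByMonic_lt p hχ (fun e => by simp [e] at hdeg)
    refine ⟨fun r => (p %ₘ χ).coeff r, ?_⟩
    rw [hp]
    show _ = aeval B (p %ₘ χ) *ᵥ e 0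
    rw [aeval_eq_sum_range' hlt, Finset.sum_range, Matrix.sum_mulVec]
    funext s
    simp [kry, Matrix.mulVec, dotProduct, Matrix.smul_apply, Finset.mul_sum, mul_comm, mul_left_comm]
  set K := kry B (e 0)
  have hBK : B * K = K * comp (m + 2) χ := kry_comp hχ hdeg hann
  have hKC : K * comp (m + 2) χ * K⁻¹ = B := by
    rw [← hBK, Matrix.mul_nonsing_inv_cancel_right _ _ hK]
  refine ⟨L, P, L * K, by rw [Matrix.det_mul]; exact hL.mul hK, hL, det_Lc hm, hP, ?_, hLz⟩
  rw [Matrix.mul_inv_rev]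
  calc L * K * comp (m + 2) χ * (K⁻¹ * L⁻¹) * L * P
      = L * (K * comp (m + 2) χ * K⁻¹) * P := by
        simp only [Matrix.mul_assoc, Matrix.nonsing_inv_mul_cancel_left _ _ hL]
    _ = _ := by rw [hKC, hLB]

theorem quad_cases {b : F} (h2 : (2 : F) = 0) (hb : b * b = b + 1) (hall : ∀ x : F, x ≠ 0 → x ^ 3 = 1) (x : F) :
    x = 0 ∨ x = 1 ∨ x = b ∨ x = b + 1 := by
  rcases eq_or_ne x 0 with h | h
  · exact Or.inl h
  have : (x - 1) * ((x - b) * (x - (b + 1))) = 0 := by
    linear_combination hall x h + (x - 1) * hb + (x - 1) * (b - (b + 1) * x) * h2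
  rcases mul_eq_zero.1 this with e | e
  · exact Or.inr (Or.inl (sub_eq_zero.1 e))
  rcases mul_eq_zero.1 e with e | e
  · exact Or.inr (Or.inr (Or.inl (sub_eq_zero.1 e)))
  · exact Or.inr (Or.inr (Or.inr (sub_eq_zero.1 e)))

set_option maxHeartbeats 1600000 in
/-- eight explicit pairs over the field with four elements -/
theorem three_four {b : F} (h2 : (2 : F) = 0) (hb : b * b = b + 1) (hall : ∀ x : F, x ≠ 0 → x ^ 3 = 1)
    (p q : F) (hV0 : p + q ≠ 0) (hV1 : p + q ≠ 1) :
    ∃ L P : Matrix (Fin 3) (Fin 3) F, P.det = 1 ∧ L.det = 1 ∧ !![0, 0, 1; 1, 0, q; 0, 1, p] * L * P = P * L ∧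
      L * L * L + b • L + 1 = 0 := by
  have hV : p + q = b ∨ p + q = b + 1 :=
    ((quad_cases h2 hb hall (p + q)).resolve_left hV0).resolve_left hV1
  have hq : q = p + (p + q) := by linear_combination -p * h2
  rcases hV with hV | hV <;> rw [hV] at hq <;> subst hq <;>
    rcases quad_cases h2 hb hall p with h | h | h | h <;> rw [h]
  · refine ⟨!![0, 0, 1; 1, 0, b + 1; 1, 1, 0], !![1, 0, 0; 1, 0, 1; 1, 1, b + 1], ?_, ?_, ?_, ?_⟩ <;>
      (try rw [Matrix.det_fin_three]) <;> (try ext i j) <;> (try fin_cases i <;> fin_cases j) <;>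
      simp [Matrix.mul_apply, Fin.sum_univ_three] <;> grind
  · refine ⟨!![0, 0, b; b, 0, 1; 0, b, 0], !![1, 0, 0; 0, 0, 1; 0, 1, b + 1], ?_, ?_, ?_, ?_⟩ <;>
      (try rw [Matrix.det_fin_three]) <;> (try ext i j) <;> (try fin_cases i <;> fin_cases j) <;>
      simp [Matrix.mul_apply, Fin.sum_univ_three] <;> grind
  · refine ⟨!![0, 1, 1; b + 1, 0, 0; 1, b, 0], !![1, 0, b + 1; 1, 0, 1; 0, b + 1, 0], ?_, ?_, ?_, ?_⟩ <;>
      (try rw [Matrix.det_fin_three]) <;> (try ext i j) <;> (try fin_cases i <;> fin_cases j) <;>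
      simp [Matrix.mul_apply, Fin.sum_univ_three] <;> grind
  · refine ⟨!![0, 1, b + 1; b, 0, 0; 0, 1, 0], !![1, 0, b; 0, b + 1, b + 1; b, 1, 0], ?_, ?_, ?_, ?_⟩ <;>
      (try rw [Matrix.det_fin_three]) <;> (try ext i j) <;> (try fin_cases i <;> fin_cases j) <;>
      simp [Matrix.mul_apply, Fin.sum_univ_three] <;> grind
  · refine ⟨!![0, 0, b; b, 0, b + 1; b, b, 0], !![1, 0, 0; 1, 0, 1; 1, 1, b], ?_, ?_, ?_, ?_⟩ <;>
      (try rw [Matrix.det_fin_three]) <;> (try ext i j) <;> (try fin_cases i <;> fin_cases j) <;>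
      simp [Matrix.mul_apply, Fin.sum_univ_three] <;> grind
  · refine ⟨!![0, 0, 1; 1, 0, b; 0, 1, 0], !![1, 0, 0; 0, 0, 1; 0, 1, b], ?_, ?_, ?_, ?_⟩ <;>
      (try rw [Matrix.det_fin_three]) <;> (try ext i j) <;> (try fin_cases i <;> fin_cases j) <;>
      simp [Matrix.mul_apply, Fin.sum_univ_three] <;> grind
  · refine ⟨!![0, b, b + 1; 1, 0, 0; 0, b, 0], !![1, 0, b + 1; 0, b, b; b + 1, 1, 0], ?_, ?_, ?_, ?_⟩ <;>
      (try rw [Matrix.det_fin_three]) <;> (try ext i j) <;> (try fin_cases i <;> fin_cases j) <;>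
      simp [Matrix.mul_apply, Fin.sum_univ_three] <;> grind
  · refine ⟨!![0, 1, 1; 0, 0, b; b + 1, b + 1, 0], !![0, 1, 0; 0, 1, b + 1; b, b + 1, 1], ?_, ?_, ?_, ?_⟩ <;>
      (try rw [Matrix.det_fin_three]) <;> (try ext i j) <;> (try fin_cases i <;> fin_cases j) <;>
      simp [Matrix.mul_apply, Fin.sum_univ_three] <;> grind

end Companion

open Companion in
/-- a cyclic matrix of determinant one is a commutator with a trinomial class -/
theorem exists_comm_companion {F : Type*} [Field F] [Fintype F]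
    (hF : Fintype.card F = 4 ∨ Fintype.card F = 9) {k : ℕ} (hk : 3 ≤ k) (a b : F) (ha : a ≠ 0)
    (h43 : k = 3 → Fintype.card F = 4 → a = 1 ∧ b * b = b + 1) (M : Matrix (Fin k) (Fin k) F)
    (hdet : M.det = 1)
    (hcyc : ∃ v : Fin k → F, LinearIndependent F (fun i : Fin k => (M ^ (i:ℕ)).mulVec v)) :
    ∃ L P : Matrix (Fin k) (Fin k) F, IsUnit L.det ∧ L.det = (-1) ^ k * a ∧ P.det = 1 ∧ M * L * P = P * L ∧
      Polynomial.aeval L (X ^ k + C b * X + C a) = 0 := by
  classical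
  obtain ⟨v, hv⟩ := hcyc
  obtain ⟨m, rfl⟩ : ∃ m, k = m + 2 := ⟨k - 2, by omega⟩
  set χ := M.charpoly
  have hχ : χ.Monic := M.charpoly_monic
  have hdeg : χ.natDegree = m + 2 := by rw [Matrix.charpoly_natDegree_eq_dim, Fintype.card_fin]
  have h0 : χ.coeff 0 = (-1) ^ (m + 2) := by
    have := Matrix.det_eq_sign_charpoly_coeff M
    rw [hdet, Fintype.card_fin] at this
    have hsq : ((-1 : F) ^ (m + 2)) * (-1) ^ (m + 2) = 1 := by rw [← mul_pow]; simp
    linear_combination (-1 : F) ^ (m + 2) * (-this) - χ.coeff 0 * hsq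
  have hK := isUnit_kry_of_li hv
  have hMK : M * kry M v = kry M v * Companion.comp (m + 2) χ :=
    kry_comp hχ hdeg (by rw [Matrix.aeval_self_charpoly, Matrix.zero_mulVec])
  by_cases hspec : m = 1 ∧ Fintype.card F = 4 ∧ χ.eval 1 ≠ 0 ∧ χ.eval 1 ≠ 1
  · obtain ⟨rfl, h4, hne0, hne1⟩ := hspec
    obtain ⟨rfl, hb⟩ := h43 rfl h4
    obtain ⟨hc, hall, -⟩ := four_data h4
    have h2 : (2 : F) = 0 := CharTwo.two_eq_zero
    have hev : χ.eval 1 = χ.coeff 2 + χ.coeff 1 := by
      have h3c : χ.coeff 3 = 1 := by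
        have := hχ.coeff_natDegree
        rwa [hdeg] at this
      rw [eval_eq_sum_range, hdeg]
      simp [Finset.sum_range_succ, h0, h3c]
      linear_combination (0 : F) * h2
    rw [hev] at hne0 hne1
    obtain ⟨L, P, hP, hdL, e, hL⟩ := three_four h2 hb hall (χ.coeff 2) (χ.coeff 1) hne0 hne1
    have hz : aeval L (X ^ 3 + C b * X + C 1) = 0 := by
      simpa [pow_succ, pow_two, Algebra.algebraMap_eq_smul_one, smul_mul_assoc] using hL
    have hcomp : Companion.comp 3 χ = !![0, 0, 1; 1, 0, χ.coeff 1; 0, 1, χ.coeff 2] := by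
      ext i j
      fin_cases i <;> fin_cases j <;> simp [Companion.comp, h0, CharTwo.neg_eq]
    exact transfer hK hMK (isUnit_det_of_aeval one_ne_zero hz) hP (hcomp ▸ e) hz (by rw [hdL]; linear_combination h2)
  · have hs : Sol (m + 1) ((-1) ^ (m + 1) * a * χ.eval 1) := by
      refine sol_exists hF (by omega) _ fun hm2 h4 => ?_
      obtain rfl : m = 1 := by omega
      obtain ⟨rfl, -⟩ := h43 rfl h4
      have : χ.eval 1 = 0 ∨ χ.eval 1 = 1 := by
        by_contra hh
        push Not at hh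
        exact hspec ⟨rfl, h4, hh.1, hh.2⟩
      rcases this with h | h <;> simp [h]
    obtain ⟨L, P, S, hS, hL, hdL, hP, e, hz⟩ := build (by omega) ha χ hχ hdeg h0 hs
    have hSi := Matrix.isUnit_nonsing_inv_det _ hS
    refine transfer (S := kry M v * S⁻¹) (C' := S * Companion.comp (m + 2) χ * S⁻¹)
      (by rw [Matrix.det_mul]; exact hK.mul hSi) ?_ hL hP e hz hdL
    rw [← Matrix.mul_assoc, hMK]
    simp only [Matrix.mul_assoc, Matrix.nonsing_inv_mul_cancel_left _ _ hS]

end CfsgLib.KnownB.OreSU
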