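import Cfsg.Agent.Lib.KnownB.OreSU.Middle

/-!
Choosing the corner: skew-hermitian matrices, except one diagonal entry, of prescribed determinant.
-/

set_option autoImplicit false
set_option linter.unusedSectionVars false

namespace CfsgLib.KnownB.OreSU

open Matrix Polynomial

variable {F : Type*} [Field F] [StarRing F]

/-- The tridiagonal matrix with diagonal `s`. -/
def tri {k : ℕ} (s : Fin k → F) : Matrix (Fin k) (Fin k) F :=
  Matrix.of fun i m => if i = m then s i else if (m : ℕ) = i + 1 then 1 else if (i : ℕ) = m + 1 then -1 else 0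

theorem tri_add_conjTranspose {k : ℕ} (s : Fin k → F) :
    tri s + (tri s)ᴴ = diagonal fun i => s i + star (s i) := by
  ext i m
  by_cases him : i = m
  · subst him; simp [tri]
  · simp only [tri, Matrix.add_apply, conjTranspose_apply, Matrix.of_apply, if_neg him, if_neg (Ne.symm him),
      diagonal_apply_ne _ him]
    by_cases h1 : (m : ℕ) = i + 1
    · simp [h1, show ¬ (i : ℕ) = i + 1 + 1 by omega]
    by_cases h2 : (i : ℕ) = m + 1
    · simp [h2, show ¬ (m : ℕ) = m + 1 + 1 by omega]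
    simp [h1, h2]

theorem det_tri_snoc {k : ℕ} (s : Fin k → F) (x : F) :
    (tri (Fin.snoc s x)).det = (tri (Fin.snoc s (0 : F))).det + x * (tri s).det := by
  set A := tri (Fin.snoc s (0 : F)) with hA
  have hx : tri (Fin.snoc s x) =
      A.updateRow (Fin.last k) (A (Fin.last k) + x • Pi.single (Fin.last k) 1) := by
    ext i m
    refine Fin.lastCases ?_ (fun i => ?_) i
    · rw [updateRow_self]
      refine Fin.lastCases ?_ (fun m => ?_) m
      · simp [hA, tri]
      · have : (Fin.last k) ≠ m.castSucc := (Fin.castSucc_lt_last m).ne'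
        simp [hA, tri, this, this.symm]
    · rw [updateRow_ne (Fin.castSucc_lt_last i).ne]
      simp [hA, tri]
  rw [hx, det_updateRow_add, det_updateRow_smul, updateRow_eq_self]
  congr 2
  rw [← adjugate_apply, adjugate_fin_succ_eq_det_submatrix]
  have hsub : A.submatrix (Fin.last k).succAbove (Fin.last k).succAbove = tri s := by
    ext i m
    simp [hA, tri, Fin.succAbove_last]
  rw [hsub, Fin.val_last, ← two_mul, pow_mul, neg_one_sq, one_pow, one_mul]

/-- An invertible skew-hermitian tridiagonal matrix. -/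
theorem exists_skew_tri {c : F} (hc : c ≠ 0) (hcs : c + star c = 0) :
    ∀ k : ℕ, ∃ s : Fin k → F, (∀ i, s i + star (s i) = 0) ∧ (tri s).det ≠ 0
  | 0 => ⟨Fin.elim0, fun i => i.elim0, by simp⟩
  | k + 1 => by
    obtain ⟨s, hs, hd⟩ := exists_skew_tri hc hcs k
    have hall : ∀ x : F, x + star x = 0 → ∀ i, (Fin.snoc s x : Fin (k + 1) → F) i +
        star ((Fin.snoc s x : Fin (k + 1) → F) i) = 0 := fun x hx i =>
      Fin.lastCases (by simpa using hx) (fun i => by simpa using hs i) i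
    by_cases h0 : (tri (Fin.snoc s (0 : F))).det = 0
    · exact ⟨Fin.snoc s c, hall c hcs, by rw [det_tri_snoc, h0, zero_add]; exact mul_ne_zero hc hd⟩
    · exact ⟨Fin.snoc s (0 : F), hall 0 (by simp), h0⟩

variable [Finite F] {j l r : ℕ} {μ : F} {N : Matrix (Fin j) (Fin j) F}
  {R : Matrix (Fin j) (Fin l) F} {g : UJ F (Fin j ⊕ Fin l) (Fin r)}
  {C L : Matrix (Fin j ⊕ Fin l) (Fin j ⊕ Fin l) F} {G : Matrix (Fin r) (Fin j ⊕ Fin l) F}
  {K : Matrix (Fin j ⊕ Fin l) (Fin r) F}

/-- The corner determinant. -/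
theorem det_corner (S : Matrix (Fin j) (Fin j) F) (hS : IsUnit (S * N).det) (Xb : Matrix (Fin j) (Fin l) F)
    (R : Matrix (Fin j) (Fin l) F) (μ : F) :
    (fromBlocks 0 0 0 (μ • 1) + fromBlocks S Xb (-Xbᴴ) 0 * fromBlocks N R 0 0).det =
      S.det * N.det * μ ^ l ∧
    fromBlocks 0 0 0 (μ • 1) + fromBlocks S Xb (-Xbᴴ) 0 * fromBlocks N R 0 0 =
      fromBlocks (S * N) (S * R) (-Xbᴴ * N) (μ • 1 + -Xbᴴ * R) := by
  have e : fromBlocks 0 0 0 (μ • 1) + fromBlocks S Xb (-Xbᴴ) 0 * fromBlocks N R 0 0 =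
      fromBlocks (S * N) (S * R) (-Xbᴴ * N) (μ • 1 + -Xbᴴ * R) := by
    simp [fromBlocks_multiply, fromBlocks_add]
  refine ⟨?_, e⟩
  rw [e]
  have : Invertible (S * N) := Matrix.invertibleOfIsUnitDet _ hS
  have hcancel : -Xbᴴ * N * ⅟(S * N) * (S * R) = -Xbᴴ * R := by
    have hS' : IsUnit S.det := isUnit_of_mul_isUnit_left (by rwa [det_mul] at hS)
    have hN' : IsUnit N.det := isUnit_of_mul_isUnit_right (by rwa [det_mul] at hS)
    rw [invOf_eq_nonsing_inv, Matrix.mul_inv_rev, ← Matrix.mul_assoc (-Xbᴴ * N) N⁻¹ S⁻¹,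
      Matrix.mul_nonsing_inv_cancel_right _ _ hN', Matrix.mul_assoc, Matrix.nonsing_inv_mul_cancel_left _ _ hS']
  rw [det_fromBlocks₁₁, hcancel, add_sub_cancel_right, det_smul, det_one, mul_one, det_mul,
    Fintype.card_fin]

/-- Valid unipotent parameters from a matrix which is skew-hermitian off one diagonal entry. -/
theorem exists_ab (h_norm : ∀ x : F, star x = x → ∃ y : F, y * star y = x)
    (S : Matrix (Fin j) (Fin j) F) (p : Fin j) (t : F) (hS : S + Sᴴ = Matrix.single p p t)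
    (htr : r = 0 → t = 0) (Xb : Matrix (Fin j) (Fin l) F) :
    ∃ a : Matrix (Fin j ⊕ Fin l) (Fin r) F,
      fromBlocks S Xb (-Xbᴴ) 0 + (fromBlocks S Xb (-Xbᴴ) 0)ᴴ + a * aᴴ = 0 ∧
        ∀ i (k : Fin r), (k : ℕ) + 1 < r → a i k = 0 := by
  have hsum : fromBlocks S Xb (-Xbᴴ) 0 + (fromBlocks S Xb (-Xbᴴ) 0)ᴴ =
      fromBlocks (Matrix.single p p t) 0 0 (0 : Matrix (Fin l) (Fin l) F) := by
    rw [fromBlocks_conjTranspose, fromBlocks_add]
    simp [hS]
  rw [hsum]
  rcases r with _ | m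
  · refine ⟨0, ?_, fun i k => k.elim0⟩
    simp [htr rfl]
  have hst : star (-t) = -t := by
    have h := congrFun (congrFun hS p) p
    simp only [Matrix.add_apply, conjTranspose_apply, Matrix.single_apply_same] at h
    rw [← h]; simp [add_comm]
  obtain ⟨y, hy⟩ := h_norm (-t) hst
  refine ⟨Matrix.single (Sum.inl p) (Fin.last m) y, ?_, fun i k hk => ?_⟩
  · rw [conjTranspose_single, Matrix.single_mul_single_same, hy]
    ext (i | i) (k | k) <;> simp [Matrix.single_apply]
    all_goals split_ifs <;> ring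
  · apply Matrix.single_apply_of_col_ne
    exact fun h => by subst h; simp at hk

/-- With no middle the exceptional entry vanishes. -/
theorem trace_zero_of_det {g : UJ F (Fin j ⊕ Fin l) (Fin r)} (hr : r = 0) (hdet : g.1.1.det = 1)
    (hg : g.1.1 = blk (fromBlocks 0 0 0 (μ • 1)) 0 C 0 (μ • 1) G (fromBlocks N R 0 0) K L)
    (hN : IsUnit N.det) {c : F} (hc : c ≠ 0) (hcs : c + star c = 0)
    (S : Matrix (Fin j) (Fin j) F) (p : Fin j) (t : F) (hS : S + Sᴴ = Matrix.single p p t)
    (hd : S.det * N.det * μ ^ l = 1) (hp : S.adjugate p p ≠ 0) : t = 0 := by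
  subst hr
  obtain ⟨s, hs, hs0⟩ := exists_skew_tri hc hcs j
  have hskew : tri s + (tri s)ᴴ = 0 := by
    rw [tri_add_conjTranspose]; simp [hs]
  obtain ⟨b₀, hb₀⟩ : ∃ b₀ : Matrix (Fin j ⊕ Fin l) (Fin j ⊕ Fin l) F,
      b₀ = fromBlocks (tri s) 0 0 0 := ⟨_, rfl⟩
  have hab0 : b₀ + b₀ᴴ = 0 := by
    rw [hb₀, fromBlocks_conjTranspose, fromBlocks_add, hskew]
    simp
  have hab : b₀ + b₀ᴴ + (0 : Matrix (Fin j ⊕ Fin l) (Fin 0) F) * (0 : Matrix (Fin j ⊕ Fin l) (Fin 0) F)ᴴ = 0 := by
    rw [Matrix.zero_mul, add_zero, hab0]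
  let u := upE _ _ hab
  obtain ⟨A2, B2, C2, D2, E2, G2, H2, K2, L2, hg2⟩ := exists_blk (u * g * u⁻¹).1.1
  have hA2 : A2 = fromBlocks 0 0 0 (μ • 1) +
      fromBlocks (tri s) (0 : Matrix (Fin j) (Fin l) F) (-(0 : Matrix (Fin j) (Fin l) F)ᴴ) 0 *
        fromBlocks N R 0 0 := by
    have hi : u⁻¹ = upE 0 b₀ᴴ (by
        rw [conjTranspose_conjTranspose, ← hab]; abel) := inv_eq_of_mul_eq_one_right (uj_ext (by
      simp only [uj_mul_val]
      rw [upE_val, upE_val]
      simp only [blk_mul, blk_one, OneMemClass.coe_one, Units.val_one]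
      congr 1 <;> simp [add_comm b₀ᴴ, hab0]))
    have hval := hg2
    rw [hi] at hval
    simp only [uj_mul_val, hg] at hval
    rw [upE_val, upE_val] at hval
    simp only [blk_mul] at hval
    obtain ⟨eA, -⟩ := blk_inj.1 hval.symm
    rw [eA]
    simp [hb₀]
  have hSN : IsUnit (tri s * N).det := by
    rw [det_mul]; exact (isUnit_iff_ne_zero.2 hs0).mul hN
  have hμl : μ ^ l ≠ 0 := right_ne_zero_of_mul_eq_one hd
  obtain ⟨hdet2, -⟩ := det_corner (N := N) (tri s) hSN (0 : Matrix (Fin j) (Fin l) F) R μ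
  rw [← hA2] at hdet2
  have hA : IsUnit A2.det := by
    rw [hdet2, isUnit_iff_ne_zero]
    exact mul_ne_zero (mul_ne_zero hs0 hN.ne_zero) hμl
  obtain ⟨hh, l₀, hl₀, u₀, hu₀, hfac⟩ := exists_gauss _ hg2 hA
  have h1 := congrArg (dU F (Fin j ⊕ Fin l) (Fin 0)) hfac
  simp only [map_mul, map_inv, dU_of_mem_Low hl₀, dU_of_mem_Up hu₀, mul_inv_cancel_comm, one_mul,
    mul_one] at h1
  rw [dU_eq_one_iff.2 hdet] at h1
  have h2 := dU_eq_one_iff.1 h1.symm
  rw [det_lev, det_isEmpty (A := E2 - D2 * A2⁻¹ * B2), mul_one] at h2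
  have hfix : star A2.det = A2.det := by
    rwa [div_eq_one_iff_eq (star_ne_zero.2 hA.ne_zero), eq_comm] at h2
  have hpar : star (tri s).det = (-1) ^ j * (tri s).det := by
    have : (tri s)ᴴ = -tri s := eq_neg_of_add_eq_zero_right hskew
    rw [← det_conjTranspose, this, det_neg, Fintype.card_fin]
  have hrat : star S.det = (-1) ^ j * S.det := by
    rw [hdet2, star_mul', star_mul', hpar] at hfix
    have hd' : star S.det * (star N.det * star (μ ^ l)) = 1 := by
      rw [← star_mul', ← star_mul', ← mul_assoc, hd, star_one]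
    have e : (-1 : F) ^ j * (star N.det * star (μ ^ l)) = N.det * μ ^ l :=
      mul_left_cancel₀ hs0 (by linear_combination hfix)
    linear_combination (-(star S.det)) * hd - (star S.det * S.det) * e + (-1) ^ j * S.det * hd'
  have hSH : Sᴴ = (-S).updateRow p ((-S) p + t • Pi.single p 1) := by
    ext i k
    have h := congrFun (congrFun hS i) k
    simp only [Matrix.add_apply, conjTranspose_apply] at h
    rcases eq_or_ne i p with rfl | hi
    · rw [updateRow_self]
      rcases eq_or_ne k i with rfl | hk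
      · rw [Matrix.single_apply_same] at h
        simp
        linear_combination h
      · rw [Matrix.single_apply_of_col_ne _ _ (Ne.symm hk)] at h
        simp [hk]
        linear_combination h
    · rw [updateRow_ne hi]
      rw [Matrix.single_apply_of_row_ne (Ne.symm hi)] at h
      simp
      linear_combination h
  have h3 : star S.det = (-1) ^ j * S.det + t * ((-1) ^ (j - 1) * S.adjugate p p) := by
    rw [← det_conjTranspose, hSH, det_updateRow_add, det_updateRow_smul, updateRow_eq_self, det_neg,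
      Fintype.card_fin, ← adjugate_apply, ← neg_one_smul F S, adjugate_smul]
    simp
  have h4 : t * ((-1) ^ (j - 1) * S.adjugate p p) = 0 := by linear_combination hrat - h3
  exact (mul_eq_zero.1 h4).resolve_right
    (mul_ne_zero (pow_ne_zero _ (neg_ne_zero.2 one_ne_zero)) hp)

/-- The standard corner. -/
theorem exists_corner (h_norm : ∀ x : F, star x = x → ∃ y : F, y * star y = x)
    {c : F} (hc : c ≠ 0) (hcs : c + star c = 0) (hj : 1 ≤ j) (hμ : μ ≠ 0) (hdet : g.1.1.det = 1)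
    (hg : g.1.1 = blk (fromBlocks 0 0 0 (μ • 1)) 0 C 0 (μ • 1) G (fromBlocks N R 0 0) K L)
    (hN : IsUnit N.det) :
    ∃ S : Matrix (Fin j) (Fin j) F, S.det * N.det * μ ^ l = 1 ∧
      (∀ i k : Fin j, (i : ℕ) = k + 1 → S i k = -1) ∧
      (∀ i k : Fin j, (k : ℕ) + 1 < i → S i k = 0) ∧
      (∃ (p : Fin j) (t : F), S + Sᴴ = Matrix.single p p t ∧ (r = 0 → t = 0)) ∧
      ∀ Xb : Matrix (Fin j) (Fin l) F, ∃ a : Matrix (Fin j ⊕ Fin l) (Fin r) F,
        fromBlocks S Xb (-Xbᴴ) 0 + (fromBlocks S Xb (-Xbᴴ) 0)ᴴ + a * aᴴ = 0 ∧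
          ∀ i (k : Fin r), (k : ℕ) + 1 < r → a i k = 0 := by
  obtain ⟨m, rfl⟩ : ∃ m, j = m + 1 := ⟨j - 1, by omega⟩
  obtain ⟨s, hs, hs0⟩ := exists_skew_tri hc hcs m
  set x := ((N.det * μ ^ l)⁻¹ - (tri (Fin.snoc s (0 : F))).det) / (tri s).det with hx
  set S := tri (Fin.snoc s x) with hSdef
  have hSd : S.det * N.det * μ ^ l = 1 := by
    rw [hSdef, det_tri_snoc, hx, div_mul_cancel₀ _ hs0, add_sub_cancel, mul_assoc, inv_mul_cancel₀]
    exact mul_ne_zero hN.ne_zero (pow_ne_zero _ hμ)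
  have hS : S + Sᴴ = Matrix.single (Fin.last m) (Fin.last m) (x + star x) := by
    rw [hSdef, tri_add_conjTranspose]
    ext i k
    refine Fin.lastCases ?_ (fun i => ?_) i <;> refine Fin.lastCases ?_ (fun k => ?_) k
    · simp
    · simp [(Fin.castSucc_lt_last k).ne']
    · simp [(Fin.castSucc_lt_last i).ne, (Fin.castSucc_lt_last i).ne']
    · simp [diagonal_apply, hs, (Fin.castSucc_lt_last i).ne']
  have hp : S.adjugate (Fin.last m) (Fin.last m) ≠ 0 := by
    rw [adjugate_fin_succ_eq_det_submatrix]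
    have hsub : S.submatrix (Fin.last m).succAbove (Fin.last m).succAbove = tri s := by
      ext i k
      simp [hSdef, tri, Fin.succAbove_last]
    rw [hsub]
    exact mul_ne_zero (pow_ne_zero _ (neg_ne_zero.2 one_ne_zero)) hs0
  refine ⟨S, hSd, fun i k hik => ?_, fun i k hik => ?_,
    ⟨_, _, hS, fun hr => trace_zero_of_det hr hdet hg hN hc hcs S _ _ hS hSd hp⟩, fun Xb =>
    exists_ab h_norm S _ _ hS (fun hr => trace_zero_of_det hr hdet hg hN hc hcs S _ _ hS hSd hp) Xb⟩
  · have : i ≠ k := fun e => by subst e; omega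
    simp only [hSdef, tri, Matrix.of_apply, if_neg this, if_neg (show ¬ (k : ℕ) = i + 1 by omega), if_pos hik]
  · have : i ≠ k := fun e => by subst e; omega
    simp only [hSdef, tri, Matrix.of_apply, if_neg this, if_neg (show ¬ (k : ℕ) = i + 1 by omega),
      if_neg (show ¬ (i : ℕ) = k + 1 by omega)]

/-- An unreduced Hessenberg matrix is cyclic. -/
theorem exists_cyclic {k : ℕ} (M : Matrix (Fin k) (Fin k) F)
    (h0 : ∀ i m : Fin k, (m : ℕ) + 1 < i → M i m = 0)
    (h1 : ∀ i m : Fin k, (i : ℕ) = m + 1 → M i m ≠ 0) :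
    ∃ v : Fin k → F, LinearIndependent F fun i : Fin k => (M ^ (i : ℕ)) *ᵥ v := by
  rcases k with _ | m
  · exact ⟨0, linearIndependent_empty_type⟩
  let e : Fin (m + 1) → F := Pi.single 0 1
  have key : ∀ i, ∀ hi : i < m + 1, (∀ a : Fin (m + 1), i < a → (M ^ i *ᵥ e) a = 0) ∧
      (M ^ i *ᵥ e) ⟨i, hi⟩ ≠ 0 := by
    intro i
    induction i with
    | zero =>
      intro _
      refine ⟨fun a ha => ?_, by simp [e]⟩
      have : a ≠ 0 := fun h => by subst h; simp at ha
      simp [e, this]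
    | succ i ih =>
      intro hi
      obtain ⟨hz, hne⟩ := ih (by omega)
      rw [pow_succ', ← mulVec_mulVec]
      refine ⟨fun a ha => ?_, ?_⟩
      · show ∑ b, M a b * (M ^ i *ᵥ e) b = 0
        refine Finset.sum_eq_zero fun b _ => ?_
        by_cases hb : i < (b : ℕ)
        · simp [hz b hb]
        · rw [h0 a b (by omega), zero_mul]
      · show ∑ b, M ⟨i + 1, hi⟩ b * (M ^ i *ᵥ e) b ≠ 0
        rw [Finset.sum_eq_single ⟨i, by omega⟩]
        · exact mul_ne_zero (h1 _ _ rfl) hne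
        · intro b _ hb
          by_cases hb' : i < (b : ℕ)
          · simp [hz b hb']
          · have : (b : ℕ) ≠ i := fun h => hb (Fin.ext h)
            rw [h0 _ b (by simp; omega), zero_mul]
        · simp
  refine ⟨e, ?_⟩
  let V : Matrix (Fin (m + 1)) (Fin (m + 1)) F := Matrix.of fun a i => (M ^ (i : ℕ) *ᵥ e) a
  have hV : IsUnit V.det := by
    rw [det_of_isUpperTriangular (show V.IsUpperTriangular from fun a i hai => (key (i : ℕ) i.2).1 a hai),
      isUnit_iff_ne_zero]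
    exact Finset.prod_ne_zero_iff.2 fun i _ => (key (i : ℕ) i.2).2
  exact Matrix.linearIndependent_cols_of_isUnit ((Matrix.isUnit_iff_isUnit_det _).2 hV)

end CfsgLib.KnownB.OreSU
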