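import Cfsg.Agent.Lib.KnownA.UnitaryMinDeg

/-!
Sesquilinear forms vanishing on the isotropic vectors, and bases of non-degenerate subspaces made of
hyperbolic pairs and orthonormal vectors.
-/

set_option autoImplicit false

namespace CfsgLib.KnownB.OreSU

open Matrix CfsgLib.Classical CfsgLib.Classical.Unitary CfsgLib.KnownA.UnitaryMinDeg

variable {F : Type*} [Field F] {σ : F →+* F} {q n : ℕ}

theorem exists_ne_star (h : UFrob σ q) : ∃ c : F, σ c ≠ c := by
  by_contra hh
  exact h.ne (RingHom.ext fun a => not_not.1 fun h' => hh ⟨a, h'⟩)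

theorem eq_zero_of_twist (h : UFrob σ q) {u v : F} (hall : ∀ c : F, c * u + σ c * v = 0) : u = 0 := by
  obtain ⟨c, hc⟩ := exists_ne_star h
  have h1 := hall 1
  rw [map_one, one_mul, one_mul] at h1
  have h2 : (c - σ c) * u = 0 := by linear_combination hall c - σ c * h1
  exact (mul_eq_zero.1 h2).resolve_left (sub_ne_zero.2 (Ne.symm hc))

/-- A sesquilinear form `h(Mx,y)` vanishing at isotropic vectors is a multiple of `h`. -/
theorem polar_two [Finite F] (hF : Nat.card F = q ^ 2) (h : UFrob σ q)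
    {H : Submodule F (Fin n → F)} (hN : Nondeg σ H) (h2 : 2 ≤ Module.finrank F H)
    (M : Matrix (Fin n) (Fin n) F)
    (hM : ∀ w ∈ H, uh σ w w = 0 → uh σ (M *ᵥ w) w = 0) :
    ∃ μ : F, ∀ x ∈ H, ∀ y ∈ H, uh σ (M *ᵥ x) y = μ * uh σ x y := by
  obtain ⟨e, he, he0, hee⟩ := exists_isotropic hF h hN h2
  obtain ⟨f, hp⟩ := exists_pair h hN he he0 hee
  obtain ⟨θ, hθ⟩ := exists_trace h
  obtain ⟨s, hs0, hs⟩ := exists_skew h
  have key : ∀ e f : Fin n → F, IsPair σ H e f →
      uh σ (M *ᵥ f) e = uh σ (M *ᵥ e) f ∧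
      ∀ y ∈ inner0 σ H e f, uh σ (M *ᵥ f) y = 0 ∧ uh σ (M *ᵥ y) f = 0 ∧
        uh σ (M *ᵥ e) y + uh σ (M *ᵥ y) e + uh σ (M *ᵥ y) y =
          uh σ (M *ᵥ e) f * uh σ y y := by
    intro e f hp
    have kee := hM e hp.he hp.ee
    have kff := hM f hp.hf hp.ff
    have exp : ∀ y ∈ inner0 σ H e f, ∀ t : F, t + σ t + uh σ y y = 0 →
        uh σ (M *ᵥ e) y + uh σ (M *ᵥ y) e + uh σ (M *ᵥ y) y + σ t * uh σ (M *ᵥ e) f +
          t * uh σ (M *ᵥ f) e + σ t * uh σ (M *ᵥ y) f + t * uh σ (M *ᵥ f) y = 0 := by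
      intro y hy t ht
      obtain ⟨hyH, hye, hyf⟩ := mem_inner0.1 hy
      have hw := hM (e + y + t • f) (H.add_mem (H.add_mem hp.he hyH) (H.smul_mem _ hp.hf)) (by
        simp only [uh_add_left, uh_add_right, uh_smul_left, uh_smul_right, hp.ee, hp.ff, hp.ef,
          hp.fe, hye, hyf, h.swap_zero hye, h.swap_zero hyf]
        linear_combination ht)
      simp only [mulVec_add, mulVec_smul, uh_add_left, uh_add_right, uh_smul_left, uh_smul_right,
        kee, kff] at hw
      linear_combination hw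
    have h0 : (0 : Fin n → F) ∈ inner0 σ H e f := Submodule.zero_mem _
    have hfe : uh σ (M *ᵥ f) e = uh σ (M *ᵥ e) f := by
      have := exp 0 h0 s (by simpa [uh_zero_left] using hs)
      simp only [mulVec_zero, uh_zero_left, uh_zero_right] at this
      have h' : σ s = -s := by linear_combination hs
      rw [h'] at this
      have h3 : s * (uh σ (M *ᵥ f) e - uh σ (M *ᵥ e) f) = 0 := by linear_combination this
      exact sub_eq_zero.1 ((mul_eq_zero.1 h3).resolve_left hs0)
    have heq : ∀ y ∈ inner0 σ H e f, uh σ (M *ᵥ f) y = uh σ (M *ᵥ y) f := by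
      intro y hy
      have ht : -(θ * uh σ y y) + σ (-(θ * uh σ y y)) + uh σ y y = 0 := by
        simp only [map_neg, map_mul, h.symm]
        linear_combination (-(uh σ y y)) * hθ
      have e1 := exp y hy _ ht
      have e2 := exp y hy (-(θ * uh σ y y) + s) (by rw [map_add]; linear_combination ht + hs)
      have h' : σ s = -s := by linear_combination hs
      rw [map_add, h', hfe] at e2
      rw [hfe] at e1
      have h3 : s * (uh σ (M *ᵥ f) y - uh σ (M *ᵥ y) f) = 0 := by linear_combination e2 - e1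
      exact sub_eq_zero.1 ((mul_eq_zero.1 h3).resolve_left hs0)
    refine ⟨hfe, fun y hy => ?_⟩
    have hz : uh σ (M *ᵥ y) f = 0 := eq_zero_of_twist h (v := -uh σ (M *ᵥ y) f) fun c => by
      have := heq (c • y) (Submodule.smul_mem _ c hy)
      rw [mulVec_smul, uh_smul_left, uh_smul_right, heq y hy] at this
      linear_combination -this
    refine ⟨(heq y hy).trans hz, hz, ?_⟩
    have ht : -(θ * uh σ y y) + σ (-(θ * uh σ y y)) + uh σ y y = 0 := by
      simp only [map_neg, map_mul, h.symm]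
      linear_combination (-(uh σ y y)) * hθ
    have e1 := exp y hy _ ht
    rw [hfe, hz, (heq y hy).trans hz] at e1
    linear_combination e1 - uh σ (M *ᵥ e) f * ht
  obtain ⟨hfe, hk⟩ := key e f hp
  obtain ⟨-, hk'⟩ := key f e ⟨hp.hf, hp.he, hp.ff, hp.ee, hp.fe, hp.ef⟩
  set μ := uh σ (M *ᵥ e) f with hμ
  have hk0 : ∀ y ∈ inner0 σ H e f, uh σ (M *ᵥ e) y = 0 ∧ uh σ (M *ᵥ y) e = 0 := by
    intro y hy
    obtain ⟨a, b, c⟩ := mem_inner0.1 hy
    obtain ⟨p1, p2, -⟩ := hk' y (mem_inner0.2 ⟨a, c, b⟩)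
    exact ⟨p1, p2⟩
  have hdiag : ∀ y ∈ inner0 σ H e f, uh σ (M *ᵥ y) y = μ * uh σ y y := fun y hy => by
    have := (hk y hy).2.2
    rwa [(hk0 y hy).1, (hk0 y hy).2, zero_add, zero_add] at this
  have hin : ∀ y ∈ inner0 σ H e f, ∀ z ∈ inner0 σ H e f,
      uh σ (M *ᵥ y) z = μ * uh σ y z := by
    intro y hy z hz
    refine sub_eq_zero.1 (eq_zero_of_twist h
      (v := uh σ (M *ᵥ z) y - μ * uh σ z y) fun c => ?_)
    have e1 := hdiag (c • y + z) (Submodule.add_mem _ (Submodule.smul_mem _ c hy) hz)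
    simp only [mulVec_add, mulVec_smul, uh_add_left, uh_add_right, uh_smul_left, uh_smul_right,
      hdiag y hy, hdiag z hz] at e1
    linear_combination e1
  refine ⟨μ, fun x hx y hy => ?_⟩
  have dec : ∀ x ∈ H, ∃ a b : F, ∃ x₀ ∈ inner0 σ H e f, x = a • e + b • f + x₀ := by
    intro x hx
    refine ⟨uh σ x f, uh σ x e, x - uh σ x f • e - uh σ x e • f, mem_inner0.2 ⟨H.sub_mem
      (H.sub_mem hx (H.smul_mem _ hp.he)) (H.smul_mem _ hp.hf), ?_, ?_⟩, by abel⟩
    · simp [uh_sub_left, uh_smul_left, hp.ee, hp.fe]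
    · simp [uh_sub_left, uh_smul_left, hp.ef, hp.ff]
  obtain ⟨a, b, x₀, hx₀, rfl⟩ := dec x hx
  obtain ⟨a', b', y₀, hy₀, rfl⟩ := dec y hy
  obtain ⟨-, hxe, hxf⟩ := mem_inner0.1 hx₀
  obtain ⟨-, hye, hyf⟩ := mem_inner0.1 hy₀
  simp only [mulVec_add, mulVec_smul, uh_add_left, uh_add_right, uh_smul_left, uh_smul_right,
    hM e hp.he hp.ee, hM f hp.hf hp.ff, hfe, (hk x₀ hx₀).2.1, (hk y₀ hy₀).1, (hk0 x₀ hx₀).2,
    (hk0 y₀ hy₀).1, hin x₀ hx₀ y₀ hy₀, hp.ee, hp.ff, hp.ef, hp.fe, hxe, hxf, h.swap_zero hye,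
    h.swap_zero hyf, ← hμ]
  ring

/-- The same in any dimension, when the multiplier is sought only. -/
theorem polar [Finite F] (hF : Nat.card F = q ^ 2) (h : UFrob σ q)
    {H : Submodule F (Fin n → F)} (hN : Nondeg σ H) (M : Matrix (Fin n) (Fin n) F)
    (hM : ∀ w ∈ H, uh σ w w = 0 → uh σ (M *ᵥ w) w = 0) :
    ∃ μ : F, (Module.finrank F H = 0 → μ = 1) ∧
      ∀ x ∈ H, ∀ y ∈ H, uh σ (M *ᵥ x) y = μ * uh σ x y := by
  by_cases h2 : 2 ≤ Module.finrank F H
  · obtain ⟨μ, hμ⟩ := polar_two hF h hN h2 M hM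
    exact ⟨μ, fun h0 => absurd h0 (by omega), hμ⟩
  by_cases h0 : Module.finrank F H = 0
  · refine ⟨1, fun _ => rfl, fun x hx y _ => ?_⟩
    rw [Submodule.finrank_eq_zero] at h0
    rw [h0, Submodule.mem_bot] at hx
    subst hx
    simp [uh_zero_left]
  obtain ⟨v, hv, hvv⟩ := exists_anisotropic h hN (by omega)
  refine ⟨uh σ (M *ᵥ v) v / uh σ v v, fun e => absurd e h0, fun x hx y hy => ?_⟩
  have h1 : Module.finrank F H = 1 := by omega
  have hsp : ∀ x ∈ H, ∃ c : F, x = c • v := by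
    intro x hx
    obtain ⟨c, hc⟩ := exists_smul_eq_of_finrank_eq_one h1
      (show (⟨v, hv⟩ : H) ≠ 0 from fun e => hvv (by
        rw [show v = 0 from congrArg Subtype.val e, uh_zero_left])) ⟨x, hx⟩
    exact ⟨c, (congrArg Subtype.val hc).symm⟩
  obtain ⟨a, rfl⟩ := hsp x hx
  obtain ⟨b, rfl⟩ := hsp y hy
  simp only [mulVec_smul, uh_smul_left, uh_smul_right]
  field_simp

/-- Hyperbolic pairs and orthonormal vectors. -/
structure Fam (σ : F →+* F) (H : Submodule F (Fin n → F)) {l r : ℕ} (e : Fin l → Fin n → F)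
    (y : Fin r → Fin n → F) (f : Fin l → Fin n → F) : Prop where
  he : ∀ a, e a ∈ H
  hy : ∀ a, y a ∈ H
  hf : ∀ a, f a ∈ H
  ee : ∀ a b, uh σ (e a) (e b) = 0
  ff : ∀ a b, uh σ (f a) (f b) = 0
  ef : ∀ a b, uh σ (e a) (f b) = if a = b then 1 else 0
  ey : ∀ a b, uh σ (e a) (y b) = 0
  fy : ∀ a b, uh σ (f a) (y b) = 0
  yy : ∀ a b, uh σ (y a) (y b) = if a = b then 1 else 0

theorem exists_fam [Finite F] (hF : Nat.card F = q ^ 2) (h : UFrob σ q) (l r : ℕ) :
    ∀ H : Submodule F (Fin n → F), Nondeg σ H → Module.finrank F H = 2 * l + r →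
      ∃ (e : Fin l → Fin n → F) (y : Fin r → Fin n → F) (f : Fin l → Fin n → F),
        Fam σ H e y f := by
  induction l with
  | zero =>
    induction r with
    | zero =>
      intro H _ _
      exact ⟨Fin.elim0, Fin.elim0, Fin.elim0, ⟨fun a => a.elim0, fun a => a.elim0, fun a => a.elim0,
        fun a => a.elim0, fun a => a.elim0, fun a => a.elim0, fun a => a.elim0, fun a => a.elim0,
        fun a => a.elim0⟩⟩
    | succ r ih =>
      intro H hN hd
      obtain ⟨v, hv, hvv⟩ := exists_anisotropic h hN (by omega)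
      have hfix : (uh σ v v)⁻¹ ^ q = (uh σ v v)⁻¹ := by rw [← h.pow, map_inv₀, h.symm]
      obtain ⟨c, hc⟩ := exists_pow_succ_eq hF hfix
      rw [pow_succ', ← h.pow] at hc
      set x := c • v with hx
      have hxx : uh σ x x = 1 := by
        rw [hx, uh_smul_left, uh_smul_right, ← mul_assoc, hc, inv_mul_cancel₀ hvv]
      have hxH : x ∈ H := H.smul_mem _ hv
      let H' := H ⊓ LinearMap.ker ((LinearMap.fst F F F).comp (pairMap σ x x))
      have mem' : ∀ z, z ∈ H' ↔ z ∈ H ∧ uh σ z x = 0 := fun z => by simp [H', pairMap]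
      have hproj : ∀ z ∈ H, z - uh σ z x • x ∈ H' := fun z hz => (mem' _).2
        ⟨H.sub_mem hz (H.smul_mem _ hxH), by simp [uh_sub_left, uh_smul_left, hxx]⟩
      have hN' : Nondeg σ H' := fun z hz hperp => hN z ((mem' z).1 hz).1 fun w hw => by
        simpa [uh_sub_right, uh_smul_right, ((mem' z).1 hz).2] using hperp _ (hproj w hw)
      have hd' : Module.finrank F H' = 2 * 0 + r := by
        let L : H →ₗ[F] F := ((LinearMap.fst F F F).comp (pairMap σ x x)).comp H.subtype
        have hL : LinearMap.range L = ⊤ := LinearMap.range_eq_top.2 fun a =>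
          ⟨⟨a • x, H.smul_mem _ hxH⟩, by simp [L, pairMap, uh_smul_left, hxx]⟩
        have h1 := L.finrank_range_add_finrank_ker
        rw [hL, finrank_top, Module.finrank_self] at h1
        have h2 : LinearMap.ker L = Submodule.comap H.subtype H' := by
          ext z; simp [L, H']
        rw [h2, (Submodule.comapSubtypeEquivOfLe (inf_le_left : H' ≤ H)).finrank_eq] at h1
        change 1 + Module.finrank F H' = _ at h1
        omega
      obtain ⟨e, y, f, hh⟩ := ih H' hN' hd'
      refine ⟨e, Fin.cons x y, f, ⟨fun a => a.elim0, ?_, fun a => a.elim0, fun a => a.elim0,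
        fun a => a.elim0, fun a => a.elim0, fun a => a.elim0, fun a => a.elim0, ?_⟩⟩
      · intro a
        refine Fin.cases hxH (fun a => ?_) a
        simpa using ((mem' _).1 (hh.hy a)).1
      · intro a b
        refine Fin.cases ?_ (fun a => ?_) a <;> refine Fin.cases ?_ (fun b => ?_) b
        · simpa using hxx
        · simpa [(Fin.succ_ne_zero b).symm] using h.swap_zero ((mem' _).1 (hh.hy b)).2
        · simpa using ((mem' _).1 (hh.hy a)).2
        · simpa using hh.yy a b
  | succ l ih =>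
    intro H hN hd
    obtain ⟨u, hu, hu0, huu⟩ := exists_isotropic hF h hN (by omega)
    obtain ⟨v, hp⟩ := exists_pair h hN hu hu0 huu
    have hd' := finrank_inner0 hp
    obtain ⟨e, y, f, hh⟩ := ih _ (nondeg_inner0 h hN hp) (by omega)
    have me := fun a => mem_inner0.1 (hh.he a)
    have my := fun a => mem_inner0.1 (hh.hy a)
    have mf := fun a => mem_inner0.1 (hh.hf a)
    refine ⟨Fin.cons u e, y, Fin.cons v f, ⟨?_, fun a => (my a).1, ?_, ?_, ?_, ?_, ?_, ?_, hh.yy⟩⟩
    · intro a; refine Fin.cases hp.he (fun a => ?_) a; simpa using (me a).1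
    · intro a; refine Fin.cases hp.hf (fun a => ?_) a; simpa using (mf a).1
    · intro a b
      refine Fin.cases ?_ (fun a => ?_) a <;> refine Fin.cases ?_ (fun b => ?_) b
      · simpa using hp.ee
      · simpa using h.swap_zero (me b).2.1
      · simpa using (me a).2.1
      · simpa using hh.ee a b
    · intro a b
      refine Fin.cases ?_ (fun a => ?_) a <;> refine Fin.cases ?_ (fun b => ?_) b
      · simpa using hp.ff
      · simpa using h.swap_zero (mf b).2.2
      · simpa using (mf a).2.2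
      · simpa using hh.ff a b
    · intro a b
      refine Fin.cases ?_ (fun a => ?_) a <;> refine Fin.cases ?_ (fun b => ?_) b
      · simpa using hp.ef
      · simpa [(Fin.succ_ne_zero b).symm] using h.swap_zero (mf b).2.1
      · simpa using (me a).2.2
      · simpa using hh.ef a b
    · intro a b
      refine Fin.cases ?_ (fun a => ?_) a
      · simpa using h.swap_zero (my b).2.1
      · simpa using hh.ey a b
    · intro a b
      refine Fin.cases ?_ (fun a => ?_) a
      · simpa using h.swap_zero (my b).2.2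
      · simpa using hh.fy a b

end CfsgLib.KnownB.OreSU
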