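import Cfsg.Agent.Lib.KnownB.OreSU.Basic
import Cfsg.Agent.Lib.KnownB.OreSU.Polar

/-!
The normal form of a non-scalar unitary matrix: a totally isotropic `W` with `W + gW` non-degenerate
and `g` scalar modulo `gW` on the orthogonal complement.
-/

set_option autoImplicit false
set_option linter.unusedSectionVars false

namespace CfsgLib.KnownB.OreSU

open Matrix CfsgLib.Classical CfsgLib.Classical.Unitary CfsgLib.KnownA.UnitaryMinDeg

variable {F : Type*} [Field F] [StarRing F] {q n : ℕ}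

local notation "σ" => starRingEnd F

/-- Being a commutator in `SU n`. -/
def IsCommSU (g : Cfsg.SU n F q) : Prop := ∃ a b : Cfsg.SU n F q, g = a * b * a⁻¹ * b⁻¹

/-- `e` is isotropic with triangular pairing against its image. -/
structure Chain (M : Matrix (Fin n) (Fin n) F) {j : ℕ} (e : Fin j → Fin n → F) : Prop where
  iso : ∀ a b, uh σ (e a) (e b) = 0
  up : ∀ a b, b < a → uh σ (e a) (M *ᵥ e b) = 0
  diag : ∀ a, uh σ (e a) (M *ᵥ e a) ≠ 0

variable {M : Matrix (Fin n) (Fin n) F} {j : ℕ} {e : Fin j → Fin n → F}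

/-- The pairing matrix. -/
def pairMat (M : Matrix (Fin n) (Fin n) F) (e : Fin j → Fin n → F) : Matrix (Fin j) (Fin j) F :=
  Matrix.of fun a b => uh σ (M *ᵥ e b) (e a)

theorem Chain.pairMat_isUnit (h : UFrob σ q) (hc : Chain M e) : IsUnit (pairMat M e).det := by
  rw [Matrix.det_of_isUpperTriangular (fun a b hab => by
    show uh σ (M *ᵥ e b) (e a) = 0
    exact h.swap_zero (hc.up a b hab))]
  refine isUnit_iff_ne_zero.2 (Finset.prod_ne_zero_iff.2 fun a _ he => hc.diag a ?_)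
  exact h.swap_zero he

theorem Chain.le (h : UFrob σ q) (hc : Chain M e) : j ≤ n := by
  have hli : LinearIndependent F e := by
    rw [Fintype.linearIndependent_iff]
    intro c hc0
    have hv : (pairMat M e)ᵀ *ᵥ (fun a => star (c a)) = 0 := funext fun b => by
      have := congrArg (fun z => uh σ (M *ᵥ e b) z) hc0
      simp only [uh_zero_right] at this
      rw [show (∑ i, c i • e i) = ∑ i ∈ Finset.univ, c i • e i from rfl] at this
      simpa [pairMat, mulVec, dotProduct, uh, Finset.mul_sum, Finset.sum_mul, starRingEnd_apply,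
        Finset.sum_comm (γ := Fin j), mul_comm, mul_left_comm, mul_assoc] using this
    have hu : IsUnit ((pairMat M e)ᵀ).det := Matrix.isUnit_det_transpose _ (hc.pairMat_isUnit h)
    have h0 := congrArg (((pairMat M e)ᵀ)⁻¹ *ᵥ ·) hv
    simp only [mulVec_mulVec, Matrix.nonsing_inv_mul _ hu, one_mulVec, mulVec_zero] at h0
    intro i
    simpa using congrFun h0 i
  simpa using hli.fintype_card_le_finrank

theorem uh_sum_left {γ : Type*} (s : Finset γ) (x : γ → Fin n → F) (v : Fin n → F) :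
    uh σ (∑ i ∈ s, x i) v = ∑ i ∈ s, uh σ (x i) v := by
  classical
  induction s using Finset.induction with
  | empty => simp [uh_zero_left]
  | insert a t ha ih => rw [Finset.sum_insert ha, Finset.sum_insert ha, uh_add_left, ih]

theorem uh_sum_right {γ : Type*} (s : Finset γ) (x : γ → Fin n → F) (v : Fin n → F) :
    uh σ v (∑ i ∈ s, x i) = ∑ i ∈ s, uh σ v (x i) := by
  classical
  induction s using Finset.induction with
  | empty => simp [uh_zero_right]
  | insert a t ha ih => rw [Finset.sum_insert ha, Finset.sum_insert ha, uh_add_right, ih]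

theorem conjTranspose_mul_apply {m : Type*} (P Q : Matrix (Fin n) m F) (i k : m) :
    (Pᴴ * Q) i k = uh σ (fun a => Q a k) (fun a => P a i) := by
  simp [Matrix.mul_apply, uh, dotProduct, starRingEnd_apply, mul_comm]

variable {ι ρ : Type*} [Fintype ι] [DecidableEq ι] [Fintype ρ] [DecidableEq ρ]

/-- Moving to the coordinates of a frame. -/
theorem exists_transfer [Finite F] (h : UFrob σ q) (P : Matrix (Fin n) (Idx ι ρ) F)
    (hP : Pᴴ * P = (Jm : Matrix (Idx ι ρ) (Idx ι ρ) F)) (hcard : Fintype.card (Idx ι ρ) = n) (g : Cfsg.SU n F q) :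
    ∃ g' : UJ F ι ρ, g'.1.1.det = 1 ∧ g'.1.1 = ((Jm : Matrix (Idx ι ρ) (Idx ι ρ) F) * Pᴴ : Matrix (Idx ι ρ) (Fin n) F) * ((g.1.1 : Matrix (Fin n) (Fin n) F) * P) ∧
      (IsComm1 g' → IsCommSU g) := by
  set Q := (Jm : Matrix (Idx ι ρ) (Idx ι ρ) F) * Pᴴ with hQ
  have hQP : Q * P = 1 := by rw [hQ, Matrix.mul_assoc, hP, Jm_mul_Jm]
  have hPQ : P * Q = 1 :=
    (Matrix.mul_eq_one_comm_of_equiv (Fintype.equivOfCardEq (by simpa using hcard))).1 hQP
  have hadj : ∀ X : Matrix (Fin n) (Fin n) F, (∀ x y, uh σ (X *ᵥ x) (X *ᵥ y) = uh σ x y) ↔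
      Xᴴ * X = 1 := by
    intro X
    constructor
    · intro hX
      ext i k
      rw [conjTranspose_mul_apply]
      have := hX (Pi.single k 1) (Pi.single i 1)
      rw [mulVec_single_one, mulVec_single_one, uh_single_left] at this
      rw [show (fun a => X a k) = X.col k from rfl, show (fun a => X a i) = X.col i from rfl, this]
      by_cases hik : i = k
      · subst hik; simp
      · simp [hik, Ne.symm hik]
    · intro hX x y
      show (X *ᵥ x) ⬝ᵥ star (X *ᵥ y) = x ⬝ᵥ star y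
      rw [star_mulVec, dotProduct_comm, ← dotProduct_mulVec, mulVec_mulVec, hX, one_mulVec,
        dotProduct_comm]
  have hg : g.1.1ᴴ * g.1.1 = 1 := (hadj _).1 (su_uh h g)
  have hJ : (Qᴴ * (Jm : Matrix (Idx ι ρ) (Idx ι ρ) F)) * Q = (1 : Matrix (Fin n) (Fin n) F) := by
    have : (Qᴴ * (Jm : Matrix (Idx ι ρ) (Idx ι ρ) F)) * Q = (P * Q : Matrix (Fin n) (Fin n) F) := by
      rw [hQ, conjTranspose_mul, conjTranspose_conjTranspose, Jm_conjTranspose]
      simp only [Matrix.mul_assoc]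
      rw [← Matrix.mul_assoc (Jm : Matrix (Idx ι ρ) (Idx ι ρ) F) (Jm : Matrix (Idx ι ρ) (Idx ι ρ) F), Jm_mul_Jm, Matrix.one_mul]
    rw [this, hPQ]
  have hiso : (Q * (g.1.1 * P))ᴴ * (Jm : Matrix (Idx ι ρ) (Idx ι ρ) F) * (Q * (g.1.1 * P)) = (Jm : Matrix (Idx ι ρ) (Idx ι ρ) F) := by
    have e1 : (Q * (g.1.1 * P))ᴴ * (Jm : Matrix (Idx ι ρ) (Idx ι ρ) F) * (Q * (g.1.1 * P)) =
        (g.1.1 * P)ᴴ * (((Qᴴ * (Jm : Matrix (Idx ι ρ) (Idx ι ρ) F)) * Q) * (g.1.1 * P)) := by
      simp only [conjTranspose_mul, Matrix.mul_assoc]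
    rw [e1, hJ, Matrix.one_mul, conjTranspose_mul, Matrix.mul_assoc, ← Matrix.mul_assoc g.1.1ᴴ, hg,
      Matrix.one_mul, hP]
  let g' : UJ F ι ρ := mkU (Q * (g.1.1 * P)) hiso
  have hdet : ∀ X : Matrix (Idx ι ρ) (Idx ι ρ) F, (P * X * Q).det = X.det := fun X =>
    Matrix.det_conj_of_mul_eq_one hPQ hQP
  have hback : ∀ a : UJ F ι ρ, dU F ι ρ a = 1 → ∃ a' : Cfsg.SU n F q, a'.1.1 = P * a.1.1 * Q := by
    intro a ha
    refine ⟨⟨⟨P * a.1.1 * Q, by rw [hdet]; exact dU_eq_one_iff.1 ha⟩, mem_SU_iff.2 fun x y => ?_⟩, rfl⟩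
    show Cfsg.hermForm n F q ((P * a.1.1 * Q) *ᵥ x) ((P * a.1.1 * Q) *ᵥ y) = _
    rw [h.hermForm_eq, h.hermForm_eq]
    refine (hadj _).2 ?_ x y
    calc (P * a.1.1 * Q)ᴴ * (P * a.1.1 * Q) = Qᴴ * (a.1.1ᴴ * (Pᴴ * P) * a.1.1) * Q := by
          simp only [conjTranspose_mul, Matrix.mul_assoc]
      _ = 1 := by rw [hP, show a.1.1ᴴ * (Jm : Matrix (Idx ι ρ) (Idx ι ρ) F) * a.1.1 = (Jm : Matrix (Idx ι ρ) (Idx ι ρ) F) from a.2, hJ]
  refine ⟨g', ?_, rfl, ?_⟩
  · show (Q * (g.1.1 * P)).det = 1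
    rw [← Matrix.mul_assoc, Matrix.det_conj_of_mul_eq_one hQP hPQ]
    exact g.1.2
  rintro ⟨a, b, ha, hb, hab⟩
  obtain ⟨a', ha'⟩ := hback a ha
  obtain ⟨b', hb'⟩ := hback b hb
  refine ⟨a', b', ?_⟩
  rw [eq_mul_inv_iff_mul_eq, eq_mul_inv_iff_mul_eq]
  refine Subtype.ext (Subtype.ext ?_)
  show g.1.1 * b'.1.1 * a'.1.1 = a'.1.1 * b'.1.1
  have e1 : g' * b * a = a * b := by rw [hab]; group
  have e2 : Q * (g.1.1 * P) * b.1.1 * a.1.1 = a.1.1 * b.1.1 := congrArg (fun x : UJ F ι ρ => x.1.1) e1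
  rw [ha', hb']
  calc g.1.1 * (P * b.1.1 * Q) * (P * a.1.1 * Q)
      = P * (Q * (g.1.1 * P) * b.1.1 * a.1.1) * Q := by
        simp only [← Matrix.mul_assoc, hPQ, Matrix.one_mul]
        rw [Matrix.mul_assoc (g.1.1 * P * b.1.1) Q P, hQP, Matrix.mul_one]
    _ = _ := by
        rw [e2]
        simp only [Matrix.mul_assoc]
        rw [← Matrix.mul_assoc Q P, hQP, Matrix.one_mul]

/-- The shape of an element in a frame. -/
def Shape {j l r : ℕ} (μ : F) (N : Matrix (Fin j) (Fin j) F)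
    (g : UJ F (Fin j ⊕ Fin l) (Fin r)) : Prop :=
  ∃ R C G K L, g.1.1 = blk (fromBlocks 0 0 0 (μ • 1)) 0 C 0 (μ • 1) G (fromBlocks N R 0 0) K L

/-- The normal form. -/
theorem scalar_or_normal [Finite F] (hF : Nat.card F = q ^ 2) (h : UFrob σ q) (g : Cfsg.SU n F q) :
    (∃ μ : F, g.1.1 = μ • 1) ∨
      ∃ (j : ℕ) (μ : F) (N : Matrix (Fin j) (Fin j) F), 1 ≤ j ∧ 2 * j ≤ n ∧ μ * star μ = 1 ∧
        (∀ a b, b < a → N a b = 0) ∧ (∀ a, N a a ≠ 0) ∧
        ∀ l r : ℕ, 2 * j + 2 * l + r = n → ∃ g' : UJ F (Fin j ⊕ Fin l) (Fin r),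
          g'.1.1.det = 1 ∧ Shape μ N g' ∧ (IsComm1 g' → IsCommSU g) := by
  classical
  set M := g.1.1 with hMdef
  have hM : ∀ x y, uh σ (M *ᵥ x) (M *ᵥ y) = uh σ x y := su_uh h g
  -- a maximal chain
  let P : ℕ → Prop := fun j => ∃ e : Fin j → Fin n → F, Chain M e
  have hP0 : P 0 := ⟨Fin.elim0, ⟨fun a => a.elim0, fun a => a.elim0, fun a => a.elim0⟩⟩
  set j := Nat.findGreatest P n
  obtain ⟨e, hc⟩ : P j := Nat.findGreatest_spec (Nat.zero_le n) hP0
  have hmax : ¬ P (j + 1) := by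
    rintro ⟨e', hc'⟩
    exact absurd (Nat.le_findGreatest (P := P) (hc'.le h) ⟨e', hc'⟩) (Nat.not_succ_le_self j)
  set N := pairMat M e with hN
  have hNu := hc.pairMat_isUnit h
  let f : Fin j → Fin n → F := fun a => ∑ b, N⁻¹ b a • (M *ᵥ e b)
  have hfe : ∀ a c, uh σ (f a) (e c) = if a = c then 1 else 0 := by
    intro a c
    have : uh σ (f a) (e c) = (N * N⁻¹) c a := by
      simp only [f, uh_sum_left, uh_smul_left, Matrix.mul_apply, hN, pairMat, Matrix.of_apply]
      exact Finset.sum_congr rfl fun b _ => mul_comm _ _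
    rw [this, Matrix.mul_nonsing_inv _ hNu, Matrix.one_apply]
    simp [eq_comm]
  have hff : ∀ a c, uh σ (f a) (f c) = 0 := by
    intro a c
    simp [f, uh_sum_left, uh_sum_right, uh_smul_left, uh_smul_right, hM, hc.iso]
  have hMe : ∀ b, M *ᵥ e b = ∑ a, N a b • f a := by
    intro b
    simp only [f, Finset.smul_sum, smul_smul]
    rw [Finset.sum_comm]
    simp only [← Finset.sum_smul]
    have : ∀ c, (∑ a, N a b * N⁻¹ c a) = if c = b then 1 else 0 := fun c => by
      rw [← Matrix.one_apply (i := c) (j := b), ← Matrix.nonsing_inv_mul _ hNu, Matrix.mul_apply]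
      exact Finset.sum_congr rfl fun a _ => mul_comm _ _
    simp [this]
  -- the complement
  let L : (Fin n → F) →ₗ[F] (Fin j → F) × (Fin j → F) :=
    { toFun := fun x => (fun a => uh σ x (e a), fun a => uh σ x (f a))
      map_add' := fun x y => by ext a <;> simp [uh_add_left]
      map_smul' := fun c x => by ext a <;> simp [uh_smul_left] }
  let Y := LinearMap.ker L
  have memY : ∀ x, x ∈ Y ↔ (∀ a, uh σ x (e a) = 0) ∧ ∀ a, uh σ x (f a) = 0 := fun x => by
    simp [Y, L, funext_iff]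
  have hef : ∀ a c, uh σ (e a) (f c) = if a = c then 1 else 0 := fun a c => by
    rw [← h.symm (f c) (e a), hfe]
    by_cases hac : a = c
    · subst hac; simp
    · simp [hac, Ne.symm hac]
  let proj : (Fin n → F) → Fin n → F := fun x =>
    x - ∑ a, uh σ x (f a) • e a - ∑ a, uh σ x (e a) • f a
  have hproj : ∀ x, proj x ∈ Y := fun x => (memY _).2 ⟨fun b => by
      simp [proj, uh_sub_left, uh_sum_left, uh_smul_left, hc.iso, hfe],
    fun b => by simp [proj, uh_sub_left, uh_sum_left, uh_smul_left, hff, hef]⟩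
  have hNY : Nondeg σ Y := by
    intro y hy hperp
    refine nondeg_top h y trivial fun x _ => ?_
    have := hperp _ (hproj x)
    obtain ⟨y1, y2⟩ := (memY y).1 hy
    simpa [proj, uh_sub_right, uh_sum_right, uh_smul_right, y1, y2] using this
  have hdY : Module.finrank F Y + 2 * j = n := by
    have h1 := L.finrank_range_add_finrank_ker
    have hr : LinearMap.range L = ⊤ := LinearMap.range_eq_top.2 fun p => by
      refine ⟨∑ a, p.1 a • f a + ∑ a, p.2 a • e a, ?_⟩
      ext b <;> simp [L, uh_add_left, uh_sum_left, uh_smul_left, hfe, hef, hff, hc.iso]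
    rw [hr, finrank_top, Module.finrank_prod, Module.finrank_fin_fun, Module.finrank_fin_fun] at h1
    show Module.finrank F (LinearMap.ker L) + 2 * j = n
    omega
  have hYMe : ∀ y ∈ Y, ∀ b, uh σ y (M *ᵥ e b) = 0 := fun y hy b => by
    rw [hMe]; simp [uh_sum_right, uh_smul_right, ((memY y).1 hy).2]
  -- the maximality
  have hstuck : ∀ w ∈ Y, uh σ w w = 0 → uh σ (M *ᵥ w) w = 0 := by
    intro w hw hww
    by_contra hne
    refine hmax ⟨Fin.snoc e w, ?_, ?_, ?_⟩
    · intro a b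
      refine Fin.lastCases ?_ (fun a => ?_) a <;> refine Fin.lastCases ?_ (fun b => ?_) b
      · simpa using hww
      · simpa using ((memY w).1 hw).1 b
      · simpa using h.swap_zero (((memY w).1 hw).1 a)
      · simpa using hc.iso a b
    · intro a b hab
      obtain ⟨b, rfl⟩ : ∃ b' : Fin j, b'.castSucc = b :=
        ⟨⟨b, by have := a.2; omega⟩, rfl⟩
      refine Fin.lastCases (fun _ => ?_) (fun a hab => ?_) a hab
      · simpa using hYMe w hw b
      · simpa using hc.up a b (by simpa using hab)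
    · intro a
      refine Fin.lastCases ?_ (fun a => ?_) a
      · simpa using fun h0 => hne (h.swap_zero h0)
      · simpa using hc.diag a
  obtain ⟨μ, hμ0, hμ⟩ := polar hF h hNY M hstuck
  have hMY : ∀ y ∈ Y, proj (M *ᵥ y) = μ • y := by
    intro y hy
    refine sub_eq_zero.1 (hNY _ (Y.sub_mem (hproj _) (Y.smul_mem _ hy)) fun z hz => ?_)
    obtain ⟨z1, z2⟩ := (memY z).1 hz
    simp [proj, uh_sub_left, uh_sum_left, uh_smul_left, h.swap_zero (z1 _), h.swap_zero (z2 _),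
      hμ y hy z hz]
  have hMyf : ∀ y ∈ Y, ∀ a, uh σ (M *ᵥ y) (f a) = 0 := by
    intro y hy a
    simp [f, uh_sum_right, uh_smul_right, hM, ((memY y).1 hy).1]
  have hμ1 : μ * star μ = 1 := by
    by_cases h0 : Module.finrank F Y = 0
    · rw [hμ0 h0]; simp
    obtain ⟨v, hv, hvv⟩ := exists_anisotropic h hNY (Nat.pos_of_ne_zero h0)
    have hdec : M *ᵥ v = proj (M *ᵥ v) + ∑ a, uh σ (M *ᵥ v) (e a) • f a := by
      simp [proj, hMyf v hv]
    have e1 := hM v v
    rw [hdec, hMY v hv] at e1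
    obtain ⟨v1, v2⟩ := (memY v).1 hv
    simp only [uh_add_left, uh_add_right, uh_sum_left, uh_sum_right, uh_smul_left, uh_smul_right,
      hff, v2, h.swap_zero (v2 _), mul_zero, Finset.sum_const_zero, add_zero] at e1
    rw [starRingEnd_apply] at e1
    exact mul_right_cancel₀ hvv (by linear_combination e1)
  by_cases hj : j = 0
  · left
    refine ⟨μ, Matrix.ext_iff_mulVec.2 fun x => ?_⟩
    have hx : ∀ z, z ∈ Y := fun z => (memY z).2
      ⟨fun a => absurd a.2 (by omega), fun a => absurd a.2 (by omega)⟩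
    have hempty : ∀ a : Fin j, False := fun a => absurd a.2 (by omega)
    have := hMY x (hx x)
    have he : (Finset.univ : Finset (Fin j)) = ∅ := Finset.eq_empty_of_forall_notMem fun a => (hempty a).elim
    rw [smul_mulVec, one_mulVec, ← this]
    simp [proj, he]
  refine Or.inr ⟨j, μ, N, Nat.pos_of_ne_zero hj, by omega, hμ1, fun a b hab => h.swap_zero (hc.up a b hab),
    fun a ha => hc.diag a (h.swap_zero ha), fun l r hlr => ?_⟩
  obtain ⟨e₁, y₁, f₁, hfam⟩ := exists_fam hF h l r Y hNY (by omega)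
  let E : Fin j ⊕ Fin l → Fin n → F := Sum.elim e e₁
  let Fv : Fin j ⊕ Fin l → Fin n → F := Sum.elim f f₁
  let P' : Matrix (Fin n) (Idx (Fin j ⊕ Fin l) (Fin r)) F :=
    Matrix.of fun a i => Sum.elim E (Sum.elim y₁ Fv) i a
  have hcol : ∀ i, (fun a => P' a i) = Sum.elim E (Sum.elim y₁ Fv) i := fun i => rfl
  have Ye := fun {x} (hx : x ∈ Y) => ((memY x).1 hx).1
  have Yf := fun {x} (hx : x ∈ Y) => ((memY x).1 hx).2
  have hfy : ∀ a b, uh σ (y₁ a) (e₁ b) = 0 := fun a b => h.swap_zero (hfam.ey b a)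
  have hfy' : ∀ a b, uh σ (y₁ a) (f₁ b) = 0 := fun a b => h.swap_zero (hfam.fy b a)
  have hfe₁ : ∀ a b, uh σ (f₁ a) (e₁ b) = if a = b then 1 else 0 := fun a b => by
    rw [← h.symm (e₁ b) (f₁ a), hfam.ef]
    by_cases hac : a = b
    · subst hac; simp
    · simp [hac, Ne.symm hac]
  have hgram : P'ᴴ * P' = Jm := by
    ext i k
    rw [conjTranspose_mul_apply, hcol, hcol]
    rcases i with (i | i) | i | (i | i) <;> rcases k with (k | k) | k | (k | k)
    all_goals simp [E, Fv, Jm, blk, Matrix.one_apply, hc.iso, hfam.ee, hfam.ff, hfam.ef, hfam.ey, hfam.fy,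
      hfam.yy, hff, hef, hfe, hfe₁, hfy, hfy', Ye (hfam.he _), Ye (hfam.hy _), Ye (hfam.hf _),
      Yf (hfam.he _), Yf (hfam.hy _), Yf (hfam.hf _), h.swap_zero (Ye (hfam.he _) _),
      h.swap_zero (Ye (hfam.hy _) _), h.swap_zero (Ye (hfam.hf _) _),
      h.swap_zero (Yf (hfam.he _) _), h.swap_zero (Yf (hfam.hy _) _),
      h.swap_zero (Yf (hfam.hf _) _), eq_comm]
  obtain ⟨g', hg'1, hg'v, hg'c⟩ := exists_transfer h P' hgram (by simp; omega) g
  refine ⟨g', hg'1, ?_, hg'c⟩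
  obtain ⟨A, B, C, D, E', G, H, K, L', hblk⟩ := exists_blk g'.1.1
  have hent : ∀ i k, (P'ᴴ * M * P') i k =
      uh σ (M *ᵥ Sum.elim E (Sum.elim y₁ Fv) k) (Sum.elim E (Sum.elim y₁ Fv) i) := by
    intro i k
    rw [Matrix.mul_assoc, conjTranspose_mul_apply, hcol]
    rfl
  have hJ2 : P'ᴴ * M * P' = blk H K L' D E' G A B C := by
    have : Jm * g'.1.1 = P'ᴴ * M * P' := by
      rw [hg'v, ← Matrix.mul_assoc, ← Matrix.mul_assoc, ← Matrix.mul_assoc, Jm_mul_Jm, Matrix.one_mul]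
    rw [← this, hblk, Jm, blk_mul]
    simp
  have hent' : ∀ i k, blk H K L' D E' G A B C i k =
      uh σ (M *ᵥ Sum.elim E (Sum.elim y₁ Fv) k) (Sum.elim E (Sum.elim y₁ Fv) i) := fun i k => by
    rw [← hJ2]; exact hent i k
  have hMe0 : ∀ b (y : Fin n → F), y ∈ Y → uh σ (M *ᵥ e b) y = 0 := fun b y hy =>
    h.swap_zero (hYMe y hy b)
  have hMef : ∀ b a, uh σ (M *ᵥ e b) (f a) = 0 := fun b a => by
    simp [f, uh_sum_right, uh_smul_right, hM, hc.iso]
  refine ⟨H.toBlocks₁₂, C, G, K, L', ?_⟩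
  rw [hblk]
  congr 1
  · ext i k
    have := hent' (.inr (.inr i)) (.inl k)
    rcases i with i | i <;> rcases k with k | k <;>
      simp [blk, E, Fv, hMe0 _ _ (hfam.hf _), hMef, hMyf _ (hfam.he _), hμ _ (hfam.he _) _ (hfam.hf _),
        hfam.ef] at this ⊢
    all_goals simp [this, Matrix.one_apply, eq_comm]
  · ext i k
    have := hent' (.inr (.inr i)) (.inr (.inl k))
    rcases i with i | i <;>
      simp [blk, E, Fv, hMyf _ (hfam.hy _), hμ _ (hfam.hy _) _ (hfam.hf _), hfy'] at this ⊢ <;>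
      exact this
  · ext i k
    have := hent' (.inr (.inl i)) (.inl k)
    rcases k with k | k <;>
      simp [blk, E, Fv, hMe0 _ _ (hfam.hy _), hμ _ (hfam.he _) _ (hfam.hy _), hfam.ey] at this ⊢ <;>
      exact this
  · ext i k
    have := hent' (.inr (.inl i)) (.inr (.inl k))
    simp [blk, E, Fv, hμ _ (hfam.hy _) _ (hfam.hy _), hfam.yy] at this
    simp [this, Matrix.one_apply, eq_comm]
  · ext i k
    have := hent' (.inl i) (.inl k)
    rcases i with i | i <;> rcases k with k | k <;>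
      simp [blk, E, Fv, hMe0 _ _ (hfam.he _), hμ _ (hfam.he _) _ (hfam.he _), hfam.ee] at this ⊢
    all_goals first | exact this | simp [this, Matrix.toBlocks₁₂]

end CfsgLib.KnownB.OreSU
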