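import Cfsg.Agent.Lib.KnownB.OreSU.Frame
import Cfsg.Agent.Lib.KnownB.OreSU.Corner
import Cfsg.Agent.Lib.KnownB.OreSU.Big

/-!
From a good corner to a commutator; the fields with at least sixteen elements.
-/

set_option autoImplicit false
set_option linter.unusedSectionVars false

namespace CfsgLib.KnownB.OreSU

open Matrix Polynomial CfsgLib.Classical CfsgLib.Classical.Unitary

variable {F : Type*} [Field F] [StarRing F] {q : ℕ}

/-- The `StarRing` structure of the Frobenius. -/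
@[implicit_reducible]
def starOf {σ : F →+* F} (hσ : ∀ x, σ (σ x) = x) : StarRing F where
  star := σ
  star_involutive := hσ
  star_mul x y := by rw [map_mul, mul_comm]
  star_add := map_add σ

theorem GoodAt.reindex {ι κ : Type*} [Fintype ι] [DecidableEq ι] [Fintype κ] [DecidableEq κ]
    {M : Matrix ι ι F} {ε : F} (h : GoodAt M ε) (e : ι ≃ κ) : GoodAt (reindex e e M) ε := by
  obtain ⟨Φ, X, P, hΦ, hX, hP, hXP, hz, hd⟩ := h
  refine ⟨Φ, reindexAlgEquiv F F e X, reindexAlgEquiv F F e P, hΦ, by simpa using hX, by simpa using hP, ?_,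
    ?_, by simpa using hd⟩
  · rw [← reindexAlgEquiv_apply F F, ← map_mul, ← map_mul, ← map_mul, hXP]
  · rw [show reindexAlgEquiv F F e X = (reindexAlgEquiv F F e).toAlgHom X from rfl,
      aeval_algHom_apply, hz, map_zero]

theorem norm_one_pow_div {μ : F} (hμ : μ * star μ = 1) (k : ℕ) :
    (μ ^ k)⁻¹ * star ((μ ^ k)⁻¹) = 1 := by
  rw [star_inv₀, ← mul_inv, norm_pow hμ, inv_one]

variable [Finite F] {j l r : ℕ} {μ : F} {N : Matrix (Fin j) (Fin j) F}

/-- Entries of an unreduced product. -/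
theorem hess_mul (S : Matrix (Fin j) (Fin j) F) (h1 : ∀ i k : Fin j, (i : ℕ) = k + 1 → S i k ≠ 0)
    (h0 : ∀ i k : Fin j, (k : ℕ) + 1 < i → S i k = 0) (hN : ∀ a b, b < a → N a b = 0)
    (hN' : ∀ a, N a a ≠ 0) :
    (∀ i m : Fin j, (m : ℕ) + 1 < i → (S * N) i m = 0) ∧
      ∀ i m : Fin j, (i : ℕ) = m + 1 → (S * N) i m ≠ 0 := by
  refine ⟨fun i m him => ?_, fun i m him => ?_⟩
  · rw [Matrix.mul_apply]
    refine Finset.sum_eq_zero fun k _ => ?_
    by_cases hk : m < k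
    · rw [hN k m hk, mul_zero]
    · rw [h0 i k (by have : (k : ℕ) ≤ m := not_lt.1 hk; omega), zero_mul]
  · rw [Matrix.mul_apply, Finset.sum_eq_single m]
    · exact mul_ne_zero (h1 i m him) (hN' m)
    · intro k _ hk
      by_cases hk' : m < k
      · rw [hN k m hk', mul_zero]
      · have : (k : ℕ) < m := lt_of_le_of_ne (not_lt.1 hk') (fun e => hk (Fin.ext e))
        rw [h0 i k (by omega), zero_mul]
    · simp

theorem isUnit_of_upper (hN : ∀ a b, b < a → N a b = 0) (hN' : ∀ a, N a a ≠ 0) : IsUnit N.det := by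
  rw [det_of_isUpperTriangular (show N.IsUpperTriangular from fun a b hab => hN a b hab), isUnit_iff_ne_zero]
  exact Finset.prod_ne_zero_iff.2 fun a _ => hN' a

/-- A good corner gives a commutator. -/
theorem isComm1_of_good (hμ : μ * star μ = 1) {g : UJ F (Fin j ⊕ Fin l) (Fin r)}
    (hdet : g.1.1.det = 1) {T N₂ C L : Matrix (Fin j ⊕ Fin l) (Fin j ⊕ Fin l) F}
    {G : Matrix (Fin r) (Fin j ⊕ Fin l) F} {K : Matrix (Fin j ⊕ Fin l) (Fin r) F}
    (hg : g.1.1 = blk T 0 C 0 (μ • 1) G N₂ K L) {a : Matrix (Fin j ⊕ Fin l) (Fin r) F}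
    {b : Matrix (Fin j ⊕ Fin l) (Fin j ⊕ Fin l) F} (hab : b + bᴴ + a * aᴴ = 0)
    (ha : ∀ i (k : Fin r), (k : ℕ) + 1 < r → a i k = 0) {ε : F} (hM : GoodAt (T + b * N₂) ε)
    {c : F} (hc : c * star c = 1) (hc2 : ε * (c ^ r * μ ^ (r * (r - 1) / 2)) = 1) : IsComm1 g := by
  obtain ⟨Φ, X, P, hΦ, hX, hP, hXP, hz, hd⟩ := hM
  exact isComm1_of_up hμ g hdet hg a b hab ha hΦ hX hP hXP hz ⟨c, hc, by rw [hd, hc2]⟩

theorem exists_norm [Fintype F] (h : UFrob (starRingEnd F) q) (hF : Fintype.card F = q ^ 2) :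
    ∀ x : F, star x = x → ∃ y : F, y * star y = x := by
  intro x hx
  obtain ⟨y, hy⟩ := exists_pow_succ_eq (F := F) (by rw [Nat.card_eq_fintype_card, hF])
    (show x ^ q = x by rw [← h.pow]; exact hx)
  exact ⟨y, by rw [show star y = y ^ q from h.pow y, ← pow_succ', hy]⟩

theorem exists_skew_elem (h : UFrob (starRingEnd F) q) : ∃ c : F, c ≠ 0 ∧ c + star c = 0 :=
  exists_skew h

/-- The case of a field with at least sixteen elements. -/
theorem isComm1_big [Fintype F] (h : UFrob (starRingEnd F) q) (hF : Fintype.card F = q ^ 2)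
    (hq : 4 ≤ q) (hj : 1 ≤ j) (hμ : μ * star μ = 1) (hN : ∀ a b, b < a → N a b = 0)
    (hN' : ∀ a, N a a ≠ 0) (hlr : (l = 0 ∧ r % 2 = 1) ∨ (r = 0 ∧ (l = 0 → 2 ≤ j)))
    {g : UJ F (Fin j ⊕ Fin l) (Fin r)} (hdet : g.1.1.det = 1) (hg : Shape μ N g) : IsComm1 g := by
  obtain ⟨R, C, G, K, L, hg⟩ := hg
  obtain ⟨c₀, hc₀, hc₀s⟩ := exists_skew_elem h
  have hμ0 : μ ≠ 0 := left_ne_zero_of_mul_eq_one hμ
  have hNu := isUnit_of_upper hN hN'
  obtain ⟨S, hSd, hS1, hS0, -, hSa⟩ :=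
    exists_corner (exists_norm h hF) hc₀ hc₀s hj hμ0 hdet hg hNu
  have hSu : IsUnit (S * N).det := by
    rw [det_mul, isUnit_iff_ne_zero]
    exact left_ne_zero_of_mul_eq_one hSd
  let i₀ : Fin j := ⟨0, hj⟩
  let Xb : Matrix (Fin j) (Fin l) F := Matrix.of fun i k => if i = i₀ ∧ (k : ℕ) = 0 then 1 else 0
  obtain ⟨a, hab, ha⟩ := hSa Xb
  obtain ⟨hMd, hMe⟩ := det_corner (N := N) S hSu Xb R μ
  set M := fromBlocks 0 0 0 (μ • 1) + fromBlocks S Xb (-Xbᴴ) 0 * fromBlocks N R 0 0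
  rw [hSd] at hMd
  have hM : M = 1 ∨ ¬ ∃ x : F, M = x • 1 := by
    by_cases hl : l = 0
    · subst hl
      by_cases hj1 : j = 1
      · subst hj1
        left
        have e : ∀ x : Fin 1 ⊕ Fin 0, x = Sum.inl 0 := fun x => by
          rcases x with x | x
          · rw [Subsingleton.elim x 0]
          · exact x.elim0
        ext x y
        have : Unique (Fin 1 ⊕ Fin 0) := { default := Sum.inl 0, uniq := e }
        rw [det_unique, show (default : Fin 1 ⊕ Fin 0) = Sum.inl 0 from e _] at hMd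
        rw [e x, e y, hMd, one_apply_eq]
      · right
        rintro ⟨x, hx⟩
        have h2 := (hess_mul S (fun i k hik => by rw [hS1 i k hik]; simp) hS0 hN hN').2
          ⟨1, by omega⟩ i₀ rfl
        have := congrFun (congrFun (hMe.symm.trans hx) (Sum.inl ⟨1, by omega⟩)) (Sum.inl i₀)
        simp [i₀] at this
        exact h2 this
    · right
      rintro ⟨x, hx⟩
      have := congrFun (congrFun (hMe.symm.trans hx) (Sum.inr ⟨0, Nat.pos_of_ne_zero hl⟩)) (Sum.inl i₀)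
      simp [Matrix.mul_apply, Xb, conjTranspose_apply, apply_ite star, ite_mul] at this
      exact hN' _ this
  have hgood := exists_good_big h hF hq M hMd hM
  rcases hlr with ⟨-, hr⟩ | ⟨hr, -⟩
  · obtain ⟨s, rfl⟩ : ∃ s, r = 2 * s + 1 := ⟨r / 2, by omega⟩
    refine isComm1_of_good hμ hdet hg hab ha hgood (norm_one_pow_div hμ s) ?_
    have e : (2 * s + 1) * (2 * s + 1 - 1) / 2 = s * (2 * s + 1) := by
      rw [Nat.add_sub_cancel, show (2 * s + 1) * (2 * s) = 2 * (s * (2 * s + 1)) by ring,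
        Nat.mul_div_cancel_left _ two_pos]
    rw [one_mul, e, inv_pow, ← pow_mul, inv_mul_cancel₀ (pow_ne_zero _ hμ0)]
  · refine isComm1_of_good hμ hdet hg hab ha hgood (c := 1) (by simp) ?_
    subst hr
    simp

end CfsgLib.KnownB.OreSU
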