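import Cfsg.Agent.Lib.KnownB.OreSU.Basic

/-!
The middle block as a commutator with a diagonal element, and the commutator criterion after a
conjugation by an upper unipotent element.
-/

set_option autoImplicit false
set_option linter.unusedSectionVars false

namespace CfsgLib.KnownB.OreSU

open Matrix Polynomial

variable {F : Type*} [Field F] [StarRing F]

theorem star_sign {r : ℕ} (p : Equiv.Perm (Fin r)) :
    star ((Equiv.Perm.sign p : ℤ) : F) = ((Equiv.Perm.sign p : ℤ) : F) := star_intCast _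

theorem sign_mul_self {r : ℕ} (p : Equiv.Perm (Fin r)) :
    ((Equiv.Perm.sign p : ℤ) : F) * ((Equiv.Perm.sign p : ℤ) : F) = 1 := by
  rw [← Int.cast_mul, ← Units.val_mul, Int.units_mul_self, Units.val_one, Int.cast_one]

theorem norm_pow {μ : F} (hμ : μ * star μ = 1) (k : ℕ) : μ ^ k * star (μ ^ k) = 1 := by
  rw [star_pow, ← mul_pow, hμ, one_pow]

/-- A diagonal matrix of product one, constant off the last place, as a twisted commutator. -/
theorem exists_middle {r : ℕ} {μ : F} (hμ : μ * star μ = 1) (z : Fin r → F)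
    (hz : ∀ i : Fin r, (i : ℕ) + 1 < r → z i = μ) (hp : ∏ i, z i = 1) {c : F}
    (hc : c * star c = 1) :
    ∃ (a₀ : Matrix (Fin r) (Fin r) F) (d : Fin r → F), a₀ᴴ * a₀ = 1 ∧ a₀.det = 1 ∧
      diagonal z * diagonal d * a₀ = a₀ * diagonal d ∧ (∀ i, d i * star (d i) = 1) ∧
      ∏ i, d i = c ^ r * μ ^ (r * (r - 1) / 2) := by
  rcases r with _ | m
  · exact ⟨1, fun _ => 1, by simp, by simp, Subsingleton.elim _ _, fun i => i.elim0, by simp⟩
  let p := finRotate (m + 1)
  let ε : F := ((Equiv.Perm.sign p : ℤ) : F)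
  let δ : Fin (m + 1) → F := Function.update (fun _ => 1) 0 ε
  let d : Fin (m + 1) → F := fun i => c * μ ^ (i : ℕ)
  have hδ : ∀ i, star (δ i) * δ i = 1 := fun i => by
    rcases eq_or_ne i 0 with rfl | hi
    · simp [δ, ε, sign_mul_self]
    · simp [δ, hi]
  have hd : ∀ i, d (p i) = z i * d i := by
    intro i
    by_cases hi : (i : ℕ) + 1 < m + 1
    · have : ((p i : Fin (m + 1)) : ℕ) = i + 1 :=
        coe_finRotate_of_ne_last (fun h => by subst h; simp at hi)
      simp only [d, this, hz i hi, pow_succ]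
      ring
    · have hl : i = Fin.last m := Fin.ext (by have := i.2; simp; omega)
      subst hl
      have hzl : μ ^ m * z (Fin.last m) = 1 := by
        rw [← hp, Fin.prod_univ_castSucc]
        congr 1
        rw [Finset.prod_eq_pow_card (b := μ) fun i _ => hz _ (by have := i.2; simp)]
        simp
      have : p (Fin.last m) = 0 := by simp [p, finRotate_last]
      rw [this]
      simp only [d, Fin.val_zero, pow_zero, mul_one, Fin.val_last]
      linear_combination (-c) * hzl
  refine ⟨diagonal δ * p.permMatrix F, d, ?_, ?_, ?_, fun i => ?_, ?_⟩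
  · have h1 : (diagonal δ)ᴴ * diagonal δ = 1 := by
      rw [diagonal_conjTranspose, diagonal_mul_diagonal]
      simp [hδ]
    rw [conjTranspose_mul, Matrix.mul_assoc, ← Matrix.mul_assoc (diagonal δ)ᴴ, h1, Matrix.one_mul,
      Matrix.conjTranspose_permMatrix, ← Matrix.permMatrix_mul, mul_inv_cancel, Matrix.permMatrix_one]
  · rw [det_mul, det_diagonal, det_permutation, Finset.prod_update_of_mem (Finset.mem_univ _)]
    simpa [ε] using sign_mul_self (F := F) p
  · ext i k
    rw [diagonal_mul_diagonal, ← Matrix.mul_assoc, diagonal_mul_diagonal, diagonal_mul, mul_diagonal,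
      diagonal_mul]
    simp only [Equiv.Perm.permMatrix, PEquiv.toMatrix_apply, Equiv.toPEquiv_apply, Option.mem_def,
      Option.some.injEq]
    by_cases hik : p i = k
    · subst hik; simp [hd]; ring
    · simp [hik]
  · show c * μ ^ (i : ℕ) * star (c * μ ^ (i : ℕ)) = 1
    rw [star_mul']
    linear_combination (μ ^ (i : ℕ) * star (μ ^ (i : ℕ))) * hc + norm_pow hμ i
  · simp only [d, Finset.prod_mul_distrib, Finset.prod_const, Finset.card_univ, Fintype.card_fin]
    rw [Finset.prod_pow_eq_pow_sum, Fin.sum_univ_eq_sum_range (fun i => i), Finset.sum_range_id]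

variable {ι : Type*} [Fintype ι] [DecidableEq ι] [Finite F]

/-- The criterion. -/
theorem isComm1_of_up {r : ℕ} {μ : F} (hμ : μ * star μ = 1) (g : UJ F ι (Fin r))
    (hdetg : g.1.1.det = 1) {T N₂ C : Matrix ι ι F} {G : Matrix (Fin r) ι F}
    {K : Matrix ι (Fin r) F} {L : Matrix ι ι F}
    (hg : g.1.1 = blk T 0 C 0 (μ • 1) G N₂ K L) (a : Matrix ι (Fin r) F) (b : Matrix ι ι F)
    (hab : b + bᴴ + a * aᴴ = 0) (ha : ∀ (i : ι) (k : Fin r), (k : ℕ) + 1 < r → a i k = 0)
    {Φ : F[X]} (hΦ : SApart Φ) {X P : Matrix ι ι F} (hX : IsUnit X.det) (hP : P.det = 1)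
    (hXP : (T + b * N₂) * X * P = P * X) (hz : aeval X Φ = 0)
    (hc : ∃ c : F, c * star c = 1 ∧
      X.det / star X.det * (c ^ r * μ ^ (r * (r - 1) / 2)) = 1) : IsComm1 g := by
  obtain ⟨c, hc1, hc2⟩ := hc
  let u := upE a b hab
  refine IsComm1.of_conj u ?_
  have hab' : bᴴ + bᴴᴴ + -a * (-a)ᴴ = 0 := by
    rw [conjTranspose_conjTranspose, conjTranspose_neg, Matrix.neg_mul, Matrix.mul_neg, neg_neg,
      ← hab]
    abel
  have hinv : u⁻¹ = upE (-a) bᴴ hab' := inv_eq_of_mul_eq_one_right (uj_ext (by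
    simp only [u, uj_mul_val, upE_val, blk_mul, blk_one, OneMemClass.coe_one, Units.val_one]
    congr 1 <;> simp
    rw [← hab]; abel))
  set M := T + b * N₂ with hMdef
  obtain ⟨A2, B2, C2, D2, E2, G2, H2, K2, L2, hg2⟩ := exists_blk (u * g * u⁻¹).1.1
  have hval := hg2
  rw [hinv] at hval
  simp only [u, uj_mul_val, upE_val, hg, blk_mul] at hval
  obtain ⟨eA, eB, -, eD, eE, -⟩ := blk_inj.1 hval.symm
  simp at eA eB eD eE
  subst eA eD
  have hg2' : (u * g * u⁻¹).1.1 = blk M B2 C2 (-(aᴴ * N₂)) E2 G2 H2 K2 L2 := by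
    rw [hg2, hMdef]
  have hA : IsUnit M.det := by
    have h := congrArg Matrix.det hXP
    rw [det_mul, det_mul, det_mul, hP, mul_one, one_mul] at h
    rw [show M.det = 1 from mul_right_cancel₀ hX.ne_zero (by rw [h, one_mul])]
    exact isUnit_one
  have hdetM : M.det = 1 := by
    have h := congrArg Matrix.det hXP
    rw [det_mul, det_mul, det_mul, hP, mul_one, one_mul] at h
    exact mul_right_cancel₀ hX.ne_zero (by rw [h, one_mul])
  obtain ⟨hh, l₀, hl₀, u₀, hu₀, hfac⟩ := exists_gauss _ hg2' hA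
  set hm := E2 - -(aᴴ * N₂) * M⁻¹ * B2 with hhm
  -- the determinant of the middle
  have hd1 : hm.det = 1 := by
    have h := congrArg (dU F ι (Fin r)) hfac
    simp only [map_mul, map_inv, dU_of_mem_Low hl₀, dU_of_mem_Up hu₀, mul_inv_cancel_comm, one_mul,
      mul_one] at h
    rw [dU_eq_one_iff.2 hdetg] at h
    have h' := dU_eq_one_iff.1 h.symm
    rwa [det_lev, hdetM, star_one, div_one, one_mul] at h'
  -- the middle is diagonal
  have hrow : ∀ i : Fin r, (i : ℕ) + 1 < r → ∀ k, hm i k = μ * (1 : Matrix (Fin r) (Fin r) F) i k := by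
    intro i hi k
    have hz1 : ∀ (Z : Matrix ι (Fin r) F) (k : Fin r), (aᴴ * Z) i k = 0 := fun Z k => by
      simp [Matrix.mul_apply, ha _ i hi]
    rw [hhm, eE]
    simp [Matrix.mul_assoc, hz1]
  have hcols : ∀ i k : Fin r, i ≠ k → hm i k = 0 := by
    intro i k hik
    by_cases hi : (i : ℕ) + 1 < r
    · rw [hrow i hi, one_apply_ne hik, mul_zero]
    have hk : (k : ℕ) + 1 < r := by
      have := i.2; have := k.2
      have : (i : ℕ) ≠ k := fun e => hik (Fin.ext e)
      omega
    have h2 : hm * hmᴴ = 1 := mul_eq_one_comm.1 hh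
    have e := congrFun (congrFun h2 i) k
    rw [one_apply_ne hik, Matrix.mul_apply, Finset.sum_eq_single k] at e
    · simpa [hrow k hk, (norm_ne_zero hμ)] using e
    · intro b _ hb
      simp [hrow k hk, one_apply_ne (Ne.symm hb)]
    · simp
  set z := fun i => hm i i
  have hmz : hm = diagonal z := by
    ext i k
    rcases eq_or_ne i k with rfl | hik
    · simp [z]
    · rw [hcols i k hik, diagonal_apply_ne _ hik]
  have hzμ : ∀ i : Fin r, (i : ℕ) + 1 < r → z i = μ := fun i hi => by simp [z, hrow i hi]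
  have hzp : ∏ i, z i = 1 := by rw [← det_diagonal, ← hmz, hd1]
  obtain ⟨a₀, d, ha₀, ha₁, hmid, hd, hprod⟩ := exists_middle hμ z hzμ hzp hc1
  refine isComm1_of_corner _ hg2' hΦ hX hP hXP hz hd ha₀ ha₁ ?_ (by rw [hprod, hc2])
  rw [← hhm, hmz, hmid]
where
  norm_ne_zero {μ : F} (hμ : μ * star μ = 1) : star μ ≠ 0 := right_ne_zero_of_mul_eq_one hμ

end CfsgLib.KnownB.OreSU
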