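import Cfsg.Agent.Lib.KnownB.OreSU.Frame
import Cfsg.Agent.Lib.KnownB.OreSU.Middle
import Cfsg.Agent.Lib.KnownB.OreSU.Glue
import Mathlib.LinearAlgebra.Matrix.Kronecker
import Mathlib.FieldTheory.Finite.Basic

/-!
The scalar elements of the special unitary group are commutators.
-/

set_option autoImplicit false
set_option linter.unusedSectionVars false

namespace CfsgLib.KnownB.OreSU

open Matrix CfsgLib.Classical CfsgLib.Classical.Unitary
open scoped Kronecker

namespace Scalar

variable {F : Type*} [Field F] [StarRing F] {q n : ℕ}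

/-- the twisted commutation of two unitary matrices of determinant one -/
def Pair (ι : Type*) [Fintype ι] [DecidableEq ι] (μ : F) : Prop :=
  ∃ A B : Matrix ι ι F, Aᴴ * A = 1 ∧ Bᴴ * B = 1 ∧ A.det = 1 ∧ B.det = 1 ∧ μ • (B * A) = A * B

theorem Pair.reindex {ι κ : Type*} [Fintype ι] [DecidableEq ι] [Fintype κ] [DecidableEq κ] {μ : F}
    (h : Pair ι μ) (e : ι ≃ κ) : Pair κ μ := by
  obtain ⟨A, B, hA, hB, hdA, hdB, hAB⟩ := h
  have hu : ∀ X : Matrix ι ι F, Xᴴ * X = 1 →
      (reindexAlgEquiv F F e X)ᴴ * reindexAlgEquiv F F e X = 1 := fun X hX => by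
    rw [show (reindexAlgEquiv F F e X)ᴴ = reindexAlgEquiv F F e Xᴴ from conjTranspose_reindex e e X,
      ← map_mul, hX, map_one]
  exact ⟨reindexAlgEquiv F F e A, reindexAlgEquiv F F e B, hu A hA, hu B hB, by simpa using hdA,
    by simpa using hdB, by rw [← map_mul, ← map_mul, ← map_smul, hAB]⟩

/-- the diagonal against the cyclic shift -/
theorem pair_diag {μ c : F} (hμ : μ * star μ = 1) (hμn : μ ^ n = 1) (hc : c * star c = 1)
    (hc2 : c ^ n * μ ^ (n * (n - 1) / 2) = 1) : Pair (Fin n) μ := by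
  obtain ⟨a, d, ha, ha1, hmid, hd, hprod⟩ :=
    exists_middle hμ (fun _ : Fin n => μ) (fun _ _ => rfl) (by simp [hμn]) hc
  refine ⟨a, diagonal d, ha, ?_, ha1, by rw [det_diagonal, hprod, hc2], ?_⟩
  · rw [diagonal_conjTranspose, diagonal_mul_diagonal, ← diagonal_one]
    congr 1
    funext i
    rw [Pi.star_apply, mul_comm, hd]
  · rw [← hmid, ← smul_one_eq_diagonal, smul_mul_assoc, smul_mul_assoc, Matrix.one_mul]

/-- moving a block diagonal matrix through a shift of the blocks -/
theorem shift_mul {l : ℕ} (p : Equiv.Perm (Fin l)) (V : Fin l → Matrix (Fin 2) (Fin 2) F) :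
    ((1 : Matrix (Fin 2) (Fin 2) F) ⊗ₖ p.permMatrix F) * blockDiagonal V =
      blockDiagonal (fun i => V (p i)) * ((1 : Matrix (Fin 2) (Fin 2) F) ⊗ₖ p.permMatrix F) := by
  ext ⟨a, i⟩ ⟨b, k⟩
  simp only [Matrix.mul_apply, Fintype.sum_prod_type, blockDiagonal_apply, kroneckerMap_apply,
    Equiv.Perm.permMatrix, PEquiv.toMatrix_apply, Equiv.toPEquiv_apply, Option.mem_def,
    Option.some.injEq, Matrix.one_apply]
  rw [Finset.sum_eq_single a, Finset.sum_eq_single (p i), Finset.sum_eq_single b, Finset.sum_eq_single i]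
  · by_cases hik : p i = k <;> simp [hik]
  all_goals simp +contextual [eq_comm]

/-- the paired blocks against their shift -/
theorem pair_blocks {μ α β : F} {m : ℕ} (hμ : μ * star μ = 1) (hml : μ ^ (m + 1) = -1)
    (hα : star α = -α) (hβ : star β = μ * β) (hαβ : μ * (β * β) - α * α = 1) :
    Pair (Fin 2 × Fin (m + 1)) μ := by
  let R : Matrix (Fin 2) (Fin 2) F := !![0, μ; 1, 0]
  let Z : Matrix (Fin 2) (Fin 2) F := !![α, μ * β; β, α]
  let w : Matrix (Fin 2) (Fin 2) F := !![1, 0; 0, -1]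
  let p := finRotate (m + 1)
  let W : Fin (m + 1) → Matrix (Fin 2) (Fin 2) F := fun i =>
    (if i = 0 then Z else 1) * (if i = Fin.last m then w else 1)
  let V : Fin (m + 1) → Matrix (Fin 2) (Fin 2) F := fun i => μ ^ (i : ℕ) • R
  have hμ' : star μ * μ = 1 := by rw [mul_comm, hμ]
  have hR : Rᴴ * R = 1 := by
    ext i j
    fin_cases i <;> fin_cases j <;> simp [R, Matrix.mul_apply, Fin.sum_univ_two, hμ']
  have hZ : Zᴴ * Z = 1 := by
    ext i j
    fin_cases i <;> fin_cases j <;>
      simp [Z, Matrix.mul_apply, Fin.sum_univ_two, hα, hβ]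
    · linear_combination hαβ
    · ring
    · linear_combination (β * α) * hμ'
    · linear_combination hαβ + (μ * β * β) * hμ'
  have hw : wᴴ * w = 1 := by
    ext i j
    fin_cases i <;> fin_cases j <;> simp [w, Matrix.mul_apply, Fin.sum_univ_two]
  have hW : ∀ i, (W i)ᴴ * W i = 1 := fun i => by
    simp only [W]
    rw [conjTranspose_mul, Matrix.mul_assoc, ← Matrix.mul_assoc (if i = 0 then Z else 1)ᴴ]
    rw [show (if i = 0 then Z else 1)ᴴ * (if i = 0 then Z else 1) = 1 by split_ifs <;> simp [hZ],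
      Matrix.one_mul]
    split_ifs <;> simp [hw]
  have hZR : Z * R = R * Z := by
    ext i j
    fin_cases i <;> fin_cases j <;> simp [Z, R, Matrix.mul_apply, Fin.sum_univ_two] <;> ring
  have hwR : w * R = -(R * w) := by
    ext i j
    fin_cases i <;> fin_cases j <;> simp [w, R, Matrix.mul_apply, Fin.sum_univ_two]
  have hP : ((1 : Matrix (Fin 2) (Fin 2) F) ⊗ₖ p.permMatrix F)ᴴ *
      ((1 : Matrix (Fin 2) (Fin 2) F) ⊗ₖ p.permMatrix F) = 1 := by
    rw [conjTranspose_kronecker, conjTranspose_one, ← mul_kronecker_mul, Matrix.one_mul,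
      Matrix.conjTranspose_permMatrix, ← Matrix.permMatrix_mul, mul_inv_cancel,
      Matrix.permMatrix_one, one_kronecker_one]
  have hV : (blockDiagonal V)ᴴ * blockDiagonal V = 1 := by
    rw [blockDiagonal_conjTranspose, ← blockDiagonal_mul, ← blockDiagonal_one]
    congr 1
    funext i
    rw [conjTranspose_smul, smul_mul_assoc, mul_smul_comm, smul_smul, mul_comm, norm_pow hμ, one_smul,
      hR]
    rfl
  have hkey : ∀ i, W i * V (p i) = μ • (V i * W i) := by
    intro i
    simp only [W, V]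
    rcases eq_or_ne i (Fin.last m) with rfl | hi
    · simp only [if_true, p, finRotate_last, Fin.val_zero, pow_zero, one_smul, Fin.val_last]
      rw [smul_mul_assoc, smul_smul, ← pow_succ', hml, Matrix.mul_assoc, hwR, neg_one_smul,
        Matrix.mul_neg, ← Matrix.mul_assoc, ← Matrix.mul_assoc]
      congr 2
      split_ifs <;> simp [hZR]
    · rw [if_neg hi, Matrix.mul_one, show ((p i : Fin (m + 1)) : ℕ) = i + 1 from
        coe_finRotate_of_ne_last hi, smul_mul_assoc, smul_smul, ← pow_succ', mul_smul_comm]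
      congr 1
      split_ifs <;> simp [hZR]
  refine ⟨blockDiagonal W * ((1 : Matrix (Fin 2) (Fin 2) F) ⊗ₖ p.permMatrix F), blockDiagonal V,
    ?_, hV, ?_, ?_, ?_⟩
  · rw [conjTranspose_mul, Matrix.mul_assoc, ← Matrix.mul_assoc (blockDiagonal W)ᴴ,
      blockDiagonal_conjTranspose, ← blockDiagonal_mul,
      show (fun k => (W k)ᴴ * W k) = 1 from funext hW, blockDiagonal_one, Matrix.one_mul, hP]
  · rw [det_mul, det_blockDiagonal, det_kronecker, det_one, one_pow, one_mul, det_permutation,
      Fintype.card_fin, pow_two, sign_mul_self, mul_one]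
    have hdZ : Z.det = -1 := by
      simp [Z, Matrix.det_fin_two]; linear_combination -hαβ
    have hdw : w.det = -1 := by simp [w, Matrix.det_fin_two]
    simp only [W, det_mul, apply_ite Matrix.det, det_one, hdZ, hdw, Finset.prod_mul_distrib]
    simp
  · rw [det_blockDiagonal]
    have hdR : R.det = -μ := by simp [R, Matrix.det_fin_two]
    simp only [V, det_smul, Fintype.card_fin, hdR, Finset.prod_mul_distrib, Finset.prod_const,
      Finset.card_univ, ← pow_mul]
    rw [Finset.prod_pow_eq_pow_sum, ← Finset.sum_mul, Fin.sum_univ_eq_sum_range (fun i => i),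
      Finset.sum_range_id_mul_two, Nat.add_sub_cancel, neg_eq_neg_one_mul, mul_pow, mul_comm (m + 1) m,
      pow_mul', hml, pow_succ (-1 : F) m]
    linear_combination (norm := ring_nf) (0 : F) * hμ
    rw [pow_mul', neg_one_sq, one_pow]
    ring
  · rw [Matrix.mul_assoc, shift_mul, ← Matrix.mul_assoc, ← Matrix.mul_assoc, ← blockDiagonal_mul,
      ← blockDiagonal_mul, ← smul_mul_assoc, ← blockDiagonal_smul]
    congr 2
    funext i
    exact (hkey i).symm

theorem exists_pair [Finite F] (h : UFrob (starRingEnd F) q) (hF : Nat.card F = q ^ 2) (hn : 2 ≤ n)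
    {μ : F} (hμ : μ * star μ = 1) (hμn : μ ^ n = 1) : Pair (Fin n) μ := by
  have hμ0 : μ ≠ 0 := left_ne_zero_of_mul_eq_one hμ
  rcases Nat.even_or_odd n with ⟨l, hl⟩ | ⟨l, hl⟩
  · have hn2 : n = 2 * l := by omega
    have hexp : n * (n - 1) / 2 = l * (n - 1) := by
      rw [hn2, mul_assoc, Nat.mul_div_cancel_left _ two_pos]
    have hsq : μ ^ l * μ ^ l = 1 := by rw [← pow_add, ← hl, hμn]
    rcases mul_self_eq_one_iff.1 hsq with h1 | h1
    · refine pair_diag hμ hμn (c := 1) (by simp) ?_
      rw [hexp, pow_mul, h1, one_pow, one_pow, one_mul]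
    · by_cases hs : ∃ ν : F, ν * star ν = 1 ∧ ν * ν = μ
      · obtain ⟨ν, hν, rfl⟩ := hs
        refine pair_diag hμ hμn (norm_one_pow_div hν (n - 1)) ?_
        rw [hexp, ← pow_two, ← pow_mul, inv_pow, ← pow_mul, show 2 * (l * (n - 1)) = (n - 1) * n by
          rw [hn2]; ring,
          inv_mul_cancel₀ (pow_ne_zero _ (left_ne_zero_of_mul_eq_one hν))]
      by_cases h2 : (2 : F) = 0
      · refine pair_diag hμ hμn (c := 1) (by simp) ?_
        rw [hexp, pow_mul, h1, one_pow, one_mul]
        rw [show (-1 : F) = 1 by linear_combination -h2, one_pow]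
      have : Fintype F := Fintype.ofFinite F
      have hchar : ringChar F ≠ 2 := fun e => h2 (by
        have := ringChar.Nat.cast_ringChar (R := F)
        rw [e] at this
        exact_mod_cast this)
      obtain ⟨ρ, hρ⟩ : IsSquare μ := by
        rw [FiniteField.isSquare_iff hchar hμ0, ← Nat.card_eq_fintype_card, hF]
        obtain ⟨k, hk⟩ : ∃ k, q = 2 * k + 1 := by
          refine ⟨q / 2, ?_⟩
          have hodd := FiniteField.odd_card_of_char_ne_two hchar
          rw [← Nat.card_eq_fintype_card, hF, Nat.pow_mod] at hodd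
          rcases Nat.mod_two_eq_zero_or_one q with e | e
          · rw [e] at hodd; norm_num at hodd
          · omega
        have e : q ^ 2 / 2 = (q + 1) * k := by
          have : q ^ 2 = 2 * ((q + 1) * k) + 1 := by subst hk; ring
          omega
        rw [e, pow_mul, pow_succ', ← h.pow μ]
        rw [show starRingEnd F μ = star μ from rfl, hμ, one_pow]
      have hρ0 : ρ ≠ 0 := fun e => hμ0 (by rw [hρ, e, mul_zero])
      have hρs : ρ * star ρ = -1 := by
        have e : (ρ * star ρ) * (ρ * star ρ) = 1 := by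
          rw [hρ, star_mul'] at hμ; linear_combination hμ
        exact (mul_self_eq_one_iff.1 e).resolve_left fun e1 => hs ⟨ρ, e1, hρ.symm⟩
      obtain ⟨c, hc, hcs⟩ := exists_skew_elem h
      have hcs' : star c = -c := eq_neg_of_add_eq_zero_right hcs
      have hρs' : star ρ = -ρ⁻¹ := by
        field_simp; linear_combination hρs
      have h2s : star (2 : F) = 2 := star_ofNat 2
      obtain ⟨m, rfl⟩ : ∃ m, l = m + 1 := ⟨l - 1, by omega⟩
      refine (pair_blocks (α := (c - c⁻¹) / 2) (β := (c + c⁻¹) / (2 * ρ)) hμ h1 ?_ ?_ ?_).reindex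
        (finProdFinEquiv.trans (finCongr hn2.symm))
      · rw [star_div₀, star_sub, star_inv₀, hcs', h2s]
        field_simp; ring
      · rw [star_div₀, star_add, star_mul', star_inv₀, hcs', h2s, hρs', hρ]
        field_simp; ring
      · rw [hρ]; field_simp; ring
  · refine pair_diag hμ hμn (norm_one_pow_div hμ l) ?_
    have e : n * (n - 1) / 2 = l * n := by
      subst hl
      rw [Nat.add_sub_cancel, show (2 * l + 1) * (2 * l) = 2 * (l * (2 * l + 1)) by ring,
        Nat.mul_div_cancel_left _ two_pos]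
    rw [e, inv_pow, ← pow_mul, inv_mul_cancel₀ (pow_ne_zero _ hμ0)]

end Scalar

open Scalar

/-- The scalar elements are commutators. -/
theorem isCommSU_scalar {F : Type*} [Field F] [Finite F] {q n : ℕ} (hF : Nat.card F = q ^ 2)
    (hn : 2 ≤ n) (g : Cfsg.SU n F q) (μ : F) (hg : g.1.1 = μ • 1) :
    ∃ a b : Cfsg.SU n F q, g = a * b * a⁻¹ * b⁻¹ := by
  obtain ⟨τ, hτ⟩ := exists_uFrob hF
  let : StarRing F := starOf hτ.invol
  have h : UFrob (starRingEnd F) q :=
    ⟨fun x => hτ.pow x, fun e => hτ.ne (RingHom.ext fun x => RingHom.congr_fun e x), fun x => hτ.invol x⟩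
  let i₀ : Fin n := ⟨0, by omega⟩
  have hμn : μ ^ n = 1 := by
    have := g.1.2
    rw [hg, det_smul, det_one, mul_one, Fintype.card_fin] at this
    exact this
  have hμ : μ * star μ = 1 := by
    have := su_uh h g (Pi.single i₀ 1) (Pi.single i₀ 1)
    rw [hg, smul_mulVec, one_mulVec, uh_smul_left, uh_smul_right, uh_single_left] at this
    simpa [starRingEnd_apply] using this
  obtain ⟨A, B, hA, hB, hdA, hdB, hAB⟩ := exists_pair h hF hn hμ hμn
  have hmk : ∀ X : Matrix (Fin n) (Fin n) F, Xᴴ * X = 1 → ∀ hd : X.det = 1,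
      (⟨X, hd⟩ : Matrix.SpecialLinearGroup (Fin n) F) ∈ Cfsg.SU n F q := fun X hX hd =>
    mem_SU_iff.2 fun x y => by
      show Cfsg.hermForm n F q (X *ᵥ x) (X *ᵥ y) = _
      rw [h.hermForm_eq, h.hermForm_eq]
      show (X *ᵥ x) ⬝ᵥ star (X *ᵥ y) = x ⬝ᵥ star y
      rw [star_mulVec, dotProduct_comm, ← dotProduct_mulVec, mulVec_mulVec, hX, one_mulVec,
        dotProduct_comm]
  refine ⟨⟨⟨A, hdA⟩, hmk A hA hdA⟩, ⟨⟨B, hdB⟩, hmk B hB hdB⟩, ?_⟩
  rw [eq_mul_inv_iff_mul_eq, eq_mul_inv_iff_mul_eq]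
  refine Subtype.ext (Subtype.ext ?_)
  show g.1.1 * B * A = A * B
  rw [hg, smul_mul_assoc, smul_mul_assoc, Matrix.one_mul, hAB]

end CfsgLib.KnownB.OreSU
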