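import Cfsg.Agent.Lib.KnownB.OreSU.Apart
import Cfsg.Agent.Lib.KnownB.OreSU.Companion
import Cfsg.Agent.Lib.Classical.UnitaryTransv

/-!
Trinomials coprime to their conjugate reversal over the fields with four and nine elements.
-/

set_option autoImplicit false
set_option linter.unusedSimpArgs false
set_option linter.unusedSectionVars false

namespace CfsgLib.KnownB.OreSU

open Matrix Polynomial

namespace SmallPoly

variable {F : Type*} [Field F] [StarRing F]

/-- the criterion: an element of the ideal of the two polynomials with known roots -/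
theorem apart_trinomial {k : ℕ} (hk : 2 ≤ k) {a b r₁ r₂ : F}
    (h1 : star a * b * (r₁ + r₂) = 1 - a * star a - b * star b)
    (h2 : star a * b * (r₁ * r₂) = a * star b) (hb : star a * b ≠ 0)
    (hr₁ : r₁ ^ k + b * r₁ + a ≠ 0) (hr₂ : r₂ ^ k + b * r₂ + a ≠ 0) :
    SApart (X ^ k + C b * X + C a : F[X]) := by
  obtain ⟨j, rfl⟩ : ∃ j, k = j + 1 := ⟨k - 1, by omega⟩
  set f : F[X] := X ^ (j + 1) + C b * X + C a with hf
  refine ⟨C (star a) * X ^ (j + 1) + C (star b) * X ^ j + 1, ⟨j + 1, ?_, ?_⟩, ?_⟩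
  · rw [hf]
    refine (natDegree_add_le _ _).trans (max_le ((natDegree_add_le _ _).trans (max_le ?_ ?_)) ?_)
    · rw [natDegree_X_pow]
    · exact ((natDegree_C_mul_le _ _).trans natDegree_X_le).trans (by omega)
    · rw [natDegree_C]; omega
  · have e : f.map (starRingEnd F) =
        C 1 * X ^ (j + 1) + C (star b) * X ^ 1 + C (star a) * X ^ 0 := by
      simp [hf, starRingEnd_apply]
    rw [e, reflect_add, reflect_add, reflect_C_mul_X_pow, reflect_C_mul_X_pow, reflect_C_mul_X_pow,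
      revAt_le le_rfl, revAt_le (show 1 ≤ j + 1 by omega), revAt_le (Nat.zero_le _)]
    simp only [Nat.sub_self, Nat.sub_zero, Nat.add_sub_cancel, pow_zero, mul_one, map_one]
    ring
  · have hlin : ∀ r : F, r ^ (j + 1) + b * r + a ≠ 0 → IsCoprime f (X - C r) := fun r hr =>
      (((irreducible_X_sub_C r).coprime_iff_not_dvd).2 (fun hdvd => hr (by
        have := (dvd_iff_isRoot.1 hdvd)
        simpa [hf, IsRoot] using this))).symm
    have hu : IsCoprime f (C (-(star a * b))) :=
      isCoprime_one_right.of_isCoprime_of_dvd_right (isUnit_C.2 (neg_ne_zero.2 hb).isUnit).dvd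
    obtain ⟨x, y, hxy⟩ := hu.mul_right ((hlin r₁ hr₁).mul_right (hlin r₂ hr₂))
    refine ⟨x + y * (-C (star a) * X - C (star b)), y * X, ?_⟩
    have e1 : C (star a) * C b * (C r₁ + C r₂) = 1 - C a * C (star a) - C b * C (star b) := by
      rw [← C_add, ← C_mul, ← C_mul, h1, C_sub, C_sub, C_1, C_mul, C_mul]
    have e2 : C (star a) * C b * (C r₁ * C r₂) = C a * C (star b) := by
      simp only [← C_mul]; rw [h2]
    rw [C_neg, C_mul] at hxy
    rw [hf] at hxy ⊢
    linear_combination hxy - y * X * e1 + y * e2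

/-- the pure trinomial -/
theorem apart_binomial {k : ℕ} (_hk : 2 ≤ k) {a : F} (h : a * star a ≠ 1) :
    SApart (X ^ k + C 0 * X + C a : F[X]) := by
  refine ⟨C (star a) * X ^ k + 1, ⟨k, ?_, ?_⟩, ?_⟩
  · simp only [map_zero, zero_mul, add_zero]
    rw [natDegree_X_pow_add_C]
  · have e : (X ^ k + C 0 * X + C a : F[X]).map (starRingEnd F) = C 1 * X ^ k + C (star a) * X ^ 0 := by
      simp [starRingEnd_apply]
    rw [e, reflect_add, reflect_C_mul_X_pow, reflect_C_mul_X_pow, revAt_le le_rfl,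
      revAt_le (Nat.zero_le _)]
    simp only [Nat.sub_self, Nat.sub_zero, pow_zero, mul_one, map_one]
    ring
  · have hne : (1 : F) - a * star a ≠ 0 := sub_ne_zero.2 (Ne.symm h)
    refine ⟨C ((1 - a * star a)⁻¹) * -C (star a), C ((1 - a * star a)⁻¹), ?_⟩
    have e : C ((1 - a * star a)⁻¹) * (1 - C a * C (star a)) = (1 : F[X]) := by
      rw [← C_1, ← C_mul, ← C_sub, ← C_mul, inv_mul_cancel₀ hne]
    simp only [map_zero, zero_mul, add_zero]
    linear_combination e

/-- pairs of residues -/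
abbrev Pr (p : ℕ) := ZMod p × ZMod p

/-- the product -/
def mu {p : ℕ} (x y : Pr p) : Pr p :=
  (x.1 * y.1 + x.2 * y.2, x.1 * y.2 + x.2 * y.1 + x.2 * y.2)

/-- the conjugate -/
def cj {p : ℕ} (x : Pr p) : Pr p := (x.1 + x.2, -x.2)

/-- the conditions in degree two -/
def Two {p : ℕ} [NeZero p] (a b : Pr p) : Prop :=
  b ≠ 0 ∧ mu b b ≠ a + a + (a + a) ∧
    (∃ r₁ r₂ : Pr p, mu (mu (cj a) b) (r₁ + r₂) = (1, 0) - mu a (cj a) - mu b (cj b) ∧
      mu (mu (cj a) b) (mu r₁ r₂) = mu a (cj b) ∧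
      mu r₁ r₁ + mu b r₁ + a ≠ 0 ∧ mu r₂ r₂ + mu b r₂ + a ≠ 0) ∧
    (∀ τ : Pr p, τ ≠ (2, 0) → ∃ w z : Pr p,
      mu w w + mu z z - mu τ (mu w z) + mu b w - mu b z + a = 0) ∧
    ∀ v : Pr p, v ≠ 0 → ∃ x y : Pr p, mu x x - mu b (mu x y) + mu a (mu y y) = v

set_option synthInstance.maxSize 4000 in
set_option synthInstance.maxHeartbeats 200000 in
instance {p : ℕ} [NeZero p] (a b : Pr p) : Decidable (Two a b) := by
  unfold Two; infer_instance

theorem two_four : ∀ e : Pr 2, e = (1, 0) →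
    ∃ a b : Pr 2, a ≠ 0 ∧ a = mu e (cj a) ∧ Two a b := by decide +kernel

theorem two_nine : ∀ e : Pr 3, mu e (cj e) = (1, 0) →
    ∃ a b : Pr 3, a ≠ 0 ∧ a = mu e (cj a) ∧ Two a b := by decide +kernel

variable {p : ℕ} [CharP F p]

variable (p) in
/-- the value of a pair -/
def val (w : F) (x : Pr p) : F :=
  ZMod.castHom (dvd_refl p) F x.1 + ZMod.castHom (dvd_refl p) F x.2 * w

variable {w : F}

theorem val_add (x y : Pr p) : val p w (x + y) = val p w x + val p w y := by
  simp only [val, Prod.fst_add, Prod.snd_add, map_add]; ring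

theorem val_sub (x y : Pr p) : val p w (x - y) = val p w x - val p w y := by
  simp only [val, Prod.fst_sub, Prod.snd_sub, map_sub]; ring

theorem val_zero : val p w (0 : Pr p) = 0 := by simp [val]

theorem val_one : val p w ((1, 0) : Pr p) = 1 := by simp [val]

theorem val_two : val p w ((2, 0) : Pr p) = 2 := by simp [val, map_ofNat]

theorem val_mu (hw : w ^ 2 = w + 1) (x y : Pr p) : val p w (mu x y) = val p w x * val p w y := by
  simp only [val, mu, map_add, map_mul]
  linear_combination (-(ZMod.castHom (dvd_refl p) F x.2 * ZMod.castHom (dvd_refl p) F y.2)) * hw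

theorem val_cj (hstar : star w = 1 - w) (x : Pr p) : val p w (cj x) = star (val p w x) := by
  have hc : ∀ t : ZMod p, star (ZMod.castHom (dvd_refl p) F t) = ZMod.castHom (dvd_refl p) F t := fun t => by
    obtain ⟨n, rfl⟩ := ZMod.intCast_surjective t
    rw [map_intCast, star_intCast]
  simp only [val, cj, map_add, map_neg, star_add, star_mul', hc, hstar]
  ring

theorem val_pw (hw : w ^ 2 = w + 1) (n : ℕ) : val p w (Companion.pw p n) = w ^ n :=
  Companion.cast_pw hw n

theorem val_bij [Fintype F] [NeZero p] (hw : w ^ 2 = w + 1) {o : ℕ} (ho : 0 < o)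
    (hprim : IsPrimitiveRoot w o) (hall : ∀ x : F, x ≠ 0 → x ^ o = 1)
    (hcard : Fintype.card F = p * p) : Function.Bijective (val p w) := by
  rw [Fintype.bijective_iff_surjective_and_card]
  refine ⟨fun x => ?_, by simp [Fintype.card_prod, ZMod.card, hcard]⟩
  rcases eq_or_ne x 0 with rfl | hx
  · exact ⟨0, val_zero⟩
  have : NeZero o := ⟨ho.ne'⟩
  obtain ⟨i, -, rfl⟩ := hprim.eq_pow_of_pow_eq_one (hall x hx)
  exact ⟨_, val_pw hw i⟩

theorem exists_basis (L : Matrix (Fin 2) (Fin 2) F)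
    (hns : L 1 0 ≠ 0 ∨ L 0 1 ≠ 0 ∨ L 0 0 ≠ L 1 1) :
    ∃ S : Matrix (Fin 2) (Fin 2) F, IsUnit S.det ∧ L * S = S * !![0, -L.det; 1, L.trace] := by
  have key : ∀ x y : F, L * !![x, L 0 0 * x + L 0 1 * y; y, L 1 0 * x + L 1 1 * y] =
      !![x, L 0 0 * x + L 0 1 * y; y, L 1 0 * x + L 1 1 * y] * !![0, -L.det; 1, L.trace] := by
    intro x y
    ext i j
    fin_cases i <;> fin_cases j <;>
      simp [Matrix.mul_apply, Fin.sum_univ_two, Matrix.det_fin_two, Matrix.trace_fin_two] <;> ring
  rcases hns with h | h | h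
  · exact ⟨_, by simpa [Matrix.det_fin_two] using h, key 1 0⟩
  · exact ⟨_, by simpa [Matrix.det_fin_two] using h, key 0 1⟩
  · by_cases h10 : L 1 0 = 0
    · by_cases h01 : L 0 1 = 0
      · exact ⟨_, isUnit_iff_ne_zero.2 (by
          simp [Matrix.det_fin_two, h10, h01]
          exact sub_ne_zero.2 (Ne.symm h)), key 1 1⟩
      · exact ⟨_, by simpa [Matrix.det_fin_two] using h01, key 0 1⟩
    · exact ⟨_, by simpa [Matrix.det_fin_two] using h10, key 1 0⟩

theorem nonscalar_of_sep {a b : F} (hsep : b * b ≠ 4 * a) {L : Matrix (Fin 2) (Fin 2) F}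
    (ht : L.trace = -b) (hd : L.det = a) : L 1 0 ≠ 0 ∨ L 0 1 ≠ 0 ∨ L 0 0 ≠ L 1 1 := by
  by_contra h
  push Not at h
  obtain ⟨h1, h2, h3⟩ := h
  rw [Matrix.trace_fin_two, h3] at ht
  rw [Matrix.det_fin_two, h1, h2, h3] at hd
  exact hsep (by linear_combination (2 * L 1 1 - b) * ((-1 : F)) * ht + 4 * hd)

theorem aeval_two {a b : F} {L : Matrix (Fin 2) (Fin 2) F} (ht : L.trace = -b) (hd : L.det = a) :
    aeval L (X ^ 2 + C b * X + C a) = 0 := by
  rw [Matrix.trace_fin_two] at ht
  rw [Matrix.det_fin_two] at hd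
  simp only [map_add, map_mul, map_pow, aeval_X, aeval_C, Algebra.algebraMap_eq_smul_one,
    smul_mul_assoc, one_mul, pow_two]
  ext i j
  fin_cases i <;> fin_cases j <;> simp [Matrix.mul_apply, Fin.sum_univ_two]
  · linear_combination L 0 0 * ht - hd
  · linear_combination L 0 1 * ht
  · linear_combination L 1 0 * ht
  · linear_combination L 1 1 * ht - hd

/-- the commutator in degree two from the finite conditions -/
theorem two_main {a b : F} (ha : a ≠ 0) (hsep : b * b ≠ 4 * a)
    (hconic : ∀ τ : F, τ ≠ 2 → ∃ w z : F, w * w + z * z - τ * (w * z) + b * w - b * z + a = 0)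
    (hnorm : ∀ v : F, v ≠ 0 → ∃ x y : F, x * x - b * (x * y) + a * (y * y) = v)
    (M : Matrix (Fin 2) (Fin 2) F) (hM : M.det = 1) (hτ : M.trace ≠ 2) (hM1 : M ≠ -1) :
    ∃ L P : Matrix (Fin 2) (Fin 2) F,
      L.det = a ∧ P.det = 1 ∧ M * L * P = P * L ∧ aeval L (X ^ 2 + C b * X + C a) = 0 := by
  have hns : M 1 0 ≠ 0 ∨ M 0 1 ≠ 0 ∨ M 0 0 ≠ M 1 1 := by
    by_contra h
    push Not at h
    obtain ⟨h1, h2, h3⟩ := h
    rw [Matrix.det_fin_two, h1, h2, h3] at hM
    rw [Matrix.trace_fin_two, h3] at hτ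
    rcases mul_self_eq_one_iff.1 (show M 1 1 * M 1 1 = 1 by linear_combination hM) with e | e
    · exact hτ (by rw [e]; norm_num)
    · refine hM1 ?_
      ext i j
      fin_cases i <;> fin_cases j <;> simp [h1, h2, h3, e]
  obtain ⟨S, hS, hMS⟩ := exists_basis M hns
  rw [hM] at hMS
  set τ := M.trace
  obtain ⟨w, z, hwz⟩ := hconic τ hτ
  set M0 : Matrix (Fin 2) (Fin 2) F := !![0, -1; 1, τ]
  set L : Matrix (Fin 2) (Fin 2) F := !![-b - w, z - τ * w - b; z, w] with hL
  have hLt : L.trace = -b := by simp [hL, Matrix.trace_fin_two]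
  have hLd : L.det = a := by
    simp [hL, Matrix.det_fin_two]; linear_combination -hwz
  have hMLt : (M0 * L).trace = -b := by
    simp [hL, M0, Matrix.trace_fin_two, Matrix.mul_apply, Fin.sum_univ_two]; ring
  have hMLd : (M0 * L).det = a := by
    rw [Matrix.det_mul, hLd]; simp [M0, Matrix.det_fin_two]
  obtain ⟨S1, hS1, e1⟩ := exists_basis L (nonscalar_of_sep hsep hLt hLd)
  obtain ⟨S2, hS2, e2⟩ := exists_basis (M0 * L) (nonscalar_of_sep hsep hMLt hMLd)
  rw [hLt, hLd] at e1
  rw [hMLt, hMLd] at e2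
  set T := S2 * S1⁻¹
  have hT : IsUnit T.det := by
    rw [Matrix.det_mul]; exact hS2.mul (Matrix.isUnit_nonsing_inv_det _ hS1)
  set C0 : Matrix (Fin 2) (Fin 2) F := !![0, -a; 1, -b]
  have hTL : M0 * L * T = T * L := by
    have h1 : S1⁻¹ * L = C0 * S1⁻¹ :=
      calc S1⁻¹ * L = S1⁻¹ * (L * S1) * S1⁻¹ := by
            rw [← Matrix.mul_assoc, Matrix.mul_nonsing_inv_cancel_right _ _ hS1]
        _ = C0 * S1⁻¹ := by rw [e1, Matrix.nonsing_inv_mul_cancel_left _ _ hS1]
    rw [show T = S2 * S1⁻¹ from rfl, ← Matrix.mul_assoc, e2, Matrix.mul_assoc, Matrix.mul_assoc, h1]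
  obtain ⟨x, y, hxy⟩ := hnorm T.det⁻¹ (inv_ne_zero hT.ne_zero)
  set U : Matrix (Fin 2) (Fin 2) F := x • (1 : Matrix (Fin 2) (Fin 2) F) + y • L
  have hU : U.det = T.det⁻¹ := by
    rw [← hxy]
    simp [U, hL, Matrix.det_fin_two]
    linear_combination (-y * y) * hwz
  have hdP : (T * U).det = 1 := by rw [Matrix.det_mul, hU, mul_inv_cancel₀ hT.ne_zero]
  have hUL : U * L = L * U := by simp [U, add_mul, mul_add, smul_mul_assoc, mul_smul_comm]
  obtain ⟨L', P', -, hd', hP', e', hz'⟩ := Companion.transfer (k := 2) (a := a) (b := b) hS hMS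
    (L := L) (P := T * U) (by rw [hLd]; exact ha.isUnit) hdP
    (by rw [← Matrix.mul_assoc (M0 * L), hTL, Matrix.mul_assoc T L, ← hUL, ← Matrix.mul_assoc T])
    (aeval_two hLt hLd) (by rw [hLd]; ring)
  exact ⟨L', P', by rw [hd']; ring, hP', e', hz'⟩

theorem star_w_two [Fintype F] {w : F} (hF : Fintype.card F = 4) (hw : w ^ 2 = w + 1)
    (hs : ∀ x : F, star x = x ^ 2) : star w = 1 - w := by
  have : CharP F 2 := (Companion.four_data hF).1
  rw [hs]; linear_combination hw + w * CharTwo.two_eq_zero (R := F)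

theorem star_w_three [Fintype F] {w : F} (hF : Fintype.card F = 9) (hw : w ^ 2 = w + 1)
    (hs : ∀ x : F, star x = x ^ 3) : star w = 1 - w := by
  have : CharP F 3 := (Companion.nine_data hF).1
  have h3 : (3 : F) = 0 := by exact_mod_cast CharP.cast_eq_zero F 3
  rw [hs]; linear_combination (w + 1) * hw + w * h3

theorem two_transfer [Fintype F] [NeZero p] (hw : w ^ 2 = w + 1) (hstar : star w = 1 - w)
    (hbij : Function.Bijective (val p w)) (ε : F) {e : Pr p} (he : val p w e = ε)
    (h : ∃ a b : Pr p, a ≠ 0 ∧ a = mu e (cj a) ∧ Two a b) :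
    ∃ a b : F, a ≠ 0 ∧ a / star a = ε ∧ SApart (X ^ 2 + C b * X + C a : F[X]) ∧
      ∀ M : Matrix (Fin 2) (Fin 2) F, M.det = 1 → M.trace ≠ 2 → M ≠ -1 →
        ∃ L P : Matrix (Fin 2) (Fin 2) F, L.det = a ∧ P.det = 1 ∧ M * L * P = P * L ∧
          aeval L (X ^ 2 + C b * X + C a) = 0 := by
  obtain ⟨a, b, ha, hae, hb, hsep, ⟨r₁, r₂, h1, h2, hr1, hr2⟩, hcon, hnorm⟩ := h
  have hne : ∀ {x y : Pr p}, x ≠ y → val p w x ≠ val p w y := fun h e => h (hbij.1 e)
  have hvm := val_mu (p := p) hw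
  have hvc := val_cj (p := p) hstar
  have ha' : val p w a ≠ 0 := fun e => ha (hbij.1 (e.trans val_zero.symm))
  have hsep' : val p w b * val p w b ≠ 4 * val p w a := fun e => hne hsep (by
    rw [hvm, val_add, val_add, e]; ring)
  refine ⟨val p w a, val p w b, ha', ?_, ?_, fun M hM hτ hM1 => ?_⟩
  · have e1 := congrArg (val p w) hae
    rw [hvm, hvc, he] at e1
    rw [div_eq_iff (star_ne_zero.2 ha')]; exact e1
  · have e1 := congrArg (val p w) h1
    have e2 := congrArg (val p w) h2
    simp only [hvm, hvc, val_add, val_sub, val_one] at e1 e2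
    have n1 := hne hr1
    have n2 := hne hr2
    simp only [hvm, val_add, val_zero] at n1 n2
    refine apart_trinomial le_rfl e1 e2 (mul_ne_zero (star_ne_zero.2 ha') ?_)
      (by rw [pow_two]; exact n1) (by rw [pow_two]; exact n2)
    exact fun e => hb (hbij.1 (e.trans val_zero.symm))
  · refine two_main ha' hsep' (fun τ hτ => ?_) (fun v hv => ?_) M hM hτ hM1
    · obtain ⟨t, rfl⟩ := hbij.2 τ
      obtain ⟨x, z, hxz⟩ := hcon t fun e => hτ (by rw [e, val_two])
      refine ⟨val p w x, val p w z, ?_⟩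
      have := congrArg (val p w) hxz
      simpa only [hvm, val_add, val_sub, val_zero] using this
    · obtain ⟨t, rfl⟩ := hbij.2 v
      obtain ⟨x, y, hxy⟩ := hnorm t fun e => hv (by rw [e, val_zero])
      refine ⟨val p w x, val p w y, ?_⟩
      have := congrArg (val p w) hxy
      simpa only [hvm, val_add, val_sub] using this

end SmallPoly

open SmallPoly CfsgLib.Classical.Unitary

variable {F : Type*} [Field F] [Fintype F] [StarRing F]

/-- an admissible trinomial in every degree at least three -/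
theorem exists_small_poly {q : ℕ} (h : UFrob (starRingEnd F) q) (hF : Fintype.card F = q ^ 2)
    (hq : q = 2 ∨ q = 3) (ε : F) (hε : ε * star ε = 1) (h2 : q = 2 → ε = 1) (k : ℕ) (hk : 3 ≤ k) :
    ∃ a b : F, a ≠ 0 ∧ a / star a = ε ∧ SApart (X ^ k + C b * X + C a : F[X]) ∧
      (k = 3 → q = 2 → a = 1 ∧ b * b = b + 1) := by
  have hs : ∀ x : F, star x = x ^ q := fun x => h.pow x
  rcases hq with rfl | rfl
  · obtain ⟨hc, hall, w, hw, hprim⟩ := Companion.four_data (F := F) (by rw [hF]; norm_num)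
    have htwo : (2 : F) = 0 := CharTwo.two_eq_zero
    obtain rfl := h2 rfl
    have hw0 : w ≠ 0 := hprim.ne_zero (by norm_num)
    have hpow : w ^ k = w ^ (k % 3) := by
      conv_lhs => rw [← Nat.div_add_mod k 3, pow_add, pow_mul, hprim.pow_eq_one, one_pow, one_mul]
    by_cases hk1 : k % 3 = 1
    · refine ⟨1, 1, one_ne_zero, by simp, apart_trinomial (r₁ := w) (r₂ := w + 1) (by omega) ?_ ?_ ?_ ?_ ?_,
        fun hk3 => by omega⟩
      · rw [star_one]; linear_combination (w + 1) * htwo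
      · rw [star_one]; linear_combination hw + w * htwo
      · simp
      · rw [hpow, hk1]
        intro e
        exact one_ne_zero (show (1 : F) = 0 by linear_combination e - w * htwo)
      · rw [show (w + 1) ^ k = w ^ (2 * k) by rw [pow_mul, hw]]
        have : w ^ (2 * k) = w ^ 2 := by
          rw [mul_comm, pow_mul, hpow, hk1, pow_one]
        rw [this]
        intro e
        exact one_ne_zero (show (1 : F) = 0 by linear_combination e - hw - (w + 1) * htwo)
    · refine ⟨1, w, one_ne_zero, by simp, apart_trinomial (r₁ := 1) (r₂ := w) (by omega) ?_ ?_ ?_ ?_ ?_,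
        fun _ _ => ⟨rfl, by linear_combination hw⟩⟩
      · rw [star_one, hs]; linear_combination (w + 2) * hw + (2 * w + 1) * htwo
      · rw [star_one, hs]; linear_combination (0 : F) * htwo
      · simpa using hw0
      · rw [one_pow]
        intro e
        exact hw0 (by linear_combination e - htwo)
      · rw [hpow]
        have h3 := Nat.mod_lt k (show 0 < 3 by norm_num)
        intro e
        interval_cases hk' : k % 3
        · exact hw0 (eq_zero_of_pow_eq_zero (n := 2) (by linear_combination e - htwo))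
        · exact absurd rfl hk1
        · exact one_ne_zero (show (1 : F) = 0 by linear_combination e - w ^ 2 * htwo)
  · obtain ⟨hc, hall, w, hw, hprim, hw4⟩ := Companion.nine_data (F := F) (by rw [hF]; norm_num)
    have h3 : (3 : F) = 0 := by exact_mod_cast CharP.cast_eq_zero F 3
    have hbij := val_bij (p := 3) hw (by norm_num) hprim hall (by rw [hF]; norm_num)
    obtain ⟨e, he⟩ := hbij.2 ε
    have hstar := star_w_three (F := F) (by rw [hF]; norm_num) hw hs
    have he1 : mu e (cj e) = (1, 0) := hbij.1 (by rw [val_mu hw, val_cj hstar, he, val_one, hε])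
    obtain ⟨a, -, ha, hae, -⟩ := two_nine e he1
    have ha' : val 3 w a ≠ 0 := fun h' => ha (hbij.1 (h'.trans val_zero.symm))
    have hdiv : val 3 w a / star (val 3 w a) = ε := by
      have e1 := congrArg (val 3 w) hae
      rw [val_mu hw, val_cj hstar, he] at e1
      rw [div_eq_iff (star_ne_zero.2 ha')]; exact e1
    by_cases hn : val 3 w a * star (val 3 w a) = 1
    · obtain ⟨c, hc1, hcn, hcd⟩ : ∃ c : F, c ≠ 1 ∧ c * star c = 1 ∧ c / star c = ε := by
        by_cases hc1 : val 3 w a = 1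
        · refine ⟨-1, fun e' => one_ne_zero (show (1 : F) = 0 by linear_combination e' + h3), by simp, ?_⟩
          rw [← hdiv, hc1]; simp
        · exact ⟨_, hc1, hn, hdiv⟩
      have hc0 : c ≠ 0 := left_ne_zero_of_mul_eq_one hcn
      refine ⟨c, c, hc0, hcd, apart_trinomial (r₁ := 1) (r₂ := 1) (by omega) ?_ ?_ ?_ ?_ ?_,
        fun _ hq2 => by norm_num at hq2⟩
      · linear_combination 4 * hcn + h3
      · linear_combination (0 : F) * h3
      · exact mul_ne_zero (star_ne_zero.2 hc0) hc0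
      all_goals
        rw [one_pow]
        intro e'
        exact hc1 (by linear_combination -e' + c * h3)
    · exact ⟨_, 0, ha', hdiv, apart_binomial (by omega) hn, fun _ hq2 => by norm_num at hq2⟩

/-- an admissible trinomial in degree two, with its commutators -/
theorem exists_small_two {q : ℕ} (h : UFrob (starRingEnd F) q) (hF : Fintype.card F = q ^ 2)
    (hq : q = 2 ∨ q = 3) (ε : F) (hε : ε * star ε = 1) (h2 : q = 2 → ε = 1) :
    ∃ a b : F, a ≠ 0 ∧ a / star a = ε ∧ SApart (X ^ 2 + C b * X + C a : F[X]) ∧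
      ∀ M : Matrix (Fin 2) (Fin 2) F, M.det = 1 → M.trace ≠ 2 →
        (¬ ∃ x : F, M = x • (1 : Matrix (Fin 2) (Fin 2) F)) →
        ∃ L P : Matrix (Fin 2) (Fin 2) F, L.det = a ∧ P.det = 1 ∧ M * L * P = P * L ∧
          aeval L (X ^ 2 + C b * X + C a) = 0 := by
  suffices ∃ a b : F, a ≠ 0 ∧ a / star a = ε ∧ SApart (X ^ 2 + C b * X + C a : F[X]) ∧
      ∀ M : Matrix (Fin 2) (Fin 2) F, M.det = 1 → M.trace ≠ 2 → M ≠ -1 →
        ∃ L P : Matrix (Fin 2) (Fin 2) F, L.det = a ∧ P.det = 1 ∧ M * L * P = P * L ∧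
          aeval L (X ^ 2 + C b * X + C a) = 0 by
    obtain ⟨a, b, ha, hd, hs, hM⟩ := this
    exact ⟨a, b, ha, hd, hs, fun M h1 h2 h3 =>
      hM M h1 h2 fun e => h3 ⟨-1, by rw [e, neg_one_smul]⟩⟩
  have hs : ∀ x : F, star x = x ^ q := fun x => h.pow x
  rcases hq with rfl | rfl
  · obtain ⟨hc, hall, w, hw, hprim⟩ := Companion.four_data (F := F) (by rw [hF]; norm_num)
    have hbij := val_bij (p := 2) hw (by norm_num) hprim hall (by rw [hF]; norm_num)
    exact two_transfer hw (star_w_two (F := F) (by rw [hF]; norm_num) hw hs) hbij ε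
      (e := (1, 0)) (by rw [val_one, h2 rfl]) (two_four _ rfl)
  · obtain ⟨hc, hall, w, hw, hprim, hw4⟩ := Companion.nine_data (F := F) (by rw [hF]; norm_num)
    have hbij := val_bij (p := 3) hw (by norm_num) hprim hall (by rw [hF]; norm_num)
    have hstar := star_w_three (F := F) (by rw [hF]; norm_num) hw hs
    obtain ⟨e, he⟩ := hbij.2 ε
    exact two_transfer hw hstar hbij ε he
      (two_nine e (hbij.1 (by rw [val_mu hw, val_cj hstar, he, val_one, hε])))

end CfsgLib.KnownB.OreSU
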