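import Cfsg.Agent.Lib.KnownB.OreSU.Small
import Cfsg.Agent.Lib.KnownB.OreSU.SmallPoly
import Cfsg.Agent.Lib.KnownB.OreSU.Scalar

/-!
Every element of `SU n q` is a commutator.
-/

set_option autoImplicit false
set_option linter.unusedSectionVars false

namespace CfsgLib.KnownB.OreSU

open Matrix Polynomial CfsgLib.Classical CfsgLib.Classical.Unitary

variable {F : Type*} [Field F] [StarRing F] [Fintype F] {q : ℕ}

theorem polyData (h : UFrob (starRingEnd F) q) (hF : Fintype.card F = q ^ 2) (hq : q = 2 ∨ q = 3) :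
    PolyData F q := fun ε hε h2 k hk => exists_small_poly h hF hq ε hε h2 k hk

theorem twoData (h : UFrob (starRingEnd F) q) (hF : Fintype.card F = q ^ 2) (hq : q = 2 ∨ q = 3) :
    TwoData F q := by
  intro ε hε h2 M hdet hM
  obtain ⟨a, b, ha, hab, hΦ, hall⟩ := exists_small_two h hF hq ε hε h2
  rcases hM with ⟨htr, hns⟩ | rfl
  · obtain ⟨L, P, hL, hP, hLP, hz⟩ := hall M hdet htr hns
    exact ⟨_, L, P, hΦ, by rw [hL]; exact isUnit_iff_ne_zero.2 ha, hP, hLP, hz, by rw [hL, hab]⟩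
  · have hL : (!![0, -a; 1, -b]).det = a := by rw [det_fin_two_of]; ring
    refine ⟨_, !![0, -a; 1, -b], 1, hΦ, by rw [hL]; exact isUnit_iff_ne_zero.2 ha, det_one, by simp,
      ?_, by rw [hL, hab]⟩
    ext i k
    fin_cases i <;> fin_cases k <;>
      simp [Algebra.algebraMap_eq_smul_one, pow_two] <;> ring

variable {n : ℕ}

/-- The theorem, with the Frobenius as `star`. -/
theorem isCommSU_all (h : UFrob (starRingEnd F) q) (hF : Fintype.card F = q ^ 2) (hn : 3 ≤ n)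
    (hex : ¬ (n = 3 ∧ q = 2)) (g : Cfsg.SU n F q) : IsCommSU g := by
  have hF' : Nat.card F = q ^ 2 := by rw [Nat.card_eq_fintype_card, hF]
  rcases scalar_or_normal hF' h g with ⟨μ, hμ⟩ | ⟨j, μ, N, hj, hjn, hμ, hN, hN', hall⟩
  · exact isCommSU_scalar hF' (by omega) g μ hμ
  have hq2 : 2 ≤ q := two_le_q hF'
  by_cases hq : 4 ≤ q
  · by_cases hodd : n % 2 = 1
    · obtain ⟨g', hd, hs, hc⟩ := hall 0 (n - 2 * j) (by omega)
      exact hc (isComm1_big h hF hq hj hμ hN hN' (Or.inl ⟨rfl, by omega⟩) hd hs)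
    · obtain ⟨g', hd, hs, hc⟩ := hall ((n - 2 * j) / 2) 0 (by omega)
      exact hc (isComm1_big h hF hq hj hμ hN hN' (Or.inr ⟨rfl, fun e => by omega⟩) hd hs)
  have hq' : q = 2 ∨ q = 3 := by omega
  rcases (show j = 1 ∨ j = 2 ∨ 3 ≤ j by omega) with rfl | rfl | hj3
  · by_cases hodd : q = 3 ∧ n % 2 = 1
    · obtain ⟨rfl, hodd⟩ := hodd
      obtain ⟨g', hd, hs, hc⟩ := hall 0 (n - 2) (by omega)
      exact hc (isComm1_small_odd h hF (by omega) hμ hN' hd hs)
    · obtain ⟨g', hd, hs, hc⟩ := hall 1 (n - 4) (by omega)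
      exact hc (isComm1_small_one h hF hq' (twoData h hF hq') hμ hN' hd hs)
  · obtain ⟨g', hd, hs, hc⟩ := hall 0 (n - 4) (by omega)
    exact hc (isComm1_small_two h hF hq' (twoData h hF hq') hμ hN hN' hd hs)
  · obtain ⟨g', hd, hs, hc⟩ := hall 0 (n - 2 * j) (by omega)
    exact hc (isComm1_small_ge h hF hq' (polyData h hF hq') hj3 hμ hN hN' hd hs)

omit [StarRing F] in
/-- The theorem. -/
theorem isCommSU_result {n : ℕ} (hn : 3 ≤ n) (hF : Fintype.card F = q ^ 2)
    (hex : ¬ (n = 3 ∧ q = 2)) (g : Cfsg.SU n F q) : IsCommSU g := by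
  obtain ⟨σ, hσ⟩ := exists_uFrob (F := F) (q := q) (by rw [Nat.card_eq_fintype_card, hF])
  let _inst : StarRing F := starOf hσ.invol
  exact isCommSU_all ⟨hσ.pow, fun e => hσ.ne (RingHom.ext fun x => DFunLike.congr_fun e x), hσ.invol⟩
    hF hn hex g

end CfsgLib.KnownB.OreSU
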