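import Cfsg.Agent.Lib.KnownB.OreSU.Glue
import Cfsg.Agent.Lib.KnownB.OreSU.Companion

/-!
The fields with four and nine elements.
-/

set_option autoImplicit false
set_option linter.unusedSectionVars false

namespace CfsgLib.KnownB.OreSU

open Matrix Polynomial CfsgLib.Classical CfsgLib.Classical.Unitary

variable {F : Type*} [Field F] [StarRing F] [Fintype F] {q : ℕ}

variable (F) in
/-- Suitable trinomials in every class. -/
def PolyData (q : ℕ) : Prop :=
  ∀ ε : F, ε * star ε = 1 → (q = 2 → ε = 1) → ∀ k : ℕ, 3 ≤ k → ∃ a b : F, a ≠ 0 ∧ a / star a = ε ∧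
    SApart (X ^ k + Polynomial.C b * X + Polynomial.C a) ∧ (k = 3 → q = 2 → a = 1 ∧ b * b = b + 1)

variable (F) in
/-- Suitable quadratics in every class, with all corners of size two. -/
def TwoData (q : ℕ) : Prop :=
  ∀ ε : F, ε * star ε = 1 → (q = 2 → ε = 1) → ∀ M : Matrix (Fin 2) (Fin 2) F, M.det = 1 →
    (M.trace ≠ 2 ∧ ¬ ∃ x : F, M = x • 1) ∨ M = 1 → GoodAt M ε

/-- The choice of the class and of the middle. -/
theorem exists_eps (h : UFrob (starRingEnd F) q) (hq : q = 2 ∨ q = 3) {μ : F} (hμ : μ * star μ = 1)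
    (r : ℕ) : ∃ ε c : F, ε * star ε = 1 ∧ (q = 2 → ε = 1) ∧ c * star c = 1 ∧
      ε * (c ^ r * μ ^ (r * (r - 1) / 2)) = 1 := by
  have hμ0 : μ ≠ 0 := left_ne_zero_of_mul_eq_one hμ
  rcases hq with rfl | rfl
  · refine ⟨1, μ ^ (r - 1), by simp, fun _ => rfl, norm_pow hμ _, ?_⟩
    have h3 : μ ^ 3 = 1 := by
      rw [show star μ = μ ^ 2 from h.pow μ, ← pow_succ'] at hμ
      exact hμ
    obtain ⟨t, ht⟩ : 2 ∣ r * (r - 1) := (Nat.even_mul_pred_self r).two_dvd
    have e : (r - 1) * r + r * (r - 1) / 2 = 3 * t := by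
      rw [Nat.mul_comm (r - 1) r, ht, Nat.mul_div_cancel_left _ two_pos]; omega
    rw [one_mul, ← pow_mul, ← pow_add, e, pow_mul, h3, one_pow]
  · refine ⟨(μ ^ (r * (r - 1) / 2))⁻¹, 1, norm_one_pow_div hμ _, fun e => absurd e (by norm_num),
      by simp, ?_⟩
    rw [one_pow, one_mul, inv_mul_cancel₀ (pow_ne_zero _ hμ0)]

theorem field_two (hF : Fintype.card F = 2 ^ 2) : (2 : F) = 0 := by
  have h0 : ((Fintype.card F : ℕ) : F) = 0 := FiniteField.cast_card_eq_zero F
  rw [hF] at h0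
  have : (2 : F) * 2 = 0 := by rw [← h0]; norm_num
  exact mul_self_eq_zero.1 this

theorem field_three (hF : Fintype.card F = 3 ^ 2) : (3 : F) = 0 := by
  have h0 : ((Fintype.card F : ℕ) : F) = 0 := FiniteField.cast_card_eq_zero F
  rw [hF] at h0
  have : (3 : F) * 3 = 0 := by rw [← h0]; norm_num
  exact mul_self_eq_zero.1 this

variable {j l r : ℕ} {μ : F} {N : Matrix (Fin j) (Fin j) F}

/-- A corner of size at least three without promotion. -/
theorem isComm1_small_ge (h : UFrob (starRingEnd F) q) (hF : Fintype.card F = q ^ 2)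
    (hq : q = 2 ∨ q = 3) (hpoly : PolyData F q) (hj : 3 ≤ j) (hμ : μ * star μ = 1)
    (hN : ∀ a b, b < a → N a b = 0) (hN' : ∀ a, N a a ≠ 0)
    {g : UJ F (Fin j ⊕ Fin 0) (Fin r)} (hdet : g.1.1.det = 1) (hg : Shape μ N g) : IsComm1 g := by
  obtain ⟨R, C, G, K, L, hg⟩ := hg
  obtain ⟨c₀, hc₀, hc₀s⟩ := exists_skew_elem h
  have hμ0 : μ ≠ 0 := left_ne_zero_of_mul_eq_one hμ
  have hNu := isUnit_of_upper hN hN'
  obtain ⟨S, hSd, hS1, hS0, -, hSa⟩ :=
    exists_corner (exists_norm h hF) hc₀ hc₀s (by omega) hμ0 hdet hg hNu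
  obtain ⟨a, hab, ha⟩ := hSa 0
  obtain ⟨ε, c, hε, hε2, hc, hc2⟩ := exists_eps h hq hμ r
  refine isComm1_of_good hμ hdet hg hab ha ?_ hc hc2
  obtain ⟨h0, h1⟩ := hess_mul S (fun i k hik => by rw [hS1 i k hik]; simp) hS0 hN hN'
  rw [pow_zero, mul_one] at hSd
  have hMd : (S * N).det = 1 := by rw [det_mul, hSd]
  obtain ⟨-, hMe⟩ := det_corner (N := N) S (by rw [hMd]; exact isUnit_one) (0 : Matrix (Fin j) (Fin 0) F) R μ
  rw [hMe]
  obtain ⟨a', b', ha', hε', hΦ, h43⟩ := hpoly ε hε hε2 j hj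
  have hcard : Fintype.card F = 4 ∨ Fintype.card F = 9 := by
    rcases hq with rfl | rfl <;> simp [hF]
  obtain ⟨X', P, hX, hXd, hP, hXP, hz⟩ := exists_comm_companion hcard hj a' b' ha'
    (fun hk h4 => h43 hk (by rcases hq with rfl | rfl <;> simp_all)) (S * N) hMd (exists_cyclic _ h0 h1)
  have hgood : GoodAt (S * N) ε := by
    refine ⟨_, X', P, hΦ, hX, hP, hXP, hz, ?_⟩
    rw [hXd, star_mul', star_pow, star_neg, star_one,
      mul_div_mul_left _ _ (pow_ne_zero _ (neg_ne_zero.2 one_ne_zero)), hε']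
  have := hgood.reindex (Equiv.sumEmpty (Fin j) (Fin 0)).symm
  convert this using 1
  ext (i | i) (k | k)
  · simp
  · exact k.elim0
  · exact i.elim0
  · exact i.elim0

/-- A corner of size two without promotion. -/
theorem isComm1_small_two (h : UFrob (starRingEnd F) q) (hF : Fintype.card F = q ^ 2)
    (hq : q = 2 ∨ q = 3) (htwo : TwoData F q) (hμ : μ * star μ = 1)
    {N : Matrix (Fin 2) (Fin 2) F} (hN : ∀ a b, b < a → N a b = 0) (hN' : ∀ a, N a a ≠ 0)
    {g : UJ F (Fin 2 ⊕ Fin 0) (Fin r)} (hdet : g.1.1.det = 1) (hg : Shape μ N g) : IsComm1 g := by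
  obtain ⟨R, C, G, K, L, hg⟩ := hg
  obtain ⟨c₀, hc₀, hc₀s⟩ := exists_skew_elem h
  have hμ0 : μ ≠ 0 := left_ne_zero_of_mul_eq_one hμ
  have hNu := isUnit_of_upper hN hN'
  have hnorm := exists_norm h hF
  obtain ⟨ε, c, hε, hε2, hc, hc2⟩ := exists_eps h hq hμ r
  suffices hS : ∃ (S : Matrix (Fin 2) (Fin 2) F) (p : Fin 2) (t : F), S.det * N.det = 1 ∧
      S + Sᴴ = Matrix.single p p t ∧ (r = 0 → t = 0) ∧ S 1 0 ≠ 0 ∧ (S * N).trace ≠ 2 by
    obtain ⟨S, p, t, hSd, hS, ht, hS10, htr⟩ := hS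
    obtain ⟨a, hab, ha⟩ := exists_ab hnorm S p t hS ht (0 : Matrix (Fin 2) (Fin 0) F)
    refine isComm1_of_good hμ hdet hg hab ha ?_ hc hc2
    have hMd : (S * N).det = 1 := by rw [det_mul, hSd]
    obtain ⟨-, hMe⟩ := det_corner (N := N) S (by rw [hMd]; exact isUnit_one) (0 : Matrix (Fin 2) (Fin 0) F) R μ
    rw [hMe]
    have hns : ¬ ∃ x : F, S * N = x • 1 := by
      rintro ⟨x, hx⟩
      have := congrFun (congrFun hx 1) 0
      simp [Matrix.mul_apply, Fin.sum_univ_two, hN 1 0 (by decide), hS10, hN' 0] at this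
    have := (htwo ε hε hε2 (S * N) hMd (Or.inl ⟨htr, hns⟩)).reindex (Equiv.sumEmpty (Fin 2) (Fin 0)).symm
    convert this using 1
    ext (i | i) (k | k)
    · simp
    · exact k.elim0
    · exact i.elim0
    · exact i.elim0
  obtain ⟨S, hSd, hS1, -, ⟨p, t, hS, ht⟩, -⟩ :=
    exists_corner hnorm hc₀ hc₀s (by norm_num) hμ0 hdet hg hNu
  rw [pow_zero, mul_one] at hSd
  have hS10 : S 1 0 = -1 := hS1 1 0 rfl
  by_cases htr : (S * N).trace ≠ 2
  · exact ⟨S, p, t, hSd, hS, ht, by rw [hS10]; simp, htr⟩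
  push Not at htr
  rcases hq with rfl | rfl
  swap
  · -- the negative
    refine ⟨-S, p, -t, ?_, ?_, fun hr => by rw [ht hr, neg_zero], by simp [hS10], ?_⟩
    · rw [det_neg, Fintype.card_fin, neg_one_sq, one_mul, hSd]
    · rw [conjTranspose_neg, ← neg_add, hS, ← neg_one_smul F (single p p t), smul_single, neg_one_smul]
    · rw [Matrix.neg_mul, trace_neg, htr]
      intro e
      exact one_ne_zero (α := F) (by linear_combination -e - field_three hF)
  have h2 : (2 : F) = 0 := field_two hF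
  have hneg : ∀ x : F, -x = x := fun x => by linear_combination (-x) * h2
  rw [h2, trace_fin_two] at htr
  simp only [Matrix.mul_apply, Fin.sum_univ_two, hS10, hN 1 0 (by decide), mul_zero, add_zero] at htr
  by_cases hN01 : N 0 1 = 0
  · -- the diagonal case
    set d := (N.det)⁻¹ with hd
    have hdN : d * N.det = 1 := inv_mul_cancel₀ hNu.ne_zero
    have hdet' : ∀ s₁ s₂ : F, (!![s₁, 1; -1, s₂]).det = s₁ * s₂ + 1 := fun s₁ s₂ => by
      rw [det_fin_two_of]; ring
    have hskew : ∀ s₁ s₂ : F, (!![s₁, 1; -1, s₂]) + (!![s₁, 1; -1, s₂])ᴴ =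
        diagonal ![s₁ + star s₁, s₂ + star s₂] := fun s₁ s₂ => by
      ext i k; fin_cases i <;> fin_cases k <;> simp
    have htrace : ∀ s₁ s₂ : F, (!![s₁, 1; -1, s₂] * N).trace = s₁ * N 0 0 + s₂ * N 1 1 := fun s₁ s₂ => by
      rw [trace_fin_two, Matrix.mul_apply, Matrix.mul_apply, Fin.sum_univ_two, Fin.sum_univ_two]
      simp [hN 1 0 (by decide), hN01]
    have hone : (1 : F) + star 1 = 0 := by rw [star_one]; linear_combination h2
    have hsingle : ∀ t : F, diagonal ![0, t] = Matrix.single (1 : Fin 2) 1 t := fun t => by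
      ext i k; fin_cases i <;> fin_cases k <;> simp
    have hsingle' : ∀ t : F, diagonal ![t, 0] = Matrix.single (0 : Fin 2) 0 t := fun t => by
      ext i k; fin_cases i <;> fin_cases k <;> simp
    by_cases hd1 : d = 1
    · refine ⟨!![0, 1; -1, 1], 1, 0, ?_, ?_, fun _ => rfl, by simp, ?_⟩
      · rw [hdet', zero_mul, zero_add, one_mul]
        rwa [hd1, one_mul] at hdN
      · rw [hskew, hone, ← hsingle]; simp
      · rw [htrace, h2]; simpa using hN' 1
    have hfirst : ∀ x : F, (!![1, 1; -1, x]).det * N.det = 1 →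
        (!![1, 1; -1, x] * N).trace ≠ 0 → ∃ (S : Matrix (Fin 2) (Fin 2) F) (p : Fin 2) (t : F),
          S.det * N.det = 1 ∧ S + Sᴴ = Matrix.single p p t ∧ (r = 0 → t = 0) ∧ S 1 0 ≠ 0 ∧
            (S * N).trace ≠ 2 := by
      intro x hx hx'
      have hS' : !![1, 1; -1, x] + (!![1, 1; -1, x])ᴴ = Matrix.single (1 : Fin 2) 1 (x + star x) := by
        rw [hskew, hone, hsingle]
      refine ⟨_, 1, _, hx, hS', fun hr => trace_zero_of_det hr hdet hg hNu hc₀ hc₀s _ _ _ hS'
        (by rw [pow_zero, mul_one, hx]) (by simp [adjugate_fin_two]), by simp, by rw [h2]; exact hx'⟩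
    have hsecond : ∀ x : F, (!![x, 1; -1, 1]).det * N.det = 1 →
        (!![x, 1; -1, 1] * N).trace ≠ 0 → ∃ (S : Matrix (Fin 2) (Fin 2) F) (p : Fin 2) (t : F),
          S.det * N.det = 1 ∧ S + Sᴴ = Matrix.single p p t ∧ (r = 0 → t = 0) ∧ S 1 0 ≠ 0 ∧
            (S * N).trace ≠ 2 := by
      intro x hx hx'
      have hS' : !![x, 1; -1, 1] + (!![x, 1; -1, 1])ᴴ = Matrix.single (0 : Fin 2) 0 (x + star x) := by
        rw [hskew, hone, hsingle']
      refine ⟨_, 0, _, hx, hS', fun hr => trace_zero_of_det hr hdet hg hNu hc₀ hc₀s _ _ _ hS'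
        (by rw [pow_zero, mul_one, hx]) (by simp [adjugate_fin_two]), by simp, by rw [h2]; exact hx'⟩
    by_cases hA : (1 : F) * N 0 0 + (d - 1) * N 1 1 = 0
    · refine hsecond (d - 1) (by rw [hdet', mul_one, sub_add_cancel, hdN]) ?_
      rw [htrace]
      intro hB
      have h1 : ((d - 1) * (d - 1) - 1) * N 1 1 = 0 := by linear_combination (d - 1) * hA - hB
      have h2' : (d - 1) * (d - 1) - 1 = d * d := by linear_combination (-d) * h2
      rw [h2'] at h1
      simp [hN' 1, hd, hNu.ne_zero] at h1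
    · exact hfirst (d - 1) (by rw [hdet', one_mul, sub_add_cancel, hdN]) (by rw [htrace]; exact hA)
  -- rotate the off diagonal entry
  classical
  obtain ⟨w, hw0, hw1⟩ : ∃ w : F, w ≠ 0 ∧ w ≠ 1 := by
    by_contra hcon
    push Not at hcon
    have hsub : (Finset.univ : Finset F) ⊆ {0, 1} := fun x _ => by
      by_cases hx : x = 0 <;> simp [hx, hcon]
    have := Finset.card_le_card hsub
    rw [Finset.card_univ, hF] at this
    exact absurd (this.trans Finset.card_le_two) (by norm_num)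
  have hwN : w * star w = 1 := by
    rw [show star w = w ^ 2 from h.pow w, ← pow_succ']
    have := FiniteField.pow_card_sub_one_eq_one w hw0
    rwa [hF] at this
  let D : Matrix (Fin 2) (Fin 2) F := diagonal ![1, w]
  refine ⟨D * S * Dᴴ, p, t, ?_, ?_, ht, ?_, ?_⟩
  · rw [det_mul, det_mul, det_conjTranspose, det_diagonal, Fin.prod_univ_two]
    simp only [Matrix.cons_val_zero, Matrix.cons_val_one, one_mul]
    linear_combination hSd + S.det * N.det * hwN
  · have e : D * S * Dᴴ + (D * S * Dᴴ)ᴴ = D * (S + Sᴴ) * Dᴴ := by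
      rw [conjTranspose_mul, conjTranspose_mul, conjTranspose_conjTranspose, Matrix.mul_add, Matrix.add_mul,
        ← Matrix.mul_assoc D Sᴴ]
    rw [e, hS]
    ext i k
    simp only [D, diagonal_conjTranspose, mul_diagonal, diagonal_mul]
    fin_cases p <;> fin_cases i <;> fin_cases k <;> simp
    linear_combination t * hwN
  · simp [D, diagonal_conjTranspose, hS10, hw0]
  · rw [h2, trace_fin_two]
    simp only [D, diagonal_conjTranspose, Matrix.mul_apply, Fin.sum_univ_two, hN 1 0 (by decide),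
      mul_zero, add_zero, diagonal_apply]
    simp [hS10]
    intro e
    have h1 : (w - 1) * N 0 1 = 0 := by linear_combination (norm := ring_nf) htr - e + (N 1 1 * S 1 1) * hwN
    exact (mul_eq_zero.1 h1).elim (fun e' => hw1 (sub_eq_zero.1 e')) hN01

/-- A corner of size one. -/
theorem isComm1_small_one (h : UFrob (starRingEnd F) q) (hF : Fintype.card F = q ^ 2)
    (hq : q = 2 ∨ q = 3) (htwo : TwoData F q) (hμ : μ * star μ = 1)
    {N : Matrix (Fin 1) (Fin 1) F} (hN' : ∀ a, N a a ≠ 0) {g : UJ F (Fin 1 ⊕ Fin 1) (Fin r)}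
    (hdet : g.1.1.det = 1) (hg : Shape μ N g) : IsComm1 g := by
  obtain ⟨R, C, G, K, L, hg⟩ := hg
  obtain ⟨c₀, hc₀, hc₀s⟩ := exists_skew_elem h
  have hμ0 : μ ≠ 0 := left_ne_zero_of_mul_eq_one hμ
  have hNu : IsUnit N.det := by rw [det_fin_one, isUnit_iff_ne_zero]; exact hN' 0
  obtain ⟨S, hSd, -, -, -, hSa⟩ :=
    exists_corner (exists_norm h hF) hc₀ hc₀s le_rfl hμ0 hdet hg hNu
  obtain ⟨ε, c, hε, hε2, hc, hc2⟩ := exists_eps h hq hμ r
  have hSN : S 0 0 * N 0 0 * μ = 1 := by simpa using hSd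
  let M2 : F → Matrix (Fin 2) (Fin 2) F := fun x =>
    !![S 0 0 * N 0 0, S 0 0 * R 0 0; -(x * N 0 0), μ + -(x * R 0 0)]
  suffices hx : ∃ x : F, ((M2 x).trace ≠ 2 ∧ ¬ ∃ y : F, M2 x = y • 1) ∨ M2 x = 1 by
    obtain ⟨x, hx⟩ := hx
    obtain ⟨a, hab, ha⟩ := hSa (Matrix.of fun _ _ => star x)
    refine isComm1_of_good hμ hdet hg hab ha ?_ hc hc2
    have hSu : IsUnit (S * N).det := by
      rw [det_mul, isUnit_iff_ne_zero]; exact left_ne_zero_of_mul_eq_one hSd
    obtain ⟨hMd, hMe⟩ := det_corner (N := N) S hSu (Matrix.of fun _ _ => star x) R μ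
    rw [hSd, hMe] at hMd
    rw [hMe]
    have e : fromBlocks (S * N) (S * R) (-(Matrix.of fun _ _ => star x : Matrix (Fin 1) (Fin 1) F)ᴴ * N)
        (μ • 1 + -(Matrix.of fun _ _ => star x : Matrix (Fin 1) (Fin 1) F)ᴴ * R) =
        reindex finSumFinEquiv.symm finSumFinEquiv.symm (M2 x) := by
      ext (i | i) (k | k) <;> fin_cases i <;> fin_cases k <;> simp [M2, Matrix.mul_apply, finSumFinEquiv]
    rw [e] at hMd ⊢
    rw [det_reindex_self] at hMd
    exact (htwo ε hε hε2 (M2 x) hMd hx).reindex _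
  by_cases hR : R 0 0 = 0
  · by_cases hμ1 : μ = 1
    · refine ⟨0, Or.inr ?_⟩
      have : S 0 0 * N 0 0 = 1 := by simpa [hμ1] using hSN
      ext i k
      fin_cases i <;> fin_cases k <;> simp [M2, hR, this, hμ1]
    · refine ⟨1, Or.inl ⟨?_, ?_⟩⟩
      · simp only [M2, trace_fin_two_of, hR, mul_zero, neg_zero, add_zero]
        intro e
        exact hμ1 (sub_eq_zero.1 (mul_self_eq_zero.1 (show (μ - 1) * (μ - 1) = 0 by
          linear_combination μ * e - hSN)))
      · rintro ⟨y, hy⟩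
        have := congrFun (congrFun hy 1) 0
        simp [M2, hN' 0] at this
  · obtain ⟨x, hx0, hx⟩ : ∃ x : F, x ≠ 0 ∧ (M2 x).trace ≠ 2 := by
      classical
      by_contra hcon
      push Not at hcon
      have hsub : (Finset.univ : Finset F) ⊆ {0, 1} := fun x _ => by
        by_cases hx : x = 0
        · simp [hx]
        have e1 := hcon x hx
        have e2 := hcon 1 one_ne_zero
        simp only [M2, trace_fin_two_of] at e1 e2
        have : x = 1 := mul_right_cancel₀ hR (by linear_combination e2 - e1)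
        simp [this]
      have hle := (Finset.card_le_card hsub).trans Finset.card_le_two
      rw [Finset.card_univ, hF] at hle
      rcases hq with rfl | rfl <;> norm_num at hle
    refine ⟨x, Or.inl ⟨hx, ?_⟩⟩
    rintro ⟨y, hy⟩
    have := congrFun (congrFun hy 1) 0
    simp [M2, hN' 0, hx0] at this

/-- Nine elements, a corner of size one and an odd middle. -/
theorem isComm1_small_odd (h : UFrob (starRingEnd F) 3) (hF : Fintype.card F = 3 ^ 2)
    (hr : r % 2 = 1) (hμ : μ * star μ = 1) {N : Matrix (Fin 1) (Fin 1) F} (hN' : ∀ a, N a a ≠ 0)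
    {g : UJ F (Fin 1 ⊕ Fin 0) (Fin r)} (hdet : g.1.1.det = 1) (hg : Shape μ N g) : IsComm1 g := by
  obtain ⟨R, C, G, K, L, hg⟩ := hg
  obtain ⟨c₀, hc₀, hc₀s⟩ := exists_skew_elem h
  have hμ0 : μ ≠ 0 := left_ne_zero_of_mul_eq_one hμ
  have hNu : IsUnit N.det := by rw [det_fin_one, isUnit_iff_ne_zero]; exact hN' 0
  have hnorm := exists_norm h hF
  obtain ⟨S, hSd, -, -, -, hSa⟩ := exists_corner hnorm hc₀ hc₀s le_rfl hμ0 hdet hg hNu
  obtain ⟨a, hab, ha⟩ := hSa 0
  rw [pow_zero, mul_one] at hSd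
  have hSN : S * N = 1 := by
    ext i k
    fin_cases i; fin_cases k
    simp [Matrix.mul_apply]
    simpa using hSd
  obtain ⟨-, hMe⟩ := det_corner (N := N) S (by rw [hSN]; simp) (0 : Matrix (Fin 1) (Fin 0) F) R μ
  have hM : fromBlocks 0 0 0 (μ • 1) + fromBlocks S (0 : Matrix (Fin 1) (Fin 0) F)
      (-(0 : Matrix (Fin 1) (Fin 0) F)ᴴ) 0 * fromBlocks N R 0 0 = 1 := by
    rw [hMe, hSN]
    ext (i | i) (k | k)
    · simp [Matrix.one_apply]
    · exact k.elim0
    · exact i.elim0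
    · exact i.elim0
  obtain ⟨y, hy⟩ := hnorm (-1) (by simp)
  have h3 := field_three hF
  have hy0 : y ≠ 0 := fun e => by simp [e] at hy
  have hy1 : y * star y ≠ 1 := by
    rw [hy]; intro e
    exact one_ne_zero (α := F) (by linear_combination e + h3)
  have hgood : GoodAt (1 : Matrix (Fin 1 ⊕ Fin 0) (Fin 1 ⊕ Fin 0) F) (y / star y) := by
    refine ⟨(([y]).map fun x => Polynomial.X - Polynomial.C x).prod, y • 1, 1, apart_of_roots _ (by simp [hy1]),
      ?_, det_one, by simp, by simp [Algebra.algebraMap_eq_smul_one], by simp⟩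
    rw [det_smul, det_one, mul_one]
    exact (isUnit_iff_ne_zero.2 hy0).pow _
  rw [← hM] at hgood
  set e := r * (r - 1) / 2
  set T := y / star y * μ ^ e with hT
  have hTN : T * star T = 1 := by
    rw [hT, star_mul', star_div₀, star_star, mul_mul_mul_comm, norm_pow hμ, mul_one, div_mul_div_comm,
      mul_comm (star y) y, div_self (mul_ne_zero hy0 (star_ne_zero.2 hy0))]
  have hT4 : T ^ 4 = 1 := by
    rw [show star T = T ^ 3 from h.pow T, ← pow_succ'] at hTN
    exact hTN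
  refine isComm1_of_good hμ hdet hg hab ha hgood (c := (T⁻¹) ^ r) ?_ ?_
  · rw [inv_pow]; exact norm_one_pow_div hTN r
  · obtain ⟨s, hs⟩ : ∃ s, r * r = 4 * s + 1 := by
      obtain ⟨m, rfl⟩ : ∃ m, r = 2 * m + 1 := ⟨r / 2, by omega⟩
      exact ⟨m * m + m, by ring⟩
    have hT0 : T ≠ 0 := left_ne_zero_of_mul_eq_one hTN
    rw [← pow_mul, hs, pow_succ, pow_mul, inv_pow T 4, hT4, inv_one, one_pow, one_mul,
      mul_left_comm, ← hT, inv_mul_cancel₀ hT0]

end CfsgLib.KnownB.OreSU
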